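import Groth.Agent.CMFlatLib.Open
import Mathlib

/-! The Cohen–Macaulay locus is dense in every fibre. -/

set_option autoImplicit false
universe u

open IsLocalRing CommAlgDim GorLib AlgebraicGeometry CategoryTheory TensorProduct

namespace CMFlatLib

theorem dense_fiberι_preimage_isCMAt {X S : Scheme.{u}} (f : X ⟶ S) [Flat f] [LocallyOfFinitePresentation f] (s : S) :
    Dense ((f.fiberι s) ⁻¹' {x : X | MoreMor.IsCMAt f x}) := by
  intro z
  generalize hx : f.fiberι s z = x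
  have hfx : f x = s := by
    rw [← hx]
    exact (Set.ext_iff.mp (f.range_fiberι s) _).mp ⟨z, rfl⟩
  obtain ⟨_, ⟨U, hU, rfl⟩, hxU, -⟩ :=
    S.isBasis_affineOpens.exists_subset_of_mem_open (Set.mem_univ (f x)) isOpen_univ
  obtain ⟨_, ⟨V, hV, rfl⟩, hxV, hVsub⟩ := X.isBasis_affineOpens.exists_subset_of_mem_open
    (show x ∈ (f ⁻¹ᵁ U : X.Opens) from hxU) (f ⁻¹ᵁ U).2
  have hVU : V ≤ f ⁻¹ᵁ U := fun z hz ↦ hVsub hz
  have hfp := f.finitePresentation_appLE hU hV hVU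
  algebraize [(f.appLE U V hVU).hom]
  let q := hV.primeIdealOf ⟨x, hxV⟩
  obtain ⟨Q, hQp, hQ⟩ := exists_fibre_point (R := Γ(S, U)) q
  obtain ⟨Q', hQ'min, hle⟩ := Ideal.exists_minimalPrimes_le (bot_le : ⊥ ≤ Q)
  haveI := hQ'min.1.1
  let F := (q.asIdeal.comap (algebraMap Γ(S, U) Γ(X, V))).Fiber Γ(X, V)
  haveI : IsNoetherianRing F :=
    Algebra.FiniteType.isNoetherianRing (q.asIdeal.comap (algebraMap Γ(S, U) Γ(X, V))).ResidueField _
  let ι := (Algebra.TensorProduct.includeRight : Γ(X, V) →ₐ[Γ(S, U)] F).toRingHom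
  let q' : PrimeSpectrum Γ(X, V) := ⟨Q'.comap ι, inferInstance⟩
  have hq'p : q'.asIdeal.comap (algebraMap Γ(S, U) Γ(X, V)) = q.asIdeal.comap (algebraMap Γ(S, U) Γ(X, V)) := by
    let E := PrimeSpectrum.preimageOrderIsoFiber Γ(S, U) Γ(X, V) ⟨q.asIdeal.comap (algebraMap Γ(S, U) Γ(X, V)), inferInstance⟩
    exact congrArg PrimeSpectrum.asIdeal (E.symm ⟨Q', inferInstance⟩).2
  have hq'q : q'.asIdeal ≤ q.asIdeal := hQ ▸ Ideal.comap_mono hle
  have hdim : ringKrullDim (Localization.AtPrime Q') = 0 := by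
    rw [IsLocalization.AtPrime.ringKrullDim_eq_height Q' (Localization.AtPrime Q'),
      Ideal.height_eq_zero_iff.mpr hQ'min]
    rfl
  haveI : IsNoetherianRing (Localization.AtPrime Q') := IsLocalization.isNoetherianRing Q'.primeCompl _ inferInstance
  have hflat : ∀ P : PrimeSpectrum Γ(X, V), P ∈ FlatLib.flatLocus Γ(S, U) Γ(X, V) Γ(X, V) := fun P ↦ by
    haveI : Module.Flat Γ(S, U) Γ(X, V) := by
      rw [← RingHom.flat_algebraMap_iff]
      exact HasRingHomProperty.appLE (P := @Flat) f inferInstance ⟨U, hU⟩ ⟨V, hV⟩ hVU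
    haveI : Module.Flat Γ(X, V) (Localization.AtPrime P.asIdeal) := IsLocalization.flat _ P.asIdeal.primeCompl
    exact (FlatLib.mem_flatLocus_self_iff P).mpr (Module.Flat.trans Γ(S, U) Γ(X, V) _)
  have hcmy : q' ∈ cmSet Γ(S, U) Γ(X, V) :=
    (mem_cmSet_iff' q' _ hq'p Q' rfl).mpr
      ⟨hflat q', CatLib.isCM_of_hasSeqIn (CommAlgDim.hasSeqIn_zero _) hdim.le⟩
  have hymem : hV.fromSpec q' ∈ V := by
    have h1 : hV.fromSpec q' ∈ Set.range hV.fromSpec := ⟨q', rfl⟩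
    rwa [hV.range_fromSpec] at h1
  have hq'eq : hV.primeIdealOf ⟨hV.fromSpec q', hymem⟩ = q' :=
    hV.fromSpec.isOpenEmbedding.injective (hV.fromSpec_primeIdealOf ⟨_, hymem⟩)
  have hy : MoreMor.IsCMAt f (hV.fromSpec q') := by
    rw [isCMAt_iff_mem_cmSet f hU hV hVU rfl _ hymem, hq'eq]
    exact hcmy
  have hyx : hV.fromSpec q' ⤳ x := by
    rw [← (show hV.fromSpec q = x from hV.fromSpec_primeIdealOf ⟨x, hxV⟩)]
    exact ((PrimeSpectrum.le_iff_specializes q' q).mp hq'q).map hV.fromSpec.continuous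
  have hfy : f (hV.fromSpec q') = s := by
    rw [← hfx, ← (show hV.fromSpec q = x from hV.fromSpec_primeIdealOf ⟨x, hxV⟩)]
    have hover : ∀ P : PrimeSpectrum Γ(X, V), f (hV.fromSpec P) =
        hU.fromSpec (PrimeSpectrum.comap (algebraMap Γ(S, U) Γ(X, V)) P) := fun P ↦ by
      rw [← Scheme.Hom.comp_apply, ← IsAffineOpen.SpecMap_appLE_fromSpec f hU hV hVU]
      rfl
    rw [hover, hover]
    exact congrArg hU.fromSpec (PrimeSpectrum.ext hq'p)
  obtain ⟨z', hz'⟩ : hV.fromSpec q' ∈ Set.range (f.fiberι s) := by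
    rw [f.range_fiberι]; exact hfy
  have hzz : z' ⤳ z := by
    rw [← (f.fiberι s).isEmbedding.isInducing.specializes_iff, hz', hx]
    exact hyx
  exact closure_mono (Set.singleton_subset_iff.mpr (show z' ∈ f.fiberι s ⁻¹' {x | MoreMor.IsCMAt f x} by show MoreMor.IsCMAt f _; rw [hz']; exact hy)) hzz.mem_closure

end CMFlatLib
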