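import Mathlib

/-! Local rings of fibres and polynomial rings over residue fields. -/

set_option autoImplicit false
universe u

open TensorProduct

namespace CMFlatLib

variable {R B : Type u} [CommRing R] [CommRing B] [Algebra R B]

theorem exists_isUnit_smul (p : Ideal R) [p.IsPrime] (x : p.Fiber B) :
    ∃ c : p.ResidueField, c ≠ 0 ∧ c • x ∈ Set.range (Algebra.TensorProduct.includeRight : B →ₐ[R] p.Fiber B) := by
  obtain ⟨r, hr, b, h⟩ := Ideal.Fiber.exists_smul_eq_one_tmul p x
  refine ⟨algebraMap R p.ResidueField r, ?_, b, ?_⟩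
  · exact fun h0 ↦ hr (Ideal.algebraMap_residueField_eq_zero.mp h0)
  · rw [algebraMap_smul]; exact h.symm

/-- The local ring of the fibre at a point. -/
theorem exists_fibreLocal_equiv (p : Ideal R) [p.IsPrime] (Q : Ideal (p.Fiber B)) [Q.IsPrime]
    (q : Ideal B) [q.IsPrime] (hQ : Q.comap (Algebra.TensorProduct.includeRight : B →ₐ[R] p.Fiber B).toRingHom = q) :
    ∃ θ : (Localization.AtPrime q ⧸ p.map (algebraMap R (Localization.AtPrime q))) ≃+* Localization.AtPrime Q,
      ∀ b : B, θ (Ideal.Quotient.mk _ (algebraMap B _ b)) = algebraMap (p.Fiber B) _ (1 ⊗ₜ[R] b) := by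
  letI : Algebra B (p.Fiber B) := Algebra.TensorProduct.rightAlgebra
  let ι : B →+* p.Fiber B := (Algebra.TensorProduct.includeRight : B →ₐ[R] p.Fiber B).toRingHom
  let L := Localization.AtPrime q
  let F := Localization.AtPrime Q
  let I : Ideal L := p.map (algebraMap R L)
  let f : L →+* F := Localization.localRingHom q Q ι hQ.symm
  have hf : ∀ b, f (algebraMap B L b) = algebraMap _ F (ι b) := fun b ↦ Localization.localRingHom_to_map q Q ι hQ.symm b
  have hsurj : Function.Surjective f := fun z ↦ by
    obtain ⟨x, ⟨s, hs⟩, rfl⟩ := IsLocalization.exists_mk'_eq Q.primeCompl z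
    obtain ⟨r, hr, b, hb⟩ := Ideal.Fiber.exists_smul_eq_one_tmul p x
    obtain ⟨r', hr', t, ht⟩ := Ideal.Fiber.exists_smul_eq_one_tmul p s
    have hu : ∀ a ∉ p, IsUnit (algebraMap R F a) := fun a ha ↦ by
      rw [IsScalarTower.algebraMap_apply R p.ResidueField F]
      exact (Ne.isUnit fun h0 ↦ ha (Ideal.algebraMap_residueField_eq_zero.mp h0)).map _
    have htq : t ∉ q := fun h0 ↦ by
      rw [← hQ] at h0
      have h1 : (r' • s : p.Fiber B) ∈ Q := by rw [ht]; exact h0
      rw [Algebra.smul_def] at h1
      have h2 : IsUnit (algebraMap R (p.Fiber B) r') := by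
        rw [IsScalarTower.algebraMap_apply R p.ResidueField (p.Fiber B)]
        exact (Ne.isUnit fun h0 ↦ hr' (Ideal.algebraMap_residueField_eq_zero.mp h0)).map _
      exact hs ((Ideal.unit_mul_mem_iff_mem _ h2).mp h1)
    have hbx : algebraMap R F r * algebraMap _ F x = f (algebraMap B L b) := by
      rw [hf, show ι b = r • x from hb.symm, Algebra.smul_def, map_mul, ← IsScalarTower.algebraMap_apply]
    have hts : algebraMap R F r' * algebraMap _ F s = f (algebraMap B L t) := by
      rw [hf, show ι t = r' • s from ht.symm, Algebra.smul_def, map_mul, ← IsScalarTower.algebraMap_apply]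
    obtain ⟨w, hw⟩ : ∃ w : R, algebraMap R F w = algebraMap R F r' := ⟨r', rfl⟩
    -- `x / s = (r' * b) / (r * t)`
    have hrq : algebraMap R B r ∉ q := fun h0 ↦ by
      rw [← hQ] at h0
      have h1 : algebraMap R (p.Fiber B) r ∈ Q := by
        rw [← (Algebra.TensorProduct.includeRight : B →ₐ[R] p.Fiber B).commutes r]; exact h0
      exact Q.primeCompl.mem_carrier.mp (by
        rw [IsScalarTower.algebraMap_apply R p.ResidueField (p.Fiber B)]
        exact fun h2 ↦ (‹Q.IsPrime›).ne_top (Ideal.eq_top_of_isUnit_mem _ h2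
          ((Ne.isUnit fun h0 ↦ hr (Ideal.algebraMap_residueField_eq_zero.mp h0)).map _))) h1
    obtain ⟨d, hd⟩ : ∃ d : q.primeCompl, (d : B) = algebraMap R B r * t :=
      ⟨⟨_, q.primeCompl.mul_mem hrq htq⟩, rfl⟩
    refine ⟨IsLocalization.mk' L (algebraMap R B r' * b) d, ?_⟩
    rw [IsLocalization.eq_mk'_iff_mul_eq]
    have hR : ∀ a : R, f (algebraMap B L (algebraMap R B a)) = algebraMap R F a := fun a ↦ by
      rw [hf, show ι (algebraMap R B a) = algebraMap R (p.Fiber B) a from
        (Algebra.TensorProduct.includeRight : B →ₐ[R] p.Fiber B).commutes a, ← IsScalarTower.algebraMap_apply]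
    have h1 : f (IsLocalization.mk' L (algebraMap R B r' * b) d) *
        (algebraMap R F r * (algebraMap R F r' * algebraMap _ F s)) = algebraMap R F r' * (algebraMap R F r * algebraMap _ F x) := by
      rw [hts, hbx, ← hR, ← hR, ← map_mul, ← map_mul, ← map_mul, ← map_mul, ← map_mul,
        ← hd,
        IsLocalization.mk'_spec L, map_mul]
    refine ((hu r hr).mul (hu r' hr')).mul_left_cancel ?_
    calc algebraMap R F r * algebraMap R F r' * (f _ * algebraMap _ F s)
        = f _ * (algebraMap R F r * (algebraMap R F r' * algebraMap _ F s)) := by ring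
      _ = _ := h1
      _ = _ := by ring
  have hker : RingHom.ker f = I := by
    refine le_antisymm (fun z hz ↦ ?_) (Ideal.map_le_iff_le_comap.mpr fun a ha ↦ ?_)
    · obtain ⟨b, s, rfl⟩ := IsLocalization.exists_mk'_eq q.primeCompl z
      have h1 : f (algebraMap B L b) = 0 := by
        rw [← IsLocalization.mk'_spec L b s, map_mul, RingHom.mem_ker.mp hz, zero_mul]
      rw [hf, IsLocalization.map_eq_zero_iff Q.primeCompl] at h1
      obtain ⟨⟨c, hc⟩, hcb⟩ := h1
      obtain ⟨r, hr, t, ht⟩ := Ideal.Fiber.exists_smul_eq_one_tmul p c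
      have h2 : ι (t * b) = 0 := by
        rw [map_mul, show ι t = r • c from ht.symm, smul_mul_assoc, hcb, smul_zero]
      have htq : t ∉ q := fun h0 ↦ by
        rw [← hQ] at h0
        have h1 : (r • c : p.Fiber B) ∈ Q := by rw [ht]; exact h0
        rw [Algebra.smul_def] at h1
        have h2 : IsUnit (algebraMap R (p.Fiber B) r) := by
          rw [IsScalarTower.algebraMap_apply R p.ResidueField (p.Fiber B)]
          exact (Ne.isUnit fun h0 ↦ hr (Ideal.algebraMap_residueField_eq_zero.mp h0)).map _
        exact hc ((Ideal.unit_mul_mem_iff_mem _ h2).mp h1)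
      have h3 : (Ideal.Fiber.algEquivAux₁ (S := B) p) (ι (t * b)) = 0 := by rw [h2, map_zero]
      rw [show ι (t * b) = algebraMap B (p.Fiber B) (t * b) from rfl, AlgEquiv.commutes] at h3
      change Ideal.Quotient.mk _ (algebraMap B _ (t * b)) = 0 at h3
      rw [Ideal.Quotient.eq_zero_iff_mem,
        IsLocalization.algebraMap_mem_map_algebraMap_iff (Algebra.algebraMapSubmonoid B p.primeCompl)] at h3
      obtain ⟨_, ⟨r', hr', rfl⟩, h3⟩ := h3
      show _ ∈ p.map (algebraMap R L)
      rw [IsScalarTower.algebraMap_eq R B L, ← Ideal.map_map, IsLocalization.mk'_mem_map_algebraMap_iff]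
      refine ⟨algebraMap R B r' * t, q.primeCompl.mul_mem (fun h0 ↦ ?_) htq, by rwa [mul_assoc]⟩
      rw [← hQ] at h0
      have h1 : algebraMap R (p.Fiber B) r' ∈ Q := by
        rw [← (Algebra.TensorProduct.includeRight : B →ₐ[R] p.Fiber B).commutes r']; exact h0
      rw [IsScalarTower.algebraMap_apply R p.ResidueField (p.Fiber B)] at h1
      exact (‹Q.IsPrime›).ne_top (Ideal.eq_top_of_isUnit_mem _ h1
        ((Ne.isUnit fun h0 ↦ hr' (Ideal.algebraMap_residueField_eq_zero.mp h0)).map _))
    · rw [Ideal.mem_comap, RingHom.mem_ker, IsScalarTower.algebraMap_apply R B L, hf,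
        show ι (algebraMap R B a) = algebraMap R (p.Fiber B) a from
          (Algebra.TensorProduct.includeRight : B →ₐ[R] p.Fiber B).commutes a,
        IsScalarTower.algebraMap_apply R p.ResidueField (p.Fiber B),
        Ideal.algebraMap_residueField_eq_zero.mpr ha, map_zero, map_zero]
  refine ⟨(Ideal.quotEquivOfEq hker.symm).trans (RingHom.quotientKerEquivOfSurjective hsurj), fun b ↦ ?_⟩
  exact hf b

end CMFlatLib
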