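import Groth.Agent.CMFlatLib.QFFlat
import Groth.Agent.CMFlatLib.Fibre
import Groth.Agent.FlatLib.FibMaster
import Groth.Agent.FlatLib.SchemeFlat
import Groth.Agent.RichLib.QFLocusConstructible
import Mathlib

/-! Cohen-Macaulay morphisms and quasi-finite flat maps to relative affine spaces. -/

set_option autoImplicit false
universe u

open IsLocalRing RingTheory.Sequence CommAlgDim GorLib TensorProduct

namespace CMFlatLib

variable {R B : Type u} [CommRing R] [CommRing B] [Algebra R B] [Algebra.FinitePresentation R B]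

/-- Polynomials over the residue field as a flat algebra over polynomials modulo `p`. -/
theorem flat_comp_map_iff {σ : Type u} (p : Ideal R) [p.IsPrime] {C : Type u} [CommRing C]
    (f : MvPolynomial σ p.ResidueField →+* C) :
    f.Flat ↔ (f.comp (Ideal.Quotient.lift (p.map (algebraMap R (MvPolynomial σ R)))
      (MvPolynomial.map (algebraMap R p.ResidueField)) (fun a ha ↦ by
        refine RingHom.mem_ker.mp ((Ideal.map_le_iff_le_comap.mpr fun r hr ↦ ?_) ha)
        show MvPolynomial.map (algebraMap R p.ResidueField) (MvPolynomial.C r) = 0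
        rw [MvPolynomial.map_C, Ideal.algebraMap_residueField_eq_zero.mpr hr, map_zero]))).Flat := by
  let Rq := R ⧸ p
  let K := p.ResidueField
  letI : Algebra (MvPolynomial σ Rq) (MvPolynomial σ K) := MvPolynomial.algebraMvPolynomial
  haveI : IsLocalization ((nonZeroDivisors Rq).map MvPolynomial.C) (MvPolynomial σ K) :=
    MvPolynomial.isLocalization (nonZeroDivisors Rq) K
  letI := f.toAlgebra
  letI : Algebra (MvPolynomial σ Rq) C := (f.comp (algebraMap _ (MvPolynomial σ K))).toAlgebra
  haveI : IsScalarTower (MvPolynomial σ Rq) (MvPolynomial σ K) C := IsScalarTower.of_algebraMap_eq fun _ ↦ rfl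
  have h1 : f.Flat ↔ (f.comp (algebraMap (MvPolynomial σ Rq) (MvPolynomial σ K))).Flat := by
    show (algebraMap (MvPolynomial σ K) C).Flat ↔ (algebraMap (MvPolynomial σ Rq) C).Flat
    rw [RingHom.flat_algebraMap_iff, RingHom.flat_algebraMap_iff]
    exact Module.flat_iff_of_isLocalization (MvPolynomial σ K) ((nonZeroDivisors Rq).map MvPolynomial.C) C
  rw [h1]
  -- the quotient of polynomials is polynomials over the quotient
  let e : (MvPolynomial σ R ⧸ p.map (algebraMap R (MvPolynomial σ R))) ≃+* MvPolynomial σ Rq :=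
    (Ideal.quotEquivOfEq (by rw [MvPolynomial.algebraMap_eq, MvPolynomial.ker_map, Ideal.mk_ker])).trans
      (RingHom.quotientKerEquivOfSurjective (f := MvPolynomial.map (σ := σ) (Ideal.Quotient.mk p))
        (MvPolynomial.map_surjective _ Ideal.Quotient.mk_surjective))
  have he : ∀ P : MvPolynomial σ R, e (Ideal.Quotient.mk _ P) = MvPolynomial.map (Ideal.Quotient.mk p) P := fun P ↦ rfl
  constructor
  · intro hf
    convert RingHom.Flat.comp (RingHom.Flat.of_bijective (f := e.toRingHom) e.bijective) hf using 1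
    refine Ideal.Quotient.ringHom_ext (RingHom.ext fun P ↦ ?_)
    show f _ = f (algebraMap (MvPolynomial σ Rq) (MvPolynomial σ K) (e (Ideal.Quotient.mk _ P)))
    rw [he]
    rw [MvPolynomial.algebraMap_def, MvPolynomial.map_map]
    rfl
  · intro hf
    convert RingHom.Flat.comp (RingHom.Flat.of_bijective (f := e.symm.toRingHom) e.symm.bijective) hf using 1
    refine RingHom.ext fun z ↦ ?_
    obtain ⟨P, rfl⟩ := MvPolynomial.map_surjective (Ideal.Quotient.mk p) Ideal.Quotient.mk_surjective z
    show f (algebraMap (MvPolynomial σ Rq) (MvPolynomial σ K) (MvPolynomial.map (Ideal.Quotient.mk p) P)) =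
      f (Ideal.Quotient.lift _ _ _ (e.symm (MvPolynomial.map (Ideal.Quotient.mk p) P)))
    rw [show e.symm (MvPolynomial.map (Ideal.Quotient.mk p) P) = Ideal.Quotient.mk _ P from
      e.injective (by rw [RingEquiv.apply_symm_apply, he]), MvPolynomial.algebraMap_def, MvPolynomial.map_map]
    rfl

/-- The fibre at the prime `q` of `φ : R[σ] → B` as a map from polynomials over the residue field. -/
noncomputable abbrev fibreMap {σ : Type u} (φ : MvPolynomial σ R →ₐ[R] B) (p : Ideal R) [p.IsPrime] :
    MvPolynomial σ p.ResidueField →ₐ[p.ResidueField] p.Fiber B :=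
  MvPolynomial.aeval fun i ↦ 1 ⊗ₜ[R] φ (MvPolynomial.X i)

omit [Algebra.FinitePresentation R B] in
theorem fibreMap_map {σ : Type u} (φ : MvPolynomial σ R →ₐ[R] B) (p : Ideal R) [p.IsPrime] (P : MvPolynomial σ R) :
    fibreMap φ p (MvPolynomial.map (algebraMap R p.ResidueField) P) = 1 ⊗ₜ[R] φ P := by
  have h : ((fibreMap φ p).toRingHom.comp (MvPolynomial.map (algebraMap R p.ResidueField))) =
      ((Algebra.TensorProduct.includeRight : B →ₐ[R] p.Fiber B).comp φ).toRingHom :=
    MvPolynomial.ringHom_ext (fun r ↦ by simp) fun i ↦ by simp [fibreMap]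
  exact DFunLike.congr_fun h P

variable {σ : Type u}

/-- Fibrewise flatness of `φ` at `q` in terms of the fibre map. -/
theorem fibFlat_iff_fibreMap (φ : MvPolynomial σ R →ₐ[R] B) (q : PrimeSpectrum B) (p : Ideal R) [p.IsPrime]
    (Q : Ideal (p.Fiber B)) [Q.IsPrime]
    (hQ : Q.comap (Algebra.TensorProduct.includeRight : B →ₐ[R] p.Fiber B).toRingHom = q.asIdeal) :
    (letI := φ.toRingHom.toAlgebra
     FlatLib.FibFlat (MvPolynomial σ R) B B (p.map (algebraMap R (MvPolynomial σ R))) q.asIdeal) ↔
      (letI := (fibreMap φ p).toRingHom.toAlgebra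
       Module.Flat (MvPolynomial σ p.ResidueField) (Localization.AtPrime Q)) := by
  letI := φ.toRingHom.toAlgebra
  let A := MvPolynomial σ R
  let L := Localization.AtPrime q.asIdeal
  let I : Ideal A := p.map (algebraMap R A)
  haveI : IsScalarTower R A B := IsScalarTower.of_algebraMap_eq fun r ↦ (φ.commutes r).symm
  obtain ⟨θ, hθ⟩ := exists_fibreLocal_equiv p Q q.asIdeal hQ
  rw [FlatLib.fibFlat_iff q.asIdeal (Algebra.linearMap B L), FlatCrit.flat_tensor_quotient_iff]
  let f : MvPolynomial σ p.ResidueField →+* Localization.AtPrime Q :=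
    (algebraMap (p.Fiber B) (Localization.AtPrime Q)).comp (fibreMap φ p).toRingHom
  have hI : I.map (algebraMap A L) = p.map (algebraMap R L) := by
    rw [Ideal.map_map, IsScalarTower.algebraMap_eq R B L, IsScalarTower.algebraMap_eq A B L,
      IsScalarTower.algebraMap_eq R A B]
    rfl
  let e : (L ⧸ I.map (algebraMap A L)) ≃+* Localization.AtPrime Q := (Ideal.quotEquivOfEq hI).trans θ
  letI := (fibreMap φ p).toRingHom.toAlgebra
  have hA : f = algebraMap (MvPolynomial σ p.ResidueField) (Localization.AtPrime Q) := rfl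
  have key : RingHom.Flat (R := MvPolynomial σ p.ResidueField) (S := Localization.AtPrime Q) f ↔ Module.Flat (MvPolynomial σ p.ResidueField) (Localization.AtPrime Q) := by
    rw [hA]
    exact RingHom.flat_algebraMap_iff (R := MvPolynomial σ p.ResidueField) (S := Localization.AtPrime Q)
  refine Iff.trans ?_ ((flat_comp_map_iff (σ := σ) p (C := Localization.AtPrime Q) f).symm.trans key)
  constructor
  · intro hf
    convert RingHom.Flat.comp hf (RingHom.Flat.of_bijective (R := L ⧸ I.map (algebraMap A L)) (S := Localization.AtPrime Q) (f := e.toRingHom) e.bijective) using 1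
    refine Ideal.Quotient.ringHom_ext (RingHom.ext fun P ↦ ?_)
    show algebraMap _ _ (fibreMap φ p (MvPolynomial.map _ P)) = θ (Ideal.Quotient.mk _ (algebraMap B L (φ P)))
    rw [hθ, fibreMap_map]
  · intro hf
    convert RingHom.Flat.comp hf (RingHom.Flat.of_bijective (R := Localization.AtPrime Q) (S := L ⧸ I.map (algebraMap A L)) (f := e.symm.toRingHom) e.symm.bijective) using 1
    refine Ideal.Quotient.ringHom_ext (RingHom.ext fun P ↦ ?_)
    show _ = e.symm (algebraMap _ _ (fibreMap φ p (MvPolynomial.map _ P)))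
    rw [fibreMap_map, ← hθ]
    show _ = e.symm (e (Ideal.Quotient.mk _ (algebraMap B L (φ P))))
    rw [RingEquiv.symm_apply_apply]
    rfl

omit [Algebra.FinitePresentation R B] in
/-- Comparable points of a fibre of `φ` correspond to those of the fibre map. -/
theorem comap_fibreMap_eq (φ : MvPolynomial σ R →ₐ[R] B) (p : Ideal R) [p.IsPrime]
    (Q Q' : Ideal (p.Fiber B))
    (h : (Q'.comap (Algebra.TensorProduct.includeRight : B →ₐ[R] p.Fiber B).toRingHom).comap φ.toRingHom =
      (Q.comap (Algebra.TensorProduct.includeRight : B →ₐ[R] p.Fiber B).toRingHom).comap φ.toRingHom) :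
    Q'.comap (fibreMap φ p).toRingHom = Q.comap (fibreMap φ p).toRingHom := by
  have key : ∀ J : Ideal (p.Fiber B), (J.comap (fibreMap φ p).toRingHom).comap
      (MvPolynomial.map (algebraMap R p.ResidueField)) =
      (J.comap (Algebra.TensorProduct.includeRight : B →ₐ[R] p.Fiber B).toRingHom).comap φ.toRingHom := fun J ↦ by
    ext P
    show fibreMap φ p (MvPolynomial.map _ P) ∈ J ↔ (1 ⊗ₜ[R] φ P) ∈ J
    rw [fibreMap_map]
  rw [← key, ← key] at h
  letI : Algebra (MvPolynomial σ (R ⧸ p)) (MvPolynomial σ p.ResidueField) := MvPolynomial.algebraMvPolynomial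
  haveI : IsLocalization ((nonZeroDivisors (R ⧸ p)).map MvPolynomial.C) (MvPolynomial σ p.ResidueField) :=
    MvPolynomial.isLocalization (nonZeroDivisors (R ⧸ p)) p.ResidueField
  have hfac : MvPolynomial.map (algebraMap R p.ResidueField) =
      (algebraMap (MvPolynomial σ (R ⧸ p)) (MvPolynomial σ p.ResidueField)).comp (MvPolynomial.map (Ideal.Quotient.mk p)) :=
    by rw [MvPolynomial.algebraMap_def]
       exact MvPolynomial.ringHom_ext (fun r ↦ by simp only [RingHom.comp_apply, MvPolynomial.map_C]; rfl)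
        fun i ↦ by simp only [RingHom.comp_apply, MvPolynomial.map_X]
  rw [hfac, ← Ideal.comap_comap, ← Ideal.comap_comap] at h
  have h2 := Ideal.comap_injective_of_surjective _ (MvPolynomial.map_surjective _ Ideal.Quotient.mk_surjective) h
  have h3 := congrArg (Ideal.map (algebraMap (MvPolynomial σ (R ⧸ p)) (MvPolynomial σ p.ResidueField))) h2
  rwa [IsLocalization.map_comap ((nonZeroDivisors (R ⧸ p)).map MvPolynomial.C),
    IsLocalization.map_comap ((nonZeroDivisors (R ⧸ p)).map MvPolynomial.C)] at h3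

/-- Near a point where the fibre is CM and the map is flat there is a quasi-finite flat map to an
affine space over the base. -/
theorem exists_qf_flat_of_isCM_fibre (q : PrimeSpectrum B) (hflat : q ∈ FlatLib.flatLocus R B B)
    (p : Ideal R) [p.IsPrime] (Q : Ideal (p.Fiber B)) [Q.IsPrime]
    (hQ : Q.comap (Algebra.TensorProduct.includeRight : B →ₐ[R] p.Fiber B).toRingHom = q.asIdeal)
    (hp : q.asIdeal.comap (algebraMap R B) = p)
    (hcm : IsCM (Localization.AtPrime Q)) :
    ∃ (d : ℕ) (φ : MvPolynomial (ULift.{u} (Fin d)) R →ₐ[R] B),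
      FlatMor.localDim (PrimeSpectrum (p.Fiber B)) ⟨Q, inferInstance⟩ = (d : WithBot ℕ∞) ∧
      (letI := φ.toRingHom.toAlgebra
       Algebra.QuasiFiniteAt (MvPolynomial (ULift.{u} (Fin d)) R) q.asIdeal ∧
        q ∈ FlatLib.flatLocus (MvPolynomial (ULift.{u} (Fin d)) R) B B) := by
  obtain ⟨d, ψ, hψS, hiso, hd, hψ⟩ := exists_flat_quasiFiniteAt_of_isCM p.ResidueField Q hcm
    (Set.range (Algebra.TensorProduct.includeRight : B →ₐ[R] p.Fiber B)) (exists_isUnit_smul p)
  choose bs hbs using hψS
  let τ := ULift.{u} (Fin d)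
  let φ : MvPolynomial τ R →ₐ[R] B := MvPolynomial.aeval fun i ↦ bs i.down
  let ρ : MvPolynomial τ p.ResidueField →ₐ[p.ResidueField] MvPolynomial (Fin d) p.ResidueField :=
    MvPolynomial.rename ULift.down
  have hρ : Function.Bijective ρ := (MvPolynomial.renameEquiv p.ResidueField Equiv.ulift).bijective
  have hρψ : fibreMap φ p = ψ.comp ρ := MvPolynomial.algHom_ext fun i ↦ by simp [fibreMap, φ, ρ, ← hbs]
  have hqf : ∀ Q' : PrimeSpectrum (p.Fiber B),
      Q'.asIdeal.comap (fibreMap φ p).toRingHom = Q.comap (fibreMap φ p).toRingHom →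
      (Q'.asIdeal ≤ Q ∨ Q ≤ Q'.asIdeal) → Q'.asIdeal = Q := fun Q' hQ' hle ↦ by
    rw [hρψ] at hQ'
    change (Q'.asIdeal.comap ψ.toRingHom).comap ρ.toRingHom = (Q.comap ψ.toRingHom).comap ρ.toRingHom at hQ'
    exact hiso Q' (Ideal.comap_injective_of_surjective _ hρ.2 hQ') hle
  refine ⟨d, φ, hd, ?_, ?_⟩
  · letI := φ.toRingHom.toAlgebra
    haveI : IsScalarTower R (MvPolynomial τ R) B := IsScalarTower.of_algebraMap_eq fun r ↦ (φ.commutes r).symm
    haveI : Algebra.FiniteType (MvPolynomial τ R) B := Algebra.FiniteType.of_restrictScalars_finiteType R _ B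
    refine quasiFiniteAt_of_isolated q fun P hP hle ↦ ?_
    have hPp : PrimeSpectrum.comap (algebraMap R B) P = ⟨p, inferInstance⟩ := by
      refine PrimeSpectrum.ext ?_
      show P.asIdeal.comap (algebraMap R B) = p
      rw [← hp, IsScalarTower.algebraMap_eq R (MvPolynomial τ R) B, ← Ideal.comap_comap, ← Ideal.comap_comap]
      exact congrArg (fun z : PrimeSpectrum (MvPolynomial τ R) ↦ Ideal.comap (algebraMap R (MvPolynomial τ R)) z.asIdeal) hP
    let E := PrimeSpectrum.preimageOrderIsoFiber R B ⟨p, inferInstance⟩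
    let P' := E ⟨P, hPp⟩
    have hPP' : P'.asIdeal.comap (Algebra.TensorProduct.includeRight : B →ₐ[R] p.Fiber B).toRingHom = P.asIdeal :=
      congrArg (fun z ↦ z.1.asIdeal) (E.symm_apply_apply ⟨P, hPp⟩)
    have hQq : E ⟨q, PrimeSpectrum.ext hp⟩ = ⟨Q, inferInstance⟩ := by
      rw [← E.eq_symm_apply]
      exact Subtype.ext (PrimeSpectrum.ext hQ.symm)
    have h2 := hqf P' (comap_fibreMap_eq φ p Q P'.asIdeal (by
      rw [hPP', hQ]
      exact congrArg PrimeSpectrum.asIdeal hP)) (by
      rcases hle with hle | hle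
      · left
        have := E.monotone (show (⟨P, hPp⟩ : PrimeSpectrum.comap (algebraMap R B) ⁻¹' {⟨p, inferInstance⟩}) ≤ ⟨q, PrimeSpectrum.ext hp⟩ from hle)
        rw [hQq] at this
        exact this
      · right
        have := E.monotone (show (⟨q, PrimeSpectrum.ext hp⟩ : PrimeSpectrum.comap (algebraMap R B) ⁻¹' {⟨p, inferInstance⟩}) ≤ ⟨P, hPp⟩ from hle)
        rw [hQq] at this
        exact this)
    refine PrimeSpectrum.ext ?_
    rw [← hPP', h2, hQ]
  · letI := φ.toRingHom.toAlgebra
    haveI : IsScalarTower R (MvPolynomial τ R) B := IsScalarTower.of_algebraMap_eq fun r ↦ (φ.commutes r).symm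
    have hfib : FlatLib.FibFlat (MvPolynomial τ R) B B (p.map (algebraMap R (MvPolynomial τ R))) q.asIdeal := by
      refine (fibFlat_iff_fibreMap φ q p Q hQ).mpr ?_
      obtain ⟨-, hψf⟩ := hψ
      letI := (fibreMap φ p).toRingHom.toAlgebra
      refine (RingHom.flat_algebraMap_iff (R := MvPolynomial τ p.ResidueField) (S := Localization.AtPrime Q)).mp ?_
      replace hψf : RingHom.Flat (R := MvPolynomial (Fin d) p.ResidueField) (S := Localization.AtPrime Q) ((algebraMap (p.Fiber B) (Localization.AtPrime Q)).comp ψ.toRingHom) := by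
        letI := ψ.toRingHom.toAlgebra
        exact (RingHom.flat_algebraMap_iff (R := MvPolynomial (Fin d) p.ResidueField) (S := Localization.AtPrime Q)).mpr hψf
      convert RingHom.Flat.comp (RingHom.Flat.of_bijective (f := ρ.toRingHom) hρ) hψf using 1
      refine RingHom.ext fun z ↦ ?_
      show algebraMap (p.Fiber B) _ (fibreMap φ p z) = algebraMap (p.Fiber B) _ (ψ (ρ z))
      rw [hρψ]; rfl
    subst hp
    haveI : Nontrivial (LocalizedModule q.asIdeal.primeCompl B) := by
      exact (IsLocalizedModule.linearEquiv q.asIdeal.primeCompl (LocalizedModule.mkLinearMap _ B)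
        (Algebra.linearMap B (Localization.AtPrime q.asIdeal))).toEquiv.nontrivial
    obtain ⟨U, -, hqU, hU⟩ := FlatLib.exists_open_of_fibFlat (R := R) (S := MvPolynomial τ R) (S' := B) (M := B)
      q hflat hfib inferInstance
    exact (hU q hqU).1

/-- Points where `φ` is flat and quasi-finite have CM fibres over the base. -/
theorem isCM_fibre_of_qf_flat [Finite σ] (φ : MvPolynomial σ R →ₐ[R] B) (q : PrimeSpectrum B)
    (p : Ideal R) [p.IsPrime] (Q : Ideal (p.Fiber B)) [Q.IsPrime]
    (hQ : Q.comap (Algebra.TensorProduct.includeRight : B →ₐ[R] p.Fiber B).toRingHom = q.asIdeal)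
    (h : letI := φ.toRingHom.toAlgebra
      Algebra.QuasiFiniteAt (MvPolynomial σ R) q.asIdeal ∧ q ∈ FlatLib.flatLocus (MvPolynomial σ R) B B) :
    IsCM (Localization.AtPrime Q) := by
  letI := φ.toRingHom.toAlgebra
  obtain ⟨hqf, hfl⟩ := h
  have hfib : FlatLib.FibFlat (MvPolynomial σ R) B B (p.map (algebraMap R (MvPolynomial σ R))) q.asIdeal :=
    FlatLib.fibFlat_of_flat q hfl
  have hflat := (fibFlat_iff_fibreMap φ q p Q hQ).mp hfib
  letI := (fibreMap φ p).toRingHom.toAlgebra
  haveI := hqf
  haveI : IsNoetherianRing (p.Fiber B) := Algebra.FiniteType.isNoetherianRing p.ResidueField _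
  refine isCM_of_flat_minimal (A := MvPolynomial σ p.ResidueField) Q (fun P hP hle ↦ ?_) hflat
  have h1 : (P.asIdeal.comap (Algebra.TensorProduct.includeRight : B →ₐ[R] p.Fiber B).toRingHom).comap φ.toRingHom =
      (Q.comap (Algebra.TensorProduct.includeRight : B →ₐ[R] p.Fiber B).toRingHom).comap φ.toRingHom := by
    ext z
    have h3 := SetLike.ext_iff.mp hP (MvPolynomial.map (algebraMap R p.ResidueField) z)
    change fibreMap φ p _ ∈ P.asIdeal ↔ fibreMap φ p _ ∈ Q at h3
    rw [fibreMap_map] at h3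
    exact h3
  rw [hQ] at h1
  have h2 : P.asIdeal.comap (Algebra.TensorProduct.includeRight : B →ₐ[R] p.Fiber B).toRingHom = q.asIdeal :=
    Algebra.QuasiFiniteAt.eq_of_le_of_under_eq (R := MvPolynomial σ R) (hQ ▸ Ideal.comap_mono hle) h1
  let E := PrimeSpectrum.preimageOrderIsoFiber R B ⟨p, inferInstance⟩
  have h4 : (E.symm P).1 = (E.symm ⟨Q, inferInstance⟩).1 := PrimeSpectrum.ext (h2.trans hQ.symm)
  exact congrArg PrimeSpectrum.asIdeal (E.symm.injective (Subtype.ext h4))

end CMFlatLib
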