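import Groth.Prelude.Def_MoreMor
import Groth.Agent.CMFlatLib.Relative
import Groth.Agent.FlatLib.FibreStalk
import Groth.Agent.SMTLib.CMQuot
import Mathlib

/-! Openness of the Cohen-Macaulay locus of a morphism locally of finite presentation. -/

set_option autoImplicit false
universe u

open IsLocalRing CommAlgDim GorLib AlgebraicGeometry CategoryTheory TensorProduct

namespace CMFlatLib

theorem isCohenMacaulayLocalRing_congr {A C : Type u} [CommRing A] [CommRing C] (e : A ≃+* C) :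
    LocCoh.IsCohenMacaulayLocalRing A ↔ LocCoh.IsCohenMacaulayLocalRing C :=
  ⟨fun h ↦ SMTLib.isCohenMacaulayLocalRing_of_ringEquiv e,
    fun h ↦ SMTLib.isCohenMacaulayLocalRing_of_ringEquiv e.symm⟩

theorem isCohenMacaulayLocalRing_iff_isCM (A : Type u) [CommRing A] [IsLocalRing A] [IsNoetherianRing A] :
    LocCoh.IsCohenMacaulayLocalRing A ↔ IsCM A :=
  ⟨fun h ↦ SMTLib.isCM_of_isCohenMacaulayLocalRing A, SMTLib.isCohenMacaulayLocalRing_of_isCM A⟩

section Affine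

variable (R B : Type u) [CommRing R] [CommRing B] [Algebra R B]

/-- The points where `R → B` is flat with Cohen–Macaulay fibre. -/
def cmSet : Set (PrimeSpectrum B) :=
  {q | q ∈ FlatLib.flatLocus R B B ∧ LocCoh.IsCohenMacaulayLocalRing (Localization.AtPrime q.asIdeal ⧸
    (q.asIdeal.comap (algebraMap R B)).map (algebraMap R (Localization.AtPrime q.asIdeal)))}

variable {R B}

/-- The point of the fibre over a prime. -/
theorem exists_fibre_point (q : PrimeSpectrum B) :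
    ∃ Q : Ideal ((q.asIdeal.comap (algebraMap R B)).Fiber B), ∃ _ : Q.IsPrime,
      Q.comap (Algebra.TensorProduct.includeRight : B →ₐ[R] (q.asIdeal.comap (algebraMap R B)).Fiber B).toRingHom =
        q.asIdeal := by
  let P : PrimeSpectrum R := ⟨q.asIdeal.comap (algebraMap R B), inferInstance⟩
  let E := PrimeSpectrum.preimageOrderIsoFiber R B P
  refine ⟨(E ⟨q, rfl⟩).asIdeal, (E ⟨q, rfl⟩).isPrime, ?_⟩
  exact congrArg (fun z ↦ z.1.asIdeal) (E.symm_apply_apply ⟨q, rfl⟩)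

variable [Algebra.FinitePresentation R B]

theorem mem_cmSet_iff (q : PrimeSpectrum B) (Q : Ideal ((q.asIdeal.comap (algebraMap R B)).Fiber B)) [Q.IsPrime]
    (hQ : Q.comap (Algebra.TensorProduct.includeRight : B →ₐ[R] (q.asIdeal.comap (algebraMap R B)).Fiber B).toRingHom =
      q.asIdeal) :
    q ∈ cmSet R B ↔ q ∈ FlatLib.flatLocus R B B ∧ IsCM (Localization.AtPrime Q) := by
  haveI : IsNoetherianRing ((q.asIdeal.comap (algebraMap R B)).Fiber B) :=
    Algebra.FiniteType.isNoetherianRing (q.asIdeal.comap (algebraMap R B)).ResidueField _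
  obtain ⟨θ, -⟩ := exists_fibreLocal_equiv (q.asIdeal.comap (algebraMap R B)) Q q.asIdeal hQ
  exact and_congr_right fun _ ↦ (isCohenMacaulayLocalRing_congr θ).trans (isCohenMacaulayLocalRing_iff_isCM _)

theorem mem_cmSet_iff' (q : PrimeSpectrum B) (p : Ideal R) [p.IsPrime] (hp : q.asIdeal.comap (algebraMap R B) = p)
    (Q : Ideal (p.Fiber B)) [Q.IsPrime]
    (hQ : Q.comap (Algebra.TensorProduct.includeRight : B →ₐ[R] p.Fiber B).toRingHom = q.asIdeal) :
    q ∈ cmSet R B ↔ q ∈ FlatLib.flatLocus R B B ∧ IsCM (Localization.AtPrime Q) := by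
  subst hp
  exact mem_cmSet_iff q Q hQ

theorem exists_qf_flat (q : PrimeSpectrum B) (hq : q ∈ cmSet R B) :
    ∃ (d : ℕ) (φ : MvPolynomial (ULift.{u} (Fin d)) R →ₐ[R] B),
      (letI := φ.toRingHom.toAlgebra
       Algebra.QuasiFiniteAt (MvPolynomial (ULift.{u} (Fin d)) R) q.asIdeal ∧
        q ∈ FlatLib.flatLocus (MvPolynomial (ULift.{u} (Fin d)) R) B B) := by
  obtain ⟨Q, hQp, hQ⟩ := exists_fibre_point (R := R) q
  haveI := hQp
  obtain ⟨hflat, hcm⟩ := (mem_cmSet_iff q Q hQ).mp hq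
  obtain ⟨d, φ, -, h⟩ := exists_qf_flat_of_isCM_fibre q hflat _ Q hQ rfl hcm
  exact ⟨d, φ, h⟩

theorem mem_cmSet_of_qf_flat {σ : Type u} [Finite σ] (φ : MvPolynomial σ R →ₐ[R] B) (q : PrimeSpectrum B)
    (h : letI := φ.toRingHom.toAlgebra
      Algebra.QuasiFiniteAt (MvPolynomial σ R) q.asIdeal ∧ q ∈ FlatLib.flatLocus (MvPolynomial σ R) B B) :
    q ∈ cmSet R B := by
  obtain ⟨Q, hQp, hQ⟩ := exists_fibre_point (R := R) q
  haveI := hQp
  refine (mem_cmSet_iff q Q hQ).mpr ⟨?_, isCM_fibre_of_qf_flat φ q _ Q hQ h⟩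
  letI := φ.toRingHom.toAlgebra
  haveI : IsScalarTower R (MvPolynomial σ R) B := IsScalarTower.of_algebraMap_eq fun r ↦ (φ.commutes r).symm
  refine FlatLib.mem_flatLocus_trans q h.2 ?_
  rw [FlatLib.mem_flatLocus_self_iff]
  haveI : Module.Flat (MvPolynomial σ R) (Localization.AtPrime
    (PrimeSpectrum.comap (algebraMap (MvPolynomial σ R) B) q).asIdeal) :=
    IsLocalization.flat _ (PrimeSpectrum.comap (algebraMap (MvPolynomial σ R) B) q).asIdeal.primeCompl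
  exact Module.Flat.trans R (MvPolynomial σ R) _

theorem isOpen_cmSet : IsOpen (cmSet R B) := by
  rw [isOpen_iff_forall_mem_open]
  intro q hq
  obtain ⟨d, φ, h⟩ := exists_qf_flat q hq
  letI := φ.toRingHom.toAlgebra
  haveI : IsScalarTower R (MvPolynomial (ULift.{u} (Fin d)) R) B :=
    IsScalarTower.of_algebraMap_eq fun r ↦ (φ.commutes r).symm
  haveI : Algebra.FinitePresentation (MvPolynomial (ULift.{u} (Fin d)) R) B :=
    Algebra.FinitePresentation.of_restrict_scalars_finitePresentation R _ B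
  exact ⟨{q' | Algebra.QuasiFiniteAt (MvPolynomial (ULift.{u} (Fin d)) R) q'.asIdeal} ∩
      FlatLib.flatLocus (MvPolynomial (ULift.{u} (Fin d)) R) B B,
    fun q' hq' ↦ mem_cmSet_of_qf_flat φ q' hq',
    (RichLib.QFLocus.isOpen_setOf_quasiFiniteAt _ B).inter FlatLib.isOpen_flatLocus_fp, h⟩

end Affine

theorem isCMAt_iff_mem_cmSet {X S : Scheme.{u}} (f : X ⟶ S) {U : S.Opens} {V : X.Opens} (hU : IsAffineOpen U)
    (hV : IsAffineOpen V) (hVU : V ≤ f ⁻¹ᵁ U) [Algebra Γ(S, U) Γ(X, V)]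
    (hAB : algebraMap Γ(S, U) Γ(X, V) = (f.appLE U V hVU).hom) (x : X) (hx : x ∈ V) :
    MoreMor.IsCMAt f x ↔ hV.primeIdealOf ⟨x, hx⟩ ∈ cmSet Γ(S, U) Γ(X, V) := by
  obtain rfl : ‹Algebra Γ(S, U) Γ(X, V)› = (f.appLE U V hVU).hom.toAlgebra := Algebra.algebra_ext _ _ fun r ↦ by
    rw [hAB]; rfl
  letI := (f.appLE U V hVU).hom.toAlgebra
  obtain ⟨e⟩ := FlatLib.nonempty_fibreStalk_ringEquiv f hU hV hVU rfl x hx
  exact and_congr (FlatLib.flat_stalkMap_iff U hU V hV hVU hx) (isCohenMacaulayLocalRing_congr e)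

theorem isOpen_isCMAt {X S : Scheme.{u}} (f : X ⟶ S) [LocallyOfFinitePresentation f] :
    IsOpen {x : X | MoreMor.IsCMAt f x} := by
  rw [isOpen_iff_forall_mem_open]
  intro x hx
  obtain ⟨_, ⟨U, hU, rfl⟩, hxU, -⟩ :=
    S.isBasis_affineOpens.exists_subset_of_mem_open (Set.mem_univ (f x)) isOpen_univ
  obtain ⟨_, ⟨V, hV, rfl⟩, hxV, hVsub⟩ := X.isBasis_affineOpens.exists_subset_of_mem_open
    (show x ∈ (f ⁻¹ᵁ U : X.Opens) from hxU) (f ⁻¹ᵁ U).2
  have hVU : V ≤ f ⁻¹ᵁ U := fun z hz ↦ hVsub hz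
  have hfp := f.finitePresentation_appLE hU hV hVU
  algebraize [(f.appLE U V hVU).hom]
  refine ⟨hV.fromSpec '' cmSet Γ(S, U) Γ(X, V), ?_, hV.fromSpec.isOpenEmbedding.isOpenMap _ isOpen_cmSet,
    hV.primeIdealOf ⟨x, hxV⟩, (isCMAt_iff_mem_cmSet f hU hV hVU rfl x hxV).mp hx, hV.fromSpec_primeIdealOf ⟨x, hxV⟩⟩
  rintro _ ⟨P, hP, rfl⟩
  have hmem : hV.fromSpec P ∈ V := by
    have h1 : hV.fromSpec P ∈ Set.range hV.fromSpec := ⟨P, rfl⟩
    rwa [hV.range_fromSpec] at h1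
  have hPeq : hV.primeIdealOf ⟨hV.fromSpec P, hmem⟩ = P :=
    hV.fromSpec.isOpenEmbedding.injective (hV.fromSpec_primeIdealOf ⟨_, hmem⟩)
  refine (isCMAt_iff_mem_cmSet f hU hV hVU rfl _ hmem).mpr ?_
  rw [hPeq]
  exact hP

end CMFlatLib
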