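import Groth.Agent.GorLib.BaseChange
import Groth.Agent.CMFlatLib.Open

/-! # Base change of Cohen-Macaulay fibres -/

set_option autoImplicit false

universe u

open TensorProduct IsLocalRing CommAlgDim

namespace CMFlatLib

theorem cm_of_gorenstein {R : Type u} [CommRing R] (h : LocCoh.IsGorensteinLocalRing R) :
    LocCoh.IsCohenMacaulayLocalRing R :=
  haveI := h
  SMTLib.isCohenMacaulayLocalRing_of_isCM R GorLib.isCM_of_gorenstein

theorem cmRing_of_gorenstein {R : Type u} [CommRing R] (h : LocCoh.IsGorensteinRing R) :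
    LocCoh.IsCohenMacaulayRing R :=
  haveI := h
  { isCohenMacaulayLocalRing_localization := fun p _ => cm_of_gorenstein (h.isGorensteinLocalRing_localization p) }

theorem cm_localization_comap {A B : Type u} [CommRing A] [CommRing B] (e : A ≃+* B) (P : Ideal B) [P.IsPrime] :
    LocCoh.IsCohenMacaulayLocalRing (Localization.AtPrime P) ↔
      LocCoh.IsCohenMacaulayLocalRing (Localization.AtPrime (P.comap e)) := by
  refine (isCohenMacaulayLocalRing_congr ?_).symm
  refine IsLocalization.ringEquivOfRingEquiv (M := (P.comap e).primeCompl) (T := P.primeCompl)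
    (Localization.AtPrime (P.comap e)) (Localization.AtPrime P) e ?_
  ext x
  constructor
  · rintro ⟨y, hy, rfl⟩
    exact hy
  · intro hx
    exact ⟨e.symm x, fun h => hx (e.apply_symm_apply x ▸ h), e.apply_symm_apply x⟩

/-- CM and flat local homomorphisms, class form. -/
theorem cm_flat_iff (A : Type u) [CommRing A] [IsLocalRing A] [IsNoetherianRing A]
    (B : Type u) [CommRing B] [IsLocalRing B] [IsNoetherianRing B]
    [Algebra A B] [IsLocalHom (algebraMap A B)] [Module.Flat A B] :
    LocCoh.IsCohenMacaulayLocalRing B ↔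
      LocCoh.IsCohenMacaulayLocalRing A ∧ LocCoh.IsCohenMacaulayLocalRing (GorLib.Fib A B) := by
  haveI : IsLocalRing (GorLib.Fib A B) := GorLib.isLocalRing_quotient (GorLib.map_maximalIdeal_ne_top A B)
  rw [isCohenMacaulayLocalRing_iff_isCM, isCohenMacaulayLocalRing_iff_isCM, isCohenMacaulayLocalRing_iff_isCM,
    isCM_flat_iff A B]

section Localization

variable {R S : Type u} [CommRing R] [CommRing S] [Algebra R S]

theorem cm_localization_flat_iff [IsNoetherianRing R] [IsNoetherianRing S] [Module.Flat R S]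
    (r : Ideal S) [r.IsPrime] :
    LocCoh.IsCohenMacaulayLocalRing (Localization.AtPrime r) ↔
      (LocCoh.IsCohenMacaulayLocalRing (Localization.AtPrime (r.comap (algebraMap R S))) ∧
        LocCoh.IsCohenMacaulayLocalRing (Localization.AtPrime r ⧸
          (r.comap (algebraMap R S)).map (algebraMap R (Localization.AtPrime r)))) := by
  let p := r.comap (algebraMap R S)
  haveI : IsNoetherianRing (Localization.AtPrime p) := IsLocalization.isNoetherianRing p.primeCompl _ inferInstance
  haveI : IsNoetherianRing (Localization.AtPrime r) := IsLocalization.isNoetherianRing r.primeCompl _ inferInstance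
  letI : Algebra (Localization.AtPrime p) (Localization.AtPrime r) :=
    (Localization.localRingHom p r (algebraMap R S) rfl).toAlgebra
  haveI : IsLocalHom (algebraMap (Localization.AtPrime p) (Localization.AtPrime r)) :=
    Localization.isLocalHom_localRingHom p r (algebraMap R S) rfl
  haveI : Module.Flat (Localization.AtPrime p) (Localization.AtPrime r) :=
    RingHom.Flat.localRingHom (RingHom.flat_algebraMap_iff.2 inferInstance) r p rfl
  rw [cm_flat_iff (Localization.AtPrime p) (Localization.AtPrime r)]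
  exact and_congr_right fun _ =>
    isCohenMacaulayLocalRing_congr (Ideal.quotEquivOfEq (GorLib.map_maximalIdeal_localRingHom p r rfl))

theorem cm_localization_iff_of_fibre [IsNoetherianRing R] [IsNoetherianRing S] [Module.Flat R S]
    (r : Ideal S) [r.IsPrime] (hF : LocCoh.IsGorensteinRing ((r.comap (algebraMap R S)).Fiber S)) :
    LocCoh.IsCohenMacaulayLocalRing (Localization.AtPrime (r.comap (algebraMap R S))) ↔
      LocCoh.IsCohenMacaulayLocalRing (Localization.AtPrime r) := by
  rw [cm_localization_flat_iff (R := R) r]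
  exact ⟨fun h => ⟨h, cm_of_gorenstein (GorLib.gorenstein_fibre_loc hF r rfl)⟩, fun h => h.1⟩

end Localization

theorem cm_tensor_ft (k k' : Type u) [Field k] [Field k'] [Algebra k k'] (C : Type u) [CommRing C] [Algebra k C]
    [Algebra.FiniteType k C] (Q : Ideal (C ⊗[k] k')) [Q.IsPrime] :
    LocCoh.IsCohenMacaulayLocalRing (Localization.AtPrime (Q.comap (algebraMap C (C ⊗[k] k')))) ↔
      LocCoh.IsCohenMacaulayLocalRing (Localization.AtPrime Q) := by
  haveI : IsNoetherianRing C := Algebra.FiniteType.isNoetherianRing k C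
  haveI : IsNoetherianRing (C ⊗[k] k') := by
    haveI : IsNoetherianRing (k' ⊗[k] C) := Algebra.FiniteType.isNoetherianRing k' _
    exact isNoetherianRing_of_ringEquiv _ (Algebra.TensorProduct.comm k k' C).toRingEquiv
  refine cm_localization_iff_of_fibre (R := C) Q ?_
  let p := Q.comap (algebraMap C (C ⊗[k] k'))
  show LocCoh.IsGorensteinRing (p.Fiber (C ⊗[k] k'))
  haveI : Algebra.EssFiniteType k p.ResidueField := Algebra.EssFiniteType.comp k C p.ResidueField
  obtain ⟨s, hs⟩ : ∃ s : Finset p.ResidueField, IntermediateField.adjoin k (s : Set p.ResidueField) = ⊤ :=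
    IntermediateField.fg_top_iff.2 inferInstance
  exact GorLib.gorensteinRing_of_ringEquiv
    ((Algebra.TensorProduct.cancelBaseChange k C C p.ResidueField k').toRingEquiv.trans
      (Algebra.TensorProduct.comm k p.ResidueField k').toRingEquiv)
    (GorLib.gorensteinRing_tensor_field ⟨s, hs⟩ GorLib.gorensteinRing_of_field)

theorem cm_tensor_fg_local (k k' : Type u) [Field k] [Field k'] [Algebra k k']
    (hfg : ∃ s : Finset k', IntermediateField.adjoin k (s : Set k') = ⊤)
    (B : Type u) [CommRing B] [IsLocalRing B] [IsNoetherianRing B] [Algebra k B]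
    (Q : Ideal (B ⊗[k] k')) [Q.IsPrime] (hQ : Q.comap (algebraMap B (B ⊗[k] k')) = maximalIdeal B) :
    LocCoh.IsCohenMacaulayLocalRing B ↔ LocCoh.IsCohenMacaulayLocalRing (Localization.AtPrime Q) := by
  haveI : Algebra.EssFiniteType k k' := IntermediateField.fg_top_iff.1 (by obtain ⟨t, ht⟩ := hfg; exact ⟨t, ht⟩)
  haveI : IsNoetherianRing (B ⊗[k] k') := Algebra.EssFiniteType.isNoetherianRing B _
  have hF : ∀ (p : Ideal B) [p.IsPrime], LocCoh.IsGorensteinRing (p.Fiber (B ⊗[k] k')) := fun p _ =>
    GorLib.gorensteinRing_of_ringEquiv (Algebra.TensorProduct.cancelBaseChange k B B p.ResidueField k').toRingEquiv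
      (GorLib.gorensteinRing_tensor_field hfg GorLib.gorensteinRing_of_field)
  rw [← cm_localization_iff_of_fibre (R := B) Q (hF _)]
  haveI : (Q.comap (algebraMap B (B ⊗[k] k'))).IsMaximal := by rw [hQ]; infer_instance
  refine isCohenMacaulayLocalRing_congr (IsLocalization.atUnits B
    (Q.comap (algebraMap B (B ⊗[k] k'))).primeCompl (fun x hx => ?_)).toRingEquiv
  exact IsLocalRing.notMem_maximalIdeal.1 (fun h => hx ((SetLike.ext_iff.1 hQ _).2 h))

/-- Local rings of `C ⊗ₖ k'` for finitely generated `k'/k`. -/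
theorem cm_tensor_fg {k k' : Type u} [Field k] [Field k'] [Algebra k k']
    (hfg : ∃ s : Finset k', IntermediateField.adjoin k (s : Set k') = ⊤) (C : Type u) [CommRing C] [Algebra k C]
    (Q : Ideal (C ⊗[k] k')) [Q.IsPrime] (q : Ideal C) [q.IsPrime] (hq : q = Q.comap (algebraMap C (C ⊗[k] k')))
    [IsNoetherianRing (Localization.AtPrime q)] :
    LocCoh.IsCohenMacaulayLocalRing (Localization.AtPrime q) ↔ LocCoh.IsCohenMacaulayLocalRing (Localization.AtPrime Q) := by
  let Cq := Localization.AtPrime q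
  let T := C ⊗[k] k'
  let ι : T →+* Cq ⊗[k] k' :=
    (Algebra.TensorProduct.map (IsScalarTower.toAlgHom k C Cq) (AlgHom.id k k')).toRingHom
  letI : Algebra T (Cq ⊗[k] k') := ι.toAlgebra
  haveI : IsLocalization (Algebra.algebraMapSubmonoid T q.primeCompl) (Cq ⊗[k] k') := by
    let e : (T ⊗[C] Cq) ≃+* (Cq ⊗[k] k') :=
      (Algebra.TensorProduct.comm C T Cq).toRingEquiv.trans
        (Algebra.TensorProduct.cancelBaseChange k C C Cq k').toRingEquiv
    refine IsLocalization.isLocalization_of_algEquiv (S := T ⊗[C] Cq) _ { e with commutes' := ?_ }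
    intro t
    show e (t ⊗ₜ 1) = ι t
    induction t using TensorProduct.induction_on with
    | zero => simp
    | tmul c b =>
      show Algebra.TensorProduct.cancelBaseChange k C C Cq k' ((1 : Cq) ⊗ₜ[C] (c ⊗ₜ[k] b)) = _
      rw [Algebra.TensorProduct.cancelBaseChange_tmul, Algebra.smul_def, mul_one]
      rfl
    | add x y hx hy => rw [TensorProduct.add_tmul, map_add, map_add, hx, hy]
  have hdisj : Disjoint (Algebra.algebraMapSubmonoid T q.primeCompl : Set T) Q := by
    rw [Set.disjoint_left]
    rintro _ ⟨c, hc, rfl⟩ hcQ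
    exact hc (hq ▸ hcQ)
  let Q' := Q.map (algebraMap T (Cq ⊗[k] k'))
  haveI : Q'.IsPrime := IsLocalization.isPrime_of_isPrime_disjoint _ _ Q ‹_› hdisj
  have hQ' : Q'.comap (algebraMap T (Cq ⊗[k] k')) = Q :=
    IsLocalization.comap_map_of_isPrime_disjoint _ _ ‹_› hdisj
  have hover : Q'.comap (algebraMap Cq (Cq ⊗[k] k')) = maximalIdeal Cq := by
    refine le_antisymm (le_maximalIdeal ((Ideal.IsPrime.comap (algebraMap Cq (Cq ⊗[k] k'))).ne_top)) ?_
    rw [← Localization.AtPrime.map_eq_maximalIdeal, Ideal.map_le_iff_le_comap]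
    intro c hc
    rw [Ideal.mem_comap, Ideal.mem_comap]
    have h1 : algebraMap Cq (Cq ⊗[k] k') (algebraMap C Cq c) = algebraMap T (Cq ⊗[k] k') (c ⊗ₜ 1) := rfl
    rw [h1]
    exact Ideal.mem_map_of_mem _ (hq.le hc)
  rw [cm_tensor_fg_local k k' hfg Cq Q' hover]
  haveI : IsLocalization.AtPrime (Localization.AtPrime Q') Q := by
    have h1 : IsLocalization.AtPrime (Localization.AtPrime Q') (Q'.comap (algebraMap T (Cq ⊗[k] k'))) :=
      IsLocalization.isLocalization_isLocalization_atPrime_isLocalization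
        (Algebra.algebraMapSubmonoid T q.primeCompl) _ Q'
    simpa only [hQ'] using h1
  exact isCohenMacaulayLocalRing_congr
    (IsLocalization.algEquiv Q.primeCompl (Localization.AtPrime Q) (Localization.AtPrime Q')).symm.toRingEquiv

section Square

variable {R S R' S' : Type u} [CommRing R] [CommRing S] [CommRing R'] [CommRing S'] [Algebra R S] [Algebra R R']
  [Algebra R' S'] [Algebra S S'] [Algebra R S'] [IsScalarTower R R' S'] [IsScalarTower R S S'] [Algebra.IsPushout R R' S S']

theorem cm_fibre_loc_iff (p : Ideal R) [p.IsPrime] (q : Ideal (p.Fiber S)) [q.IsPrime] (r : Ideal S) [r.IsPrime]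
    (hr : q.comap Algebra.TensorProduct.includeRight = r) :
    LocCoh.IsCohenMacaulayLocalRing (Localization.AtPrime q) ↔
      LocCoh.IsCohenMacaulayLocalRing (Localization.AtPrime r ⧸ p.map (algebraMap R (Localization.AtPrime r))) := by
  subst hr
  exact isCohenMacaulayLocalRing_congr ((Ideal.Fiber.algEquivAux₂ p q).toRingEquiv.trans
    (Ideal.quotEquivOfEq (by rw [Ideal.map_map, ← IsScalarTower.algebraMap_eq])))

variable (r' : Ideal S') [r'.IsPrime] (r : Ideal S) [r.IsPrime] (p' : Ideal R') [p'.IsPrime] (p : Ideal R) [p.IsPrime]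

set_option backward.isDefEq.respectTransparency false in
/-- CM fibres and base change. -/
theorem cm_fibre_baseChange_iff (hr : r = r'.comap (algebraMap S S')) (hp' : p' = r'.comap (algebraMap R' S'))
    (hp : p = p'.comap (algebraMap R R'))
    (h : (Algebra.EssFiniteType R R' ∧
      IsNoetherianRing (Localization.AtPrime r ⧸ p.map (algebraMap R (Localization.AtPrime r)))) ∨ Algebra.FiniteType R S) :
    LocCoh.IsCohenMacaulayLocalRing (Localization.AtPrime r' ⧸ p'.map (algebraMap R' (Localization.AtPrime r'))) ↔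
      LocCoh.IsCohenMacaulayLocalRing (Localization.AtPrime r ⧸ p.map (algebraMap R (Localization.AtPrime r))) := by
  letI := (Ideal.ResidueField.map p p' (algebraMap R R') hp).toAlgebra
  haveI : IsScalarTower R p.ResidueField p'.ResidueField := IsScalarTower.of_algebraMap_eq fun a => by
    show _ = Ideal.ResidueField.map p p' (algebraMap R R') hp (algebraMap R p.ResidueField a)
    rw [Ideal.ResidueField.map_algebraMap, IsScalarTower.algebraMap_apply R R' p'.ResidueField]
  obtain ⟨Φ, hΦ⟩ := GorLib.exists_fibre_comparison (S := S) (S' := S') p p' hp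
  obtain ⟨Q', hQ'⟩ : ∃ Q' : PrimeSpectrum (p'.Fiber S'), Q'.asIdeal.comap Algebra.TensorProduct.includeRight = r' :=
    ⟨PrimeSpectrum.preimageEquivFiber R' S' ⟨p', inferInstance⟩ ⟨⟨r', inferInstance⟩, PrimeSpectrum.ext hp'.symm⟩,
      congrArg (fun x => PrimeSpectrum.asIdeal x.1) ((PrimeSpectrum.preimageEquivFiber R' S' ⟨p', inferInstance⟩).symm_apply_apply
        ⟨⟨r', inferInstance⟩, PrimeSpectrum.ext hp'.symm⟩)⟩
  let Q : Ideal ((p.Fiber S) ⊗[p.ResidueField] p'.ResidueField) := Q'.asIdeal.comap Φ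
  let q := Q.comap (algebraMap (p.Fiber S) ((p.Fiber S) ⊗[p.ResidueField] p'.ResidueField))
  have hq : q.comap Algebra.TensorProduct.includeRight = r := by
    ext s
    rw [hr, ← hQ']
    show Φ (((1 : p.ResidueField) ⊗ₜ[R] s) ⊗ₜ 1) ∈ Q'.asIdeal ↔ (1 : p'.ResidueField) ⊗ₜ[R'] algebraMap S S' s ∈ Q'.asIdeal
    rw [hΦ]
  rw [← cm_fibre_loc_iff p q r hq, ← cm_fibre_loc_iff p' Q'.asIdeal r' hQ']
  rw [cm_localization_comap (A := (p.Fiber S) ⊗[p.ResidueField] p'.ResidueField) (B := p'.Fiber S') Φ Q'.asIdeal]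
  rcases h with ⟨hess, hnoe⟩ | hft
  · haveI := hess
    haveI := (GorLib.gorenstein_fibre_loc_iff p q r hq).2 hnoe
    haveI : Algebra.EssFiniteType R' p'.ResidueField := inferInstance
    haveI : Algebra.EssFiniteType R p'.ResidueField := Algebra.EssFiniteType.comp R R' p'.ResidueField
    haveI : Algebra.EssFiniteType p.ResidueField p'.ResidueField := Algebra.EssFiniteType.of_comp R p.ResidueField p'.ResidueField
    exact (cm_tensor_fg (IntermediateField.fg_top_iff.2 inferInstance) (p.Fiber S) Q q rfl).symm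
  · haveI := hft
    exact (cm_tensor_ft p.ResidueField p'.ResidueField (p.Fiber S) Q).symm

end Square

/-- CM fibres of a composite of local homomorphisms with flat second factor. -/
theorem cm_fibre_comp {A B C : Type u} [CommRing A] [CommRing B] [CommRing C] [IsLocalRing A]
    [IsLocalRing B] [IsLocalRing C] (f : A →+* B) [IsLocalHom f] (g : B →+* C) [IsLocalHom g] (hg : g.Flat)
    (hB : IsNoetherianRing (B ⧸ (maximalIdeal A).map f))
    (hC : IsNoetherianRing (C ⧸ (maximalIdeal A).map (g.comp f))) :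
    LocCoh.IsCohenMacaulayLocalRing (C ⧸ (maximalIdeal A).map (g.comp f)) ↔
      (LocCoh.IsCohenMacaulayLocalRing (B ⧸ (maximalIdeal A).map f) ∧
        LocCoh.IsCohenMacaulayLocalRing (C ⧸ (maximalIdeal B).map g)) := by
  letI := g.toAlgebra
  haveI : Module.Flat B C := hg
  haveI : IsLocalHom (algebraMap B C) := ‹IsLocalHom g›
  let J : Ideal B := (maximalIdeal A).map f
  have hJn : J ≤ maximalIdeal B := Ideal.map_le_iff_le_comap.2 fun a ha => by
    rw [Ideal.mem_comap, mem_maximalIdeal, mem_nonunits_iff, isUnit_map_iff]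
    exact ha
  have hmap : J.map (algebraMap B C) = (maximalIdeal A).map (g.comp f) := Ideal.map_map f g
  have hJ : J ≠ ⊤ := ne_top_of_le_ne_top (maximalIdeal.isMaximal B).ne_top hJn
  have hJ' : J.map (algebraMap B C) ≠ ⊤ :=
    ne_top_of_le_ne_top (maximalIdeal.isMaximal C).ne_top
      ((Ideal.map_mono hJn).trans (IsLocalRing.map_maximalIdeal_le _))
  haveI : IsLocalRing (B ⧸ J) := GorLib.isLocalRing_quotient hJ
  haveI : IsLocalRing (C ⧸ J.map (algebraMap B C)) := GorLib.isLocalRing_quotient hJ'
  haveI : IsNoetherianRing (B ⧸ J) := hB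
  haveI : IsNoetherianRing (C ⧸ J.map (algebraMap B C)) :=
    isNoetherianRing_of_ringEquiv _ (Ideal.quotEquivOfEq hmap.symm)
  haveI : Module.Flat (B ⧸ J) (C ⧸ J.map (algebraMap B C)) := CatLib.flat_quotient J
  haveI : IsLocalHom (algebraMap (B ⧸ J) (C ⧸ J.map (algebraMap B C))) := ⟨fun x hx => by
    obtain ⟨b, rfl⟩ := Ideal.Quotient.mk_surjective x
    by_contra hb
    refine GorLib.not_isUnit_mk hJ' (x := algebraMap B C b) ?_ hx
    rw [mem_maximalIdeal, mem_nonunits_iff, isUnit_map_iff]
    exact fun h => hb (h.map _)⟩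
  rw [isCohenMacaulayLocalRing_congr (Ideal.quotEquivOfEq hmap.symm), cm_flat_iff (B ⧸ J) (C ⧸ J.map (algebraMap B C))]
  refine and_congr_right fun _ => isCohenMacaulayLocalRing_congr ?_
  refine (Ideal.quotEquivOfEq ?_).trans (DoubleQuot.quotQuotEquivQuotOfLE (Ideal.map_mono hJn))
  rw [GorLib.maximalIdeal_quotient]
  exact (Ideal.map_map _ _).trans ((congrArg (fun φ => Ideal.map φ (maximalIdeal B)) (RingHom.ext fun _ => rfl)).trans (Ideal.map_map g (Ideal.Quotient.mk _)).symm)

/-- `B/mA` is noetherian when `C/mA` is, for flat local `B → C`. -/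
theorem isNoetherianRing_fibre_of_comp {A B C : Type u} [CommRing A] [CommRing B] [CommRing C] [IsLocalRing A]
    [IsLocalRing B] [IsLocalRing C] (f : A →+* B) (g : B →+* C) [IsLocalHom g] (hg : g.Flat)
    (hC : IsNoetherianRing (C ⧸ (maximalIdeal A).map (g.comp f))) :
    IsNoetherianRing (B ⧸ (maximalIdeal A).map f) := by
  letI := g.toAlgebra
  haveI : Module.Flat B C := hg
  haveI : IsLocalHom (algebraMap B C) := ‹IsLocalHom g›
  haveI : Module.FaithfullyFlat B C := Module.FaithfullyFlat.of_flat_of_isLocalHom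
  let J : Ideal B := (maximalIdeal A).map f
  haveI : IsNoetherianRing (C ⧸ J.map (algebraMap B C)) :=
    isNoetherianRing_of_ringEquiv _ (Ideal.quotEquivOfEq (show (maximalIdeal A).map (g.comp f) = J.map (algebraMap B C) from (Ideal.map_map f g).symm))
  let Φ : Ideal (B ⧸ J) → Ideal (C ⧸ J.map (algebraMap B C)) := fun I =>
    ((I.comap (Ideal.Quotient.mk J)).map (algebraMap B C)).map (Ideal.Quotient.mk _)
  have hle : ∀ I : Ideal (B ⧸ J), J.map (algebraMap B C) ≤ (I.comap (Ideal.Quotient.mk J)).map (algebraMap B C) :=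
    fun I => Ideal.map_mono (fun x hx => by
      rw [Ideal.mem_comap, Ideal.Quotient.eq_zero_iff_mem.2 hx]; exact I.zero_mem)
  have hΦ : ∀ I I' : Ideal (B ⧸ J), Φ I ≤ Φ I' → I ≤ I' := fun I I' h => by
    have h1 := Ideal.comap_mono (f := Ideal.Quotient.mk (J.map (algebraMap B C))) h
    rw [Ideal.comap_map_of_surjective' _ Ideal.Quotient.mk_surjective,
      Ideal.comap_map_of_surjective' _ Ideal.Quotient.mk_surjective, Ideal.mk_ker, sup_of_le_left (hle I),
      sup_of_le_left (hle I')] at h1
    have h2 := Ideal.comap_mono (f := algebraMap B C) h1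
    rw [Ideal.comap_map_eq_self_of_faithfullyFlat, Ideal.comap_map_eq_self_of_faithfullyFlat] at h2
    exact fun x hx => by
      obtain ⟨b, rfl⟩ := Ideal.Quotient.mk_surjective x
      exact h2 hx
  have hmono : Monotone Φ := fun I I' h => Ideal.map_mono (Ideal.map_mono (Ideal.comap_mono h))
  rw [isNoetherianRing_iff, isNoetherian_iff']
  exact StrictMono.wellFoundedGT (f := Φ) fun I I' h => lt_of_le_not_ge (hmono h.le) fun h' => h.not_ge (hΦ _ _ h')

end CMFlatLib
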