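import Groth.Agent.GorLib.BaseChangeScheme
import Groth.Agent.CMFlatLib.BaseChange

/-! # Base change and composition of Cohen-Macaulay morphisms -/

set_option autoImplicit false

universe u

open CategoryTheory AlgebraicGeometry IsLocalRing

namespace CMFlatLib

/-- Cohen-Macaulay at a point, in affine charts. -/
theorem cm_chart {X Y : Scheme.{u}} (f : X ⟶ Y) {V : Y.Opens} (hV : IsAffineOpen V) {U : X.Opens}
    (hU : IsAffineOpen U) (hUV : U ≤ f ⁻¹ᵁ V) [Algebra Γ(Y, V) Γ(X, U)]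
    (hA : algebraMap Γ(Y, V) Γ(X, U) = (f.appLE V U hUV).hom) (x : X) (hx : x ∈ U)
    (p : Ideal Γ(Y, V)) [p.IsPrime] (r : Ideal Γ(X, U)) [r.IsPrime] (hr : r = (hU.primeIdealOf ⟨x, hx⟩).asIdeal)
    (hp : p = r.comap (algebraMap Γ(Y, V) Γ(X, U))) :
    ((f.stalkMap x).hom.Flat ↔ (Localization.localRingHom p r (algebraMap Γ(Y, V) Γ(X, U)) hp).Flat) ∧
    (MoreMor.IsCMAt f x ↔ ((Localization.localRingHom p r (algebraMap Γ(Y, V) Γ(X, U)) hp).Flat ∧
      LocCoh.IsCohenMacaulayLocalRing (Localization.AtPrime r ⧸ p.map (algebraMap Γ(Y, V) (Localization.AtPrime r))))) ∧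
    (IsNoetherianRing (X.presheaf.stalk x ⧸ (maximalIdeal (Y.presheaf.stalk (f x))).map (f.stalkMap x).hom) ↔
      IsNoetherianRing (Localization.AtPrime r ⧸ p.map (algebraMap Γ(Y, V) (Localization.AtPrime r)))) := by
  obtain ⟨h1, -, h3⟩ := GorLib.isGorensteinAt_chart f hV hU hUV hA x hx p r hr hp
  refine ⟨h1, and_congr h1 ?_, h3⟩
  subst hp
  subst hr
  obtain ⟨e⟩ := FlatLib.nonempty_fibreStalk_ringEquiv f hV hU hUV hA x hx
  exact isCohenMacaulayLocalRing_congr e

theorem isCMAt_baseChange {X Y X' Y' : Scheme.{u}} (f : X ⟶ Y) (g : Y' ⟶ Y) (f' : X' ⟶ Y') (g' : X' ⟶ X)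
    (hsq : IsPullback g' f' f g) (x' : X')
    (h : ((∀ (V : Y.Opens) (V' : Y'.Opens) (e : V' ≤ g ⁻¹ᵁ V), IsAffineOpen V → IsAffineOpen V' → f' x' ∈ V' →
        (g.appLE V V' e).hom.EssFiniteType) ∧
      IsNoetherianRing (X.presheaf.stalk (g' x') ⧸
        (maximalIdeal (Y.presheaf.stalk (f (g' x')))).map (f.stalkMap (g' x')).hom)) ∨ LocallyOfFiniteType f) :
    (MoreMor.IsCMAt f (g' x') → MoreMor.IsCMAt f' x') ∧
      ((f.stalkMap (g' x')).hom.Flat → MoreMor.IsCMAt f' x' → MoreMor.IsCMAt f (g' x')) ∧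
      ((g.stalkMap (f' x')).hom.Flat → MoreMor.IsCMAt f' x' → MoreMor.IsCMAt f (g' x')) := by
  have hw : g (f' x') = f (g' x') := by
    have := congrArg (fun φ : X' ⟶ Y => φ x') hsq.w
    simpa using this.symm
  obtain ⟨_, ⟨V, hV, rfl⟩, hyV, -⟩ :=
    Y.isBasis_affineOpens.exists_subset_of_mem_open (Set.mem_univ (f (g' x'))) isOpen_univ
  obtain ⟨_, ⟨U, hU, rfl⟩, hxU, hUV⟩ :=
    X.isBasis_affineOpens.exists_subset_of_mem_open hyV (V.2.preimage f.continuous)
  obtain ⟨_, ⟨V', hV', rfl⟩, hyV', hV'V⟩ :=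
    Y'.isBasis_affineOpens.exists_subset_of_mem_open (show g (f' x') ∈ (V : Set Y) by rw [hw]; exact hyV) (V.2.preimage g.continuous)
  have hUV : U ≤ f ⁻¹ᵁ V := hUV
  have hV'V : V' ≤ g ⁻¹ᵁ V := hV'V
  let U' := g' ⁻¹ᵁ U ⊓ f' ⁻¹ᵁ V'
  have hU' : IsAffineOpen U' := RpushLib.isAffineOpen_fibre hsq hV hV' hV'V hU hUV
  have hxU' : x' ∈ U' := ⟨hxU, hyV'⟩
  have hpo := (RpushLib.isPushout_sections hsq hV hV' hV'V hU hUV).flip
  letI := (f.appLE V U hUV).hom.toAlgebra
  letI := (g.appLE V V' hV'V).hom.toAlgebra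
  letI : Algebra Γ(Y', V') Γ(X', U') := (f'.appLE V' U' inf_le_right).hom.toAlgebra
  letI : Algebra Γ(X, U) Γ(X', U') := (g'.appLE U U' inf_le_left).hom.toAlgebra
  letI : Algebra Γ(Y, V) Γ(X', U') := ((f.appLE V U hUV) ≫ (g'.appLE U U' inf_le_left)).hom.toAlgebra
  haveI : IsScalarTower Γ(Y, V) Γ(X, U) Γ(X', U') := IsScalarTower.of_algebraMap_eq fun _ => rfl
  haveI : IsScalarTower Γ(Y, V) Γ(Y', V') Γ(X', U') := IsScalarTower.of_algebraMap_eq fun a =>
    (ConcreteCategory.congr_hom hpo.w a).symm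
  haveI : Algebra.IsPushout Γ(Y, V) Γ(Y', V') Γ(X, U) Γ(X', U') := CommRingCat.isPushout_iff_isPushout.1 hpo
  let r' := (hU'.primeIdealOf ⟨x', hxU'⟩).asIdeal
  let r := r'.comap (algebraMap Γ(X, U) Γ(X', U'))
  let p' := r'.comap (algebraMap Γ(Y', V') Γ(X', U'))
  let p := p'.comap (algebraMap Γ(Y, V) Γ(Y', V'))
  have hr : r = (hU.primeIdealOf ⟨g' x', hxU⟩).asIdeal :=
    congrArg PrimeSpectrum.asIdeal (IsAffineOpen.comap_primeIdealOf_appLE (f := g') U hU U' hU' inf_le_left hxU')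
  have hp : p = r.comap (algebraMap Γ(Y, V) Γ(X, U)) := by
    show (r'.comap _).comap _ = (r'.comap _).comap _
    rw [Ideal.comap_comap, Ideal.comap_comap, ← IsScalarTower.algebraMap_eq, ← IsScalarTower.algebraMap_eq]
  have hp'V : p' = (hV'.primeIdealOf ⟨f' x', hyV'⟩).asIdeal :=
    congrArg PrimeSpectrum.asIdeal (IsAffineOpen.comap_primeIdealOf_appLE (f := f') V' hV' U' hU' inf_le_right hxU')
  obtain ⟨hflat, hgor, hnoe⟩ := cm_chart f hV hU hUV rfl (g' x') hxU p r hr hp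
  obtain ⟨hflat', hgor', -⟩ := cm_chart f' hV' hU' inf_le_right rfl x' hxU' p' r' rfl rfl
  obtain ⟨hflatg, -, -⟩ := cm_chart g hV hV' hV'V rfl (f' x') hyV' p p' hp'V rfl
  rw [hgor, hgor', hflat, hflatg]
  have key := cm_fibre_baseChange_iff (R := Γ(Y, V)) (S := Γ(X, U)) (R' := Γ(Y', V')) (S' := Γ(X', U'))
    r' r p' p rfl rfl rfl (by
      rcases h with ⟨hg, hf⟩ | hf
      · haveI : Algebra.EssFiniteType Γ(Y, V) Γ(Y', V') := hg V V' hV'V hV hV' hyV'
        exact Or.inl ⟨inferInstance, hnoe.1 hf⟩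
      · exact Or.inr (f.finiteType_appLE hV hU hUV))
  -- flatness of localRingHom versus flatness over the base
  have flat_iff : ∀ {A B : Type u} [CommRing A] [CommRing B] [Algebra A B] (a : Ideal A) [a.IsPrime]
      (b : Ideal B) [b.IsPrime] (hab : a = b.comap (algebraMap A B)),
      (Localization.localRingHom a b (algebraMap A B) hab).Flat ↔ Module.Flat A (Localization.AtPrime b) := by
    intro A B _ _ _ a _ b _ hab
    letI := (Localization.localRingHom a b (algebraMap A B) hab).toAlgebra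
    haveI : IsScalarTower A (Localization.AtPrime a) (Localization.AtPrime b) :=
      IsScalarTower.of_algebraMap_eq fun x => by
        show algebraMap A (Localization.AtPrime b) x = Localization.localRingHom a b (algebraMap A B) hab (algebraMap A _ x)
        rw [Localization.localRingHom_to_map, IsScalarTower.algebraMap_apply A B (Localization.AtPrime b)]
    exact Module.flat_iff_of_isLocalization (Localization.AtPrime a) a.primeCompl _
  rw [key, flat_iff, flat_iff, flat_iff]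
  refine ⟨fun hf => ⟨?_, hf.2⟩, fun hf hf' => ⟨hf, hf'.2⟩, fun hg hf' => ⟨?_, hf'.2⟩⟩
  · haveI := hf.1
    exact GorLib.flat_baseChange_localization (R := Γ(Y, V)) (S := Γ(X, U)) r' r rfl
  · haveI := hg
    haveI := hf'.1
    haveI : Algebra.IsPushout Γ(Y, V) Γ(X, U) Γ(Y', V') Γ(X', U') := ‹Algebra.IsPushout Γ(Y, V) Γ(Y', V') Γ(X, U) Γ(X', U')›.symm
    haveI hD : Module.Flat Γ(X, U) (Localization.AtPrime r') :=
      GorLib.flat_baseChange_localization (R := Γ(Y, V)) (S := Γ(Y', V')) (R' := Γ(X, U)) r' p' rfl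
    have hDR : Module.Flat Γ(Y, V) (Localization.AtPrime r') := by
      haveI := (flat_iff p' r' rfl).2 hf'.1
      letI := (Localization.localRingHom p' r' (algebraMap Γ(Y', V') Γ(X', U')) rfl).toAlgebra
      haveI : IsScalarTower Γ(Y, V) (Localization.AtPrime p') (Localization.AtPrime r') :=
        IsScalarTower.of_algebraMap_eq fun x => by
          show _ = Localization.localRingHom p' r' (algebraMap Γ(Y', V') Γ(X', U')) rfl (algebraMap Γ(Y, V) _ x)
          rw [IsScalarTower.algebraMap_apply Γ(Y, V) Γ(Y', V') (Localization.AtPrime p'), Localization.localRingHom_to_map,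
            ← IsScalarTower.algebraMap_apply Γ(Y, V) Γ(Y', V') Γ(X', U'), ← IsScalarTower.algebraMap_apply]
      haveI : Module.Flat (Localization.AtPrime p') (Localization.AtPrime r') := (flat_iff p' r' rfl).2 hf'.1
      exact Module.Flat.trans Γ(Y, V) (Localization.AtPrime p') (Localization.AtPrime r')
    let σ := Localization.localRingHom r r' (algebraMap Γ(X, U) Γ(X', U')) rfl
    haveI : IsLocalHom σ := Localization.isLocalHom_localRingHom r r' _ rfl
    have hcomp : (σ.comp (algebraMap Γ(Y, V) (Localization.AtPrime r))) = algebraMap Γ(Y, V) (Localization.AtPrime r') := by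
      ext x
      rw [RingHom.comp_apply, IsScalarTower.algebraMap_apply Γ(Y, V) Γ(X, U) (Localization.AtPrime r)]
      show σ _ = _
      rw [Localization.localRingHom_to_map, ← IsScalarTower.algebraMap_apply Γ(Y, V) Γ(X, U) Γ(X', U'),
        ← IsScalarTower.algebraMap_apply]
    exact RingHom.flat_algebraMap_iff.1 (SweepSix.flat_of_comp (algebraMap Γ(Y, V) (Localization.AtPrime r)) σ
      ((flat_iff r r' rfl).2 hD) (by rw [hcomp]; exact RingHom.flat_algebraMap_iff.2 hDR))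


theorem isCMAt_baseChange_lft {X Y X' Y' : Scheme.{u}} (f : X ⟶ Y) (g : Y' ⟶ Y) [LocallyOfFiniteType g]
    (f' : X' ⟶ Y') (g' : X' ⟶ X) (hsq : IsPullback g' f' f g) (x' : X')
    (hN : IsLocallyNoetherian (f.fiber (f (g' x')))) :
    (MoreMor.IsCMAt f (g' x') → MoreMor.IsCMAt f' x') ∧
      ((f.stalkMap (g' x')).hom.Flat → MoreMor.IsCMAt f' x' → MoreMor.IsCMAt f (g' x')) ∧
      ((g.stalkMap (f' x')).hom.Flat → MoreMor.IsCMAt f' x' → MoreMor.IsCMAt f (g' x')) :=
  haveI := hN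
  isCMAt_baseChange f g f' g' hsq x' (Or.inl ⟨fun V V' e hV hV' _ => by
      algebraize [(g.appLE V V' e).hom]
      haveI : Algebra.FiniteType Γ(Y, V) Γ(Y', V') := g.finiteType_appLE hV hV' e
      exact (inferInstance : Algebra.EssFiniteType Γ(Y, V) Γ(Y', V')), GorLib.isNoetherianRing_fibre f (g' x')⟩)

theorem cm_fibre_stalk_iff {X S : Scheme.{u}} (f : X ⟶ S) (x : X) :
    MoreMor.IsCMAt f x ↔ (f.stalkMap x).hom.Flat ∧ LocCoh.IsCohenMacaulayLocalRing (X.presheaf.stalk x ⧸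
      (maximalIdeal (S.presheaf.stalk (f x))).map (f.stalkMap x).hom) := by
  refine and_congr_right fun _ => ?_
  have key : ∀ (s : S) (y : f.fiber s) (z : X), (f.fiberι s) y = z →
      (LocCoh.IsCohenMacaulayLocalRing ((f.fiber s).presheaf.stalk y) ↔ LocCoh.IsCohenMacaulayLocalRing
        (X.presheaf.stalk z ⧸ (maximalIdeal (S.presheaf.stalk (f z))).map (f.stalkMap z).hom)) := by
    rintro s y z rfl
    obtain ⟨hsurj, hker⟩ := Groth.Agent.S9501.result f s y
    exact isCohenMacaulayLocalRing_congr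
      ((RingHom.quotientKerEquivOfSurjective hsurj).symm.trans (Ideal.quotEquivOfEq hker))
  exact key (f x) (f.asFiber x) x (f.fiberι_asFiber x)

theorem isCMAt_comp {X Y Z : Scheme.{u}} (f : X ⟶ Y) (g : Y ⟶ Z) (x : X)
    (hN : IsLocallyNoetherian ((f ≫ g).fiber (g (f x))))
    (hf : MoreMor.IsCMAt f x) (hg : MoreMor.IsCMAt g (f x)) : MoreMor.IsCMAt (f ≫ g) x := by
  haveI : IsLocallyNoetherian ((f ≫ g).fiber ((f ≫ g) x)) := by rw [Scheme.Hom.comp_apply]; exact hN
  have hC := GorLib.isNoetherianRing_fibre (f ≫ g) x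
  have hcomp : ((f ≫ g).stalkMap x).hom = (f.stalkMap x).hom.comp (g.stalkMap (f x)).hom :=
    congrArg CommRingCat.Hom.hom (Scheme.Hom.stalkMap_comp f g x)
  rw [cm_fibre_stalk_iff] at hf hg ⊢
  rw [hcomp] at hC ⊢
  exact ⟨hg.1.comp hf.1, (cm_fibre_comp (g.stalkMap (f x)).hom (f.stalkMap x).hom hf.1
    (isNoetherianRing_fibre_of_comp (g.stalkMap (f x)).hom (f.stalkMap x).hom hf.1 hC) hC).2 ⟨hg.2, hf.2⟩⟩

theorem isCMAt_of_comp {X Y Z : Scheme.{u}} (f : X ⟶ Y) (g : Y ⟶ Z) (x : X)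
    (hNg : IsLocallyNoetherian (g.fiber (g (f x))))
    (h : MoreMor.IsCMAt (f ≫ g) x) (hfl : (f.stalkMap x).hom.Flat) : MoreMor.IsCMAt f x ∧ MoreMor.IsCMAt g (f x) := by
  haveI := hNg
  have hB := GorLib.isNoetherianRing_fibre g (f x)
  have hcomp : ((f ≫ g).stalkMap x).hom = (f.stalkMap x).hom.comp (g.stalkMap (f x)).hom :=
    congrArg CommRingCat.Hom.hom (Scheme.Hom.stalkMap_comp f g x)
  rw [cm_fibre_stalk_iff] at h
  rw [cm_fibre_stalk_iff, cm_fibre_stalk_iff]
  rw [hcomp] at h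
  haveI := h.2
  have hC : IsNoetherianRing (X.presheaf.stalk x ⧸ (maximalIdeal (Z.presheaf.stalk ((f ≫ g) x))).map
      ((f.stalkMap x).hom.comp (g.stalkMap (f x)).hom)) := h.2.1
  have h2 := (cm_fibre_comp (g.stalkMap (f x)).hom (f.stalkMap x).hom hfl hB hC).1 h.2
  exact ⟨⟨hfl, h2.2⟩, ⟨SweepSix.flat_of_comp (g.stalkMap (f x)).hom (f.stalkMap x).hom hfl h.1, h2.1⟩⟩

theorem eq_top_of_field {k : Type u} [Field k] (V : (Spec (CommRingCat.of k)).Opens) {s : Spec (CommRingCat.of k)}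
    (hs : s ∈ V) : V = ⊤ :=
  top_le_iff.1 fun t _ => (Subsingleton.elim s t) ▸ hs

theorem essFiniteType_appLE_of_field {k k' : Type u} [Field k] [Field k'] [Algebra k k'] [Algebra.EssFiniteType k k']
    (V : (Spec (CommRingCat.of k)).Opens) (V' : (Spec (CommRingCat.of k')).Opens)
    (e : V' ≤ Spec.map (CommRingCat.ofHom (algebraMap k k')) ⁻¹ᵁ V) {s : Spec (CommRingCat.of k')} (hs : s ∈ V') :
    ((Spec.map (CommRingCat.ofHom (algebraMap k k'))).appLE V V' e).hom.EssFiniteType := by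
  obtain rfl := eq_top_of_field V (e hs)
  obtain rfl := eq_top_of_field V' hs
  have h := Scheme.ΓSpecIso_inv_naturality (CommRingCat.ofHom (algebraMap k k'))
  have : (Spec.map (CommRingCat.ofHom (algebraMap k k'))).appLE ⊤ ⊤ e =
      (Scheme.ΓSpecIso (CommRingCat.of k)).hom ≫ CommRingCat.ofHom (algebraMap k k') ≫
        (Scheme.ΓSpecIso (CommRingCat.of k')).inv := by
    rw [h, Iso.hom_inv_id_assoc]
    rw [Scheme.Hom.appLE, Scheme.Hom.appTop]
    erw [CategoryTheory.Functor.map_id]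
    exact Category.comp_id _
  rw [this]
  exact RingHom.EssFiniteType.respectsIso.2 _ (Scheme.ΓSpecIso (CommRingCat.of k)).commRingCatIsoToRingEquiv
    (RingHom.EssFiniteType.respectsIso.1 (algebraMap k k')
      (Scheme.ΓSpecIso (CommRingCat.of k')).symm.commRingCatIsoToRingEquiv
      (RingHom.essFiniteType_algebraMap.2 ‹_›))

theorem isField_stalk {k : Type u} [Field k] (s : Spec (CommRingCat.of k)) :
    IsField ((Spec (CommRingCat.of k)).presheaf.stalk s) := by
  let p : PrimeSpectrum k := s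
  have hp : p.asIdeal = ⊥ := (Ideal.eq_bot_or_top p.asIdeal).resolve_right p.2.ne_top
  exact ((IsLocalization.atUnits k p.asIdeal.primeCompl (S := (Spec.structureSheaf k).presheaf.stalk p)
    (fun x hx => Ne.isUnit fun h0 => hx (h0 ▸ p.asIdeal.zero_mem))).toMulEquiv.symm).isField (Field.toIsField k)

theorem isCMAt_field_iff {k : Type u} [Field k] {X : Scheme.{u}} (f : X ⟶ Spec (CommRingCat.of k)) (x : X) :
    MoreMor.IsCMAt f x ↔ LocCoh.IsCohenMacaulayLocalRing (X.presheaf.stalk x) := by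
  have hbot : maximalIdeal ((Spec (CommRingCat.of k)).presheaf.stalk (f x)) = ⊥ :=
    IsLocalRing.isField_iff_maximalIdeal_eq.1 (isField_stalk (f x))
  rw [cm_fibre_stalk_iff, hbot, Ideal.map_bot]
  rw [isCohenMacaulayLocalRing_congr (RingEquiv.quotientBot (X.presheaf.stalk x))]
  exact and_iff_right (Flat.stalkMap f x)

end CMFlatLib
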