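import Groth.Agent.CMFlatLib.Open
import Groth.Agent.FibDimLib.Formula
import Mathlib

/-! Local dimension at a point which is flat and quasi-finite over affine space. -/

set_option autoImplicit false
universe u

open IsLocalRing CommAlgDim GorLib

namespace CMFlatLib

variable {k B : Type u} [Field k] [CommRing B] [Algebra k B] [Algebra.FiniteType k B]

theorem ringKrullDim_eq_height_of_flat {A : Type u} [CommRing A] [IsNoetherianRing A] [Algebra A B] [IsNoetherianRing B]
    (q : Ideal B) [q.IsPrime] [Algebra.QuasiFiniteAt A q] (hflat : Module.Flat A (Localization.AtPrime q)) :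
    ringKrullDim (Localization.AtPrime q) = ((q.comap (algebraMap A B)).height : WithBot ℕ∞) := by
  let p := q.comap (algebraMap A B)
  haveI : q.LiesOver p := ⟨rfl⟩
  letI := Localization.AtPrime.algebraOfLiesOver p q
  haveI := isLocalHom_localRingHom (A := A) q p
  haveI : IsNoetherianRing (Localization.AtPrime p) := IsLocalization.isNoetherianRing p.primeCompl _ inferInstance
  haveI : Module.Flat (Localization.AtPrime p) (Localization.AtPrime q) :=
    (Module.flat_iff_of_isLocalization (Localization.AtPrime p) p.primeCompl (Localization.AtPrime q)).mpr hflat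
  have hd := ringKrullDim_fib_eq_zero (A := A) q p fun P hP hle ↦
    Algebra.QuasiFiniteAt.eq_of_le_of_under_eq (R := A) hle hP
  rw [CatLib.ringKrullDim_eq_add_of_flat (A := Localization.AtPrime p) (B := Localization.AtPrime q),
    show ringKrullDim (Localization.AtPrime q ⧸ (maximalIdeal (Localization.AtPrime p)).map (algebraMap _ (Localization.AtPrime q))) = 0 from hd,
    add_zero, IsLocalization.AtPrime.ringKrullDim_eq_height p (Localization.AtPrime p)]

theorem ringKrullDim_quotient_eq_of_quasiFiniteAt {A : Type u} [CommRing A] [Algebra k A] [Algebra.FiniteType k A]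
    [Algebra A B] [IsScalarTower k A B] (q : Ideal B) [q.IsPrime] [Algebra.QuasiFiniteAt A q] :
    ringKrullDim (B ⧸ q) = ringKrullDim (A ⧸ q.comap (algebraMap A B)) := by
  let p := q.comap (algebraMap A B)
  haveI : q.LiesOver p := ⟨rfl⟩
  letI := Localization.AtPrime.algebraOfLiesOver p q
  haveI : Module.Finite p.ResidueField q.ResidueField := inferInstance
  obtain ⟨s, hs, hs'⟩ := FibDimLib.ringKrullDim_quotient_eq_trdeg k q
  obtain ⟨t, ht, ht'⟩ := FibDimLib.ringKrullDim_quotient_eq_trdeg k p
  haveI : IsScalarTower k p.ResidueField q.ResidueField := IsScalarTower.of_algebraMap_eq fun c ↦ by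
    rw [IsScalarTower.algebraMap_apply k A p.ResidueField, ← IsScalarTower.algebraMap_apply A p.ResidueField q.ResidueField,
      ← IsScalarTower.algebraMap_apply k A q.ResidueField]
  have h := trdeg_add_eq k p.ResidueField (A := q.ResidueField)
  rw [trdeg_eq_zero (R := p.ResidueField) (A := q.ResidueField), add_zero, ht', hs'] at h
  rw [hs, ht]
  exact_mod_cast h.symm

theorem localDim_eq_of_flat_qf' {σ : Type u} [Finite σ] [Algebra (MvPolynomial σ k) B] [IsScalarTower k (MvPolynomial σ k) B]
    (q : Ideal B) [q.IsPrime] [Algebra.QuasiFiniteAt (MvPolynomial σ k) q]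
    (hflat : Module.Flat (MvPolynomial σ k) (Localization.AtPrime q)) :
    FlatMor.localDim (PrimeSpectrum B) ⟨q, inferInstance⟩ = (Nat.card σ : WithBot ℕ∞) := by
  haveI : IsNoetherianRing B := Algebra.FiniteType.isNoetherianRing k B
  rw [FibDimLib.localDim_eq_dim_add k]
  show ringKrullDim (B ⧸ q) + ringKrullDim (Localization.AtPrime q) = _
  rw [ringKrullDim_quotient_eq_of_quasiFiniteAt (k := k) (A := MvPolynomial σ k) q,
    ringKrullDim_eq_height_of_flat (A := MvPolynomial σ k) q hflat,
    FibDimLib.ringKrullDim_quotient_add_height_affine k (MvPolynomial σ k),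
    MvPolynomial.ringKrullDim_of_isNoetherianRing, ringKrullDim_eq_zero_of_field, zero_add]

theorem localDim_eq_of_flat_qf (d : ℕ) [Algebra (MvPolynomial (Fin d) k) B] [IsScalarTower k (MvPolynomial (Fin d) k) B]
    (q : Ideal B) [q.IsPrime] [Algebra.QuasiFiniteAt (MvPolynomial (Fin d) k) q]
    (hflat : Module.Flat (MvPolynomial (Fin d) k) (Localization.AtPrime q)) :
    FlatMor.localDim (PrimeSpectrum B) ⟨q, inferInstance⟩ = (d : WithBot ℕ∞) := by
  haveI : IsNoetherianRing B := Algebra.FiniteType.isNoetherianRing k B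
  rw [FibDimLib.localDim_eq_dim_add k]
  show ringKrullDim (B ⧸ q) + ringKrullDim (Localization.AtPrime q) = _
  rw [ringKrullDim_quotient_eq_of_quasiFiniteAt (k := k) (A := MvPolynomial (Fin d) k) q,
    ringKrullDim_eq_height_of_flat (A := MvPolynomial (Fin d) k) q hflat,
    FibDimLib.ringKrullDim_quotient_add_height_affine k (MvPolynomial (Fin d) k),
    MvPolynomial.ringKrullDim_of_isNoetherianRing, ringKrullDim_eq_zero_of_field, zero_add]
  simp

theorem height_comap_eq_of_localDim (d : ℕ) [Algebra (MvPolynomial (Fin d) k) B] [IsScalarTower k (MvPolynomial (Fin d) k) B]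
    (q : Ideal B) [q.IsPrime] [Algebra.QuasiFiniteAt (MvPolynomial (Fin d) k) q]
    (hd : FlatMor.localDim (PrimeSpectrum B) ⟨q, inferInstance⟩ = (d : WithBot ℕ∞)) :
    ringKrullDim (Localization.AtPrime q) = ((q.comap (algebraMap (MvPolynomial (Fin d) k) B)).height : WithBot ℕ∞) := by
  haveI : IsNoetherianRing B := Algebra.FiniteType.isNoetherianRing k B
  haveI : IsNoetherianRing (Localization.AtPrime q) := IsLocalization.isNoetherianRing q.primeCompl _ inferInstance
  rw [FibDimLib.localDim_eq_dim_add k] at hd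
  have h1 : ringKrullDim (B ⧸ q) + ringKrullDim (Localization.AtPrime q) = (d : WithBot ℕ∞) := hd
  rw [ringKrullDim_quotient_eq_of_quasiFiniteAt (k := k) (A := MvPolynomial (Fin d) k) q] at h1
  have h2 := FibDimLib.ringKrullDim_quotient_add_height_affine k (MvPolynomial (Fin d) k)
    (q.comap (algebraMap (MvPolynomial (Fin d) k) B))
  rw [MvPolynomial.ringKrullDim_of_isNoetherianRing, ringKrullDim_eq_zero_of_field, zero_add] at h2
  simp only [Nat.card_fin] at h2
  haveI : Nontrivial (MvPolynomial (Fin d) k ⧸ q.comap (algebraMap (MvPolynomial (Fin d) k) B)) :=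
    Ideal.Quotient.nontrivial_iff.mpr (Ideal.IsPrime.ne_top inferInstance)
  obtain ⟨s, hs, -⟩ := FibDimLib.ringKrullDim_quotient_eq_trdeg k (q.comap (algebraMap (MvPolynomial (Fin d) k) B))
  obtain ⟨e, he⟩ := exists_ringKrullDim_eq (R := Localization.AtPrime q)
  obtain ⟨h, hh⟩ := ENat.ne_top_iff_exists.1
    (Ideal.height_ne_top (Ideal.IsPrime.ne_top (inferInstance : (q.comap (algebraMap (MvPolynomial (Fin d) k) B)).IsPrime)))
  rw [hs, he] at h1
  rw [hs, ← hh] at h2
  rw [he, ← hh]
  norm_cast at h1 h2 ⊢
  omega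

end CMFlatLib
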