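import Groth.Agent.CMFlatLib.ChartConv
import Groth.Agent.CMFlatLib.Dim
import Mathlib

/-! The fibre dimension is locally constant at Cohen–Macaulay points. -/

set_option autoImplicit false
universe u

open IsLocalRing CommAlgDim GorLib AlgebraicGeometry CategoryTheory TensorProduct

namespace CMFlatLib

variable {R B : Type u} [CommRing R] [CommRing B] [Algebra R B] [Algebra.FinitePresentation R B]

theorem quasiFinite_of_surjective_of_factor {A K L L' : Type u} [CommRing A] [CommRing K] [CommRing L] [CommRing L']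
    (f : A →+* L) (ρ : A →+* K) (g : K →+* L') (τ : L →+* L') (hτ : Function.Surjective τ)
    (hc : τ.comp f = g.comp ρ) (h : f.QuasiFinite) : g.QuasiFinite := by
  refine RingHom.QuasiFinite.of_comp (g := ρ) (f := g) ?_
  rw [← hc]
  exact (RingHom.QuasiFinite.of_finite (RingHom.Finite.of_surjective τ hτ)).comp h

theorem localDim_fibre_of_qf_flat {σ : Type u} [Finite σ] (φ : MvPolynomial σ R →ₐ[R] B) (q : PrimeSpectrum B)
    (p : Ideal R) [p.IsPrime] (Q : Ideal (p.Fiber B)) [Q.IsPrime]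
    (hQ : Q.comap (Algebra.TensorProduct.includeRight : B →ₐ[R] p.Fiber B).toRingHom = q.asIdeal)
    (h : letI := φ.toRingHom.toAlgebra
      Algebra.QuasiFiniteAt (MvPolynomial σ R) q.asIdeal ∧ q ∈ FlatLib.flatLocus (MvPolynomial σ R) B B) :
    FlatMor.localDim (PrimeSpectrum (p.Fiber B)) ⟨Q, inferInstance⟩ = (Nat.card σ : WithBot ℕ∞) := by
  obtain ⟨θ, hθ⟩ := exists_fibreLocal_equiv p Q q.asIdeal hQ
  letI := φ.toRingHom.toAlgebra
  obtain ⟨hqf, hfl⟩ := h
  have hfib : FlatLib.FibFlat (MvPolynomial σ R) B B (p.map (algebraMap R (MvPolynomial σ R))) q.asIdeal :=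
    FlatLib.fibFlat_of_flat q hfl
  have hflat := (fibFlat_iff_fibreMap φ q p Q hQ).mp hfib
  let L := Localization.AtPrime q.asIdeal
  let ι : B →+* p.Fiber B := (Algebra.TensorProduct.includeRight : B →ₐ[R] p.Fiber B).toRingHom
  let ρ : MvPolynomial σ R →+* MvPolynomial σ p.ResidueField := MvPolynomial.map (algebraMap R p.ResidueField)
  letI := (fibreMap φ p).toRingHom.toAlgebra
  let g : MvPolynomial σ p.ResidueField →+* Localization.AtPrime Q :=
    (algebraMap (p.Fiber B) (Localization.AtPrime Q)).comp (fibreMap φ p).toRingHom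
  let τ : L →+* Localization.AtPrime Q := θ.toRingHom.comp (Ideal.Quotient.mk _)
  have hg : RingHom.QuasiFinite (R := MvPolynomial σ p.ResidueField) (S := Localization.AtPrime Q) g :=
    quasiFinite_of_surjective_of_factor (A := MvPolynomial σ R) (K := MvPolynomial σ p.ResidueField) (L := L)
      (L' := Localization.AtPrime Q) ((algebraMap B L).comp φ.toRingHom) ρ g τ
      (θ.surjective.comp Ideal.Quotient.mk_surjective) (RingHom.ext fun z ↦ by
        show θ (Ideal.Quotient.mk _ (algebraMap B L (φ z))) = algebraMap (p.Fiber B) _ (fibreMap φ p (ρ z))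
        rw [hθ, fibreMap_map]) (RingHom.quasiFinite_algebraMap.mpr hqf)
  haveI : Algebra.QuasiFiniteAt (MvPolynomial σ p.ResidueField) Q :=
    (RingHom.quasiFinite_algebraMap (R := MvPolynomial σ p.ResidueField) (S := Localization.AtPrime Q)).mp hg
  exact localDim_eq_of_flat_qf' Q hflat

theorem exists_open_fibreDimAt_eq {X Y : Scheme.{u}} (f : X ⟶ Y) [LocallyOfFinitePresentation f] (x : X)
    (hcm : MoreMor.IsCMAt f x) :
    ∃ (d : ℕ) (O : Set X), IsOpen O ∧ x ∈ O ∧ ∀ z ∈ O, FlatMor.fibreDimAt f z = d := by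
  obtain ⟨_, ⟨U, hU, rfl⟩, hxU, -⟩ :=
    Y.isBasis_affineOpens.exists_subset_of_mem_open (Set.mem_univ (f x)) isOpen_univ
  obtain ⟨_, ⟨V, hV, rfl⟩, hxV, hVsub⟩ := X.isBasis_affineOpens.exists_subset_of_mem_open
    (show x ∈ (f ⁻¹ᵁ U : X.Opens) from hxU) (f ⁻¹ᵁ U).2
  have hVU : V ≤ f ⁻¹ᵁ U := fun z hz ↦ hVsub hz
  have hV : IsAffineOpen V := hV
  have hU : IsAffineOpen U := hU
  have hfp := f.finitePresentation_appLE hU hV hVU
  algebraize [(f.appLE U V hVU).hom]
  have hmem := (isCMAt_iff_mem_cmSet f hU hV hVU rfl x hxV).mp hcm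
  obtain ⟨d, φ, h⟩ := exists_qf_flat _ hmem
  letI := φ.toRingHom.toAlgebra
  haveI : IsScalarTower Γ(Y, U) (MvPolynomial (ULift.{u} (Fin d)) Γ(Y, U)) Γ(X, V) :=
    IsScalarTower.of_algebraMap_eq fun r ↦ (φ.commutes r).symm
  haveI : Algebra.FinitePresentation (MvPolynomial (ULift.{u} (Fin d)) Γ(Y, U)) Γ(X, V) :=
    Algebra.FinitePresentation.of_restrict_scalars_finitePresentation Γ(Y, U) _ _
  let G : Set (PrimeSpectrum Γ(X, V)) :=
    {q | Algebra.QuasiFiniteAt (MvPolynomial (ULift.{u} (Fin d)) Γ(Y, U)) q.asIdeal} ∩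
      FlatLib.flatLocus (MvPolynomial (ULift.{u} (Fin d)) Γ(Y, U)) Γ(X, V) Γ(X, V)
  have hG : IsOpen G := (RichLib.QFLocus.isOpen_setOf_quasiFiniteAt _ _).inter FlatLib.isOpen_flatLocus_fp
  have hconst : ∀ z : PrimeSpectrum Γ(X, V), z ∈ G → FlatMor.fibreDimAt f (hV.fromSpec z) = d := by
    intro z hz
    have hmemz : hV.fromSpec z ∈ V := by
      have h1 : hV.fromSpec z ∈ Set.range hV.fromSpec := ⟨z, rfl⟩
      rwa [hV.range_fromSpec] at h1
    have hzeq : hV.primeIdealOf ⟨hV.fromSpec z, hmemz⟩ = z :=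
      hV.fromSpec.isOpenEmbedding.injective (hV.fromSpec_primeIdealOf ⟨_, hmemz⟩)
    obtain ⟨Q, hQ, hdim⟩ := FibDimLib.fibreDimAt_eq_affine f (hV.fromSpec z) hU hV hVU hmemz
    rw [← hdim, localDim_fibre_of_qf_flat φ z _ Q.asIdeal (hQ.trans (congrArg _ hzeq)) hz]
    simp
  refine ⟨d, hV.fromSpec '' G, hV.fromSpec.isOpenEmbedding.isOpenMap _ hG,
    ⟨hV.primeIdealOf ⟨x, hxV⟩, h, hV.fromSpec_primeIdealOf ⟨x, hxV⟩⟩, ?_⟩
  rintro _ ⟨z, hz, rfl⟩
  exact hconst z hz

theorem isLocallyConstant_fibreDimAt {X Y : Scheme.{u}} (f : X ⟶ Y) [LocallyOfFinitePresentation f]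
    (hcm : ∀ x : X, MoreMor.IsCMAt f x) : IsLocallyConstant fun x : X => FlatMor.fibreDimAt f x := by
  rw [IsLocallyConstant.iff_exists_open]
  intro x
  obtain ⟨d, O, hO, hxO, hd⟩ := exists_open_fibreDimAt_eq f x (hcm x)
  exact ⟨O, hO, hxO, fun z hz ↦ (hd z hz).trans (hd x hxO).symm⟩

end CMFlatLib
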