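import Groth.Agent.DimIneqLib.StalkFibre
import Groth.Agent.DimIneqLib.Dim
import Groth.Agent.FibDimLib.TopLocalDim
import Groth.Agent.CMFlatLib.FibreDim
import Groth.Agent.CMFlatLib.BaseChangeScheme

/-! # Local dimension along Cohen-Macaulay morphisms -/

set_option autoImplicit false

universe u

open CategoryTheory AlgebraicGeometry TopologicalSpace Topology IsLocalRing

namespace CMFlatLib

variable {X Y : Scheme.{u}}

theorem le_of_forall_nat_le {a b : WithBot ℕ∞} (ha : 0 ≤ a) (h : ∀ n : ℕ, (n : WithBot ℕ∞) ≤ a → (n : WithBot ℕ∞) ≤ b) :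
    a ≤ b := by
  induction a with
  | bot => exact bot_le
  | coe a =>
    induction b with
    | bot => exact absurd (h 0 ha) (not_le.mpr (WithBot.bot_lt_coe _))
    | coe b =>
      refine WithBot.coe_le_coe.mpr ?_
      induction a using ENat.recTopCoe with
      | top =>
        refine le_of_eq (ENat.eq_top_iff_forall_ge.mpr fun n => ?_).symm
        exact WithBot.coe_le_coe.mp (h n (WithBot.coe_le_coe.mpr le_top))
      | coe n => exact WithBot.coe_le_coe.mp (h n le_rfl)

theorem stalk_dim_le_open (U : X.Opens) (x : X) (hx : x ∈ U) :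
    ringKrullDim (X.presheaf.stalk x) ≤ topologicalKrullDim (U : Set X) :=
  (ringKrullDim_eq_of_ringEquiv (U.stalkIso ⟨x, hx⟩).commRingCatIsoToRingEquiv).symm.trans_le
    (DimIneqLib.stalk_dim_le_dim (X := U.toScheme) ⟨x, hx⟩)

theorem exists_stalk_of_open (U : X.Opens) {n : ℕ} (h : (n : WithBot ℕ∞) ≤ topologicalKrullDim (U : Set X)) :
    ∃ x : X, x ∈ U ∧ (n : WithBot ℕ∞) ≤ ringKrullDim (X.presheaf.stalk x) := by
  obtain ⟨z, hz⟩ := DimIneqLib.exists_stalk_of_chain (X := U.toScheme) h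
  exact ⟨z.1, z.2, hz.trans_eq (ringKrullDim_eq_of_ringEquiv (U.stalkIso z).commRingCatIsoToRingEquiv)⟩

theorem fibreDimAt_fiberι (f : X ⟶ Y) (s : Y) (w : f.fiber s) :
    FlatMor.fibreDimAt f (f.fiberι s w) = FlatMor.localDim (f.fiber s) w := by
  have key : ∀ (z : X) (s : Y) (w : f.fiber s), f.fiberι s w = z →
      FlatMor.fibreDimAt f z = FlatMor.localDim (f.fiber s) w := by
    intro z s w hz
    obtain rfl : s = f z := by
      rw [← hz]
      exact ((Set.ext_iff.mp (f.range_fiberι s) _).mp ⟨w, rfl⟩).symm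
    obtain rfl : w = f.asFiber z :=
      (f.fiberι (f z)).isEmbedding.injective (hz.trans (f.fiberι_asFiber z).symm)
    rfl
  exact key _ s w rfl

theorem ringKrullDim_stalk_eq_add [IsLocallyNoetherian X] [IsLocallyNoetherian Y] (f : X ⟶ Y) (s : Y) (w : f.fiber s)
    (hf : (f.stalkMap (f.fiberι s w)).hom.Flat) :
    ringKrullDim (X.presheaf.stalk (f.fiberι s w)) =
      ringKrullDim (Y.presheaf.stalk (f (f.fiberι s w))) + ringKrullDim ((f.fiber s).presheaf.stalk w) := by
  obtain ⟨hsurj, hker⟩ := Groth.Agent.S9501.result f s w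
  let e := (RingHom.quotientKerEquivOfSurjective hsurj).symm.trans (Ideal.quotEquivOfEq hker)
  rw [ringKrullDim_eq_of_ringEquiv e]
  letI := (f.stalkMap (f.fiberι s w)).hom.toAlgebra
  haveI : Module.Flat (Y.presheaf.stalk (f (f.fiberι s w))) (X.presheaf.stalk (f.fiberι s w)) := hf
  haveI : IsLocalHom (algebraMap (Y.presheaf.stalk (f (f.fiberι s w))) (X.presheaf.stalk (f.fiberι s w))) :=
    inferInstanceAs (IsLocalHom (f.stalkMap (f.fiberι s w)).hom)
  exact CatLib.ringKrullDim_eq_add_of_flat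

theorem localDim_eq_add_fibreDimAt_of_cm [IsLocallyNoetherian X] [IsLocallyNoetherian Y] (f : X ⟶ Y)
    [LocallyOfFiniteType f] (hf : ∀ x : X, MoreMor.IsCMAt f x) (x : X) :
    FlatMor.localDim ↑X x = FlatMor.localDim ↑Y (f x) + FlatMor.fibreDimAt f x := by
  haveI : Flat f := Flat.iff_flat_stalkMap f |>.mpr fun z => (hf z).1
  haveI : LocallyOfFinitePresentation f := inferInstance
  haveI : ∀ y, LocallyOfFiniteType (f.fiberToSpecResidueField y) := fun y => UOpenLib.lft_fiberToSpec f y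
  obtain ⟨d, O, hO, hxO, hd⟩ := exists_open_fibreDimAt_eq f x (hf x)
  rw [hd x hxO]
  refine le_antisymm ?_ ?_
  · obtain ⟨V, hV, hVd⟩ := FibDimLib.exists_open_localDim (f x)
    let U : X.Opens := ⟨O ∩ f ⁻¹' V, hO.inter (V.isOpen.preimage f.continuous)⟩
    refine (FibDimLib.localDim_le_of_open (U := U) (show x ∈ U from ⟨hxO, hV⟩)).trans (hVd ▸ ?_)
    haveI : Nonempty (U : Set X) := ⟨⟨x, hxO, hV⟩⟩
    refine le_of_forall_nat_le ((FibDimLib.localDim_nonneg (⟨x, hxO, hV⟩ : (U : Set X))).trans (FibDimLib.localDim_le _))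
      fun n hn => ?_
    obtain ⟨z, hz, hzn⟩ := exists_stalk_of_open U hn
    refine hzn.trans ((DimIneqLib.ringKrullDim_stalk_le_add_fibre f z).trans (add_le_add ?_ ?_))
    · exact stalk_dim_le_open V (f z) hz.2
    · refine le_of_le_of_eq ?_ (hd z hz.1)
      show _ ≤ FlatMor.localDim (f.fiber (f z)) (f.asFiber z)
      let q : f.fiber (f z) ⟶ Spec (CommRingCat.of (Y.residueField (f z))) := f.fiberToSpecResidueField (f z)
      haveI : LocallyOfFiniteType q := UOpenLib.lft_fiberToSpec f (f z)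
      rw [FibDimLib.localDim_eq_closure_add_stalk q (f.asFiber z)]
      exact le_add_of_nonneg_left ((FibDimLib.localDim_nonneg
        (⟨f.asFiber z, subset_closure rfl⟩ : closure ({f.asFiber z} : Set (f.fiber (f z))))).trans (FibDimLib.localDim_le _))
  · obtain ⟨U₀, hxU₀, hUd⟩ := FibDimLib.exists_open_localDim x
    rw [← hUd]
    let U : X.Opens := ⟨(U₀ : Set X) ∩ O, U₀.isOpen.inter hO⟩
    have hVo : IsOpen (f '' (U : Set X)) := f.isOpenMap _ U.isOpen
    let V : Y.Opens := ⟨f '' (U : Set X), hVo⟩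
    have hxV : f x ∈ V := ⟨x, ⟨hxU₀, hxO⟩, rfl⟩
    refine (add_le_add (FibDimLib.localDim_le_of_open (U := V) hxV) le_rfl).trans ?_
    have hV0 : (0 : WithBot ℕ∞) ≤ topologicalKrullDim (V : Set Y) :=
      (FibDimLib.localDim_nonneg (⟨f x, hxV⟩ : (V : Set Y))).trans (FibDimLib.localDim_le _)
    have main : ∀ n : ℕ, (n : WithBot ℕ∞) ≤ topologicalKrullDim (V : Set Y) →
        ((n + d : ℕ) : WithBot ℕ∞) ≤ topologicalKrullDim (U₀ : Set X) := by
      intro n hn
      obtain ⟨v, ⟨a, ha, hav⟩, hvn⟩ := exists_stalk_of_open V hn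
      let q : f.fiber v ⟶ Spec (CommRingCat.of (Y.residueField v)) := f.fiberToSpecResidueField v
      haveI : LocallyOfFiniteType q := UOpenLib.lft_fiberToSpec f v
      haveI := LocallyOfFiniteType.jacobsonSpace (f.fiberToSpecResidueField v)
      obtain ⟨w₀, hw₀⟩ : a ∈ Set.range (f.fiberι v) := by rw [f.range_fiberι]; exact hav
      obtain ⟨w, hw, hwc⟩ := nonempty_inter_closedPoints
        (show ((f.fiberι v) ⁻¹' (U : Set X)).Nonempty from ⟨w₀, by rw [Set.mem_preimage, hw₀]; exact ha⟩)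
        (U.isOpen.preimage (f.fiberι v).continuous).isLocallyClosed
      have hfw : f (f.fiberι v w) = v := (Set.ext_iff.mp (f.range_fiberι v) _).mp ⟨w, rfl⟩
      have hw' : ringKrullDim ((f.fiber v).presheaf.stalk w) = (d : WithBot ℕ∞) := by
        rw [← FibDimLib.localDim_eq_stalk_of_isClosed q hwc, ← fibreDimAt_fiberι,
          hd _ hw.2]
      refine le_trans ?_ (stalk_dim_le_open U₀ (f.fiberι v w) hw.1)
      rw [ringKrullDim_stalk_eq_add f v w (Flat.stalkMap f _), hw', hfw, Nat.cast_add]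
      exact add_le_add hvn le_rfl
    have hU0 : (0 : WithBot ℕ∞) ≤ topologicalKrullDim (U₀ : Set X) :=
      (FibDimLib.localDim_nonneg (⟨x, hxU₀⟩ : (U₀ : Set X))).trans (FibDimLib.localDim_le _)
    refine le_of_forall_nat_le (add_nonneg hV0 (by exact_mod_cast Nat.zero_le d)) fun m hm => ?_
    by_cases hmd : m ≤ d
    · refine le_trans ?_ (main 0 hV0)
      exact_mod_cast (by omega : m ≤ 0 + d)
    · obtain ⟨n, rfl⟩ : ∃ n, m = n + d := ⟨m - d, by omega⟩
      refine main n ?_
      rw [Nat.cast_add] at hm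
      generalize topologicalKrullDim (V : Set Y) = D at hm
      induction D with
      | bot => simp at hm
      | coe D =>
        induction D using ENat.recTopCoe with
        | top => exact WithBot.coe_le_coe.mpr le_top
        | coe D => norm_cast at hm ⊢; omega

end CMFlatLib
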