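import Groth.Agent.GorLib.FlatLocal
import Groth.Agent.CatLib.CM
import Groth.Agent.CatLib.Flat
import Mathlib

/-! Cohen-Macaulay rings and flat local homomorphisms (EGA IV 6.3.3). -/

set_option autoImplicit false
universe u

open IsLocalRing RingTheory.Sequence CommAlgDim GorLib

namespace CMFlatLib

variable {R : Type u} [CommRing R] [IsLocalRing R] [IsNoetherianRing R]

theorem isCM_iff_of_depth_zero (h : maximalIdeal R ∈ associatedPrimes R R) :
    IsCM R ↔ ringKrullDim R = 0 := by
  refine ⟨fun ⟨rs, hrs, hd⟩ ↦ ?_, fun hd ↦ CatLib.isCM_of_hasSeqIn (hasSeqIn_zero _) hd.le⟩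
  cases rs with
  | nil => simpa using hd
  | cons r rs =>
    have h1 := length_le_ringKrullDim_of_mem_associatedPrimes (r :: rs) R hrs _ h
    letI := Ideal.Quotient.field (maximalIdeal R)
    rw [ringKrullDim_eq_zero_of_field] at h1
    exact absurd h1 (not_le.mpr (by exact_mod_cast Nat.succ_pos _))

theorem isCM_quotient_iff {y : R} (hy : IsSMulRegular R y) (hym : y ∈ maximalIdeal R) :
    IsCM (R ⧸ Ideal.span {y}) ↔ IsCM R := by
  refine ⟨fun ⟨rs', hrs', hd⟩ ↦ ?_, fun h ↦ h.quotient_singleton hy hym⟩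
  obtain ⟨rs, rfl⟩ : ∃ rs : List R, rs.map (Ideal.Quotient.mk (Ideal.span {y})) = rs' := by
    clear hrs' hd
    induction rs' with
    | nil => exact ⟨[], rfl⟩
    | cons a l ih =>
      obtain ⟨l', rfl⟩ := ih
      obtain ⟨a', rfl⟩ := Ideal.Quotient.mk_surjective a
      exact ⟨a' :: l', rfl⟩
  refine ⟨y :: rs, isRegular_cons_ring.2 ⟨hy, hrs'⟩, ?_⟩
  rw [← ringKrullDim_quotient_span_singleton_succ_eq_ringKrullDim hy hym, hd]
  simp

theorem isCM_congr {S : Type u} [CommRing S] [IsLocalRing S] [IsNoetherianRing S] (e : R ≃+* S) :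
    IsCM R ↔ IsCM S :=
  ⟨CatLib.isCM_of_ringEquiv e, CatLib.isCM_of_ringEquiv e.symm⟩

section Main

variable {A : Type u} [CommRing A] [IsLocalRing A] [IsNoetherianRing A]
  {B : Type u} [CommRing B] [IsLocalRing B] [IsNoetherianRing B]
  [Algebra A B] [IsLocalHom (algebraMap A B)] [Module.Flat A B]

theorem maximalIdeal_mem_associatedPrimes_of_flat (hA : maximalIdeal A ∈ associatedPrimes A A)
    [IsLocalRing (Fib A B)] (hF : maximalIdeal (Fib A B) ∈ associatedPrimes (Fib A B) (Fib A B)) :
    maximalIdeal B ∈ associatedPrimes B B := by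
  obtain ⟨-, s, hs⟩ := isAssociatedPrime_iff.1 hA
  have hs' : ∀ a, a ∈ maximalIdeal A ↔ a * s = 0 := fun a => by
    rw [hs, Submodule.mem_colon_singleton, Submodule.mem_bot, smul_eq_mul]
  obtain ⟨-, tb, ht⟩ := isAssociatedPrime_iff.1 hF
  obtain ⟨t, rfl⟩ := Ideal.Quotient.mk_surjective tb
  have htm : t ∉ (maximalIdeal A).map (algebraMap A B) := fun htm => by
    have h1 : (1 : Fib A B) ∈ maximalIdeal (Fib A B) := by
      rw [ht, Submodule.mem_colon_singleton, Submodule.mem_bot, one_smul, Ideal.Quotient.eq_zero_iff_mem]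
      exact htm
    exact (maximalIdeal.isMaximal _).ne_top ((Ideal.eq_top_iff_one _).2 h1)
  have hs0 : s ∉ (⊥ : Ideal A) := fun h => by
    have h1 : (1 : A) ∈ maximalIdeal A := (hs' 1).2 (by rw [one_mul]; exact (Submodule.mem_bot _).1 h)
    exact (maximalIdeal.isMaximal _).ne_top ((Ideal.eq_top_iff_one _).2 h1)
  have hann : ∀ b ∈ maximalIdeal B, b * (algebraMap A B s * t) = 0 := fun b hb => by
    have h1 : b * t ∈ (maximalIdeal A).map (algebraMap A B) := by
      have : Ideal.Quotient.mk ((maximalIdeal A).map (algebraMap A B)) b ∈ maximalIdeal (Fib A B) :=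
        fun hu => not_isUnit_mk (map_maximalIdeal_ne_top A B) hb hu
      rw [ht, Submodule.mem_colon_singleton, Submodule.mem_bot, smul_eq_mul, ← map_mul,
        Ideal.Quotient.eq_zero_iff_mem] at this
      exact this
    rw [mul_left_comm]
    generalize b * t = z at h1 ⊢
    induction h1 using Submodule.span_induction with
    | mem x hx =>
      obtain ⟨a, ha, rfl⟩ := hx
      rw [← map_mul, mul_comm, (hs' a).1 ha, map_zero]
    | zero => rw [mul_zero]
    | add x y _ _ hx hy => rw [mul_add, hx, hy, add_zero]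
    | smul c x _ hx => rw [smul_eq_mul, mul_left_comm, hx, mul_zero]
  have hne : algebraMap A B s * t ≠ 0 := fun h0 =>
    htm (colon_mem (m := maximalIdeal A) (I := ⊥) (s := s)
      (fun a ha => (Submodule.mem_bot _).2 ((hs' a).1 ha)) hs0 (b := t)
      (by rw [Ideal.map_bot, Submodule.mem_bot]; exact h0))
  refine isAssociatedPrime_iff.2 ⟨inferInstance, algebraMap A B s * t, le_antisymm (fun b hb => ?_) fun b hb => ?_⟩
  · rw [Submodule.mem_colon_singleton, Submodule.mem_bot, smul_eq_mul]
    exact hann b hb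
  · rw [Submodule.mem_colon_singleton, Submodule.mem_bot, smul_eq_mul] at hb
    exact fun hu => hne (hu.mul_right_eq_zero.1 hb)

theorem isCM_flat_depth_zero (hA : maximalIdeal A ∈ associatedPrimes A A)
    [IsLocalRing (Fib A B)] (hF : maximalIdeal (Fib A B) ∈ associatedPrimes (Fib A B) (Fib A B)) :
    IsCM B ↔ IsCM A ∧ IsCM (Fib A B) := by
  rw [isCM_iff_of_depth_zero (maximalIdeal_mem_associatedPrimes_of_flat hA hF), isCM_iff_of_depth_zero hA,
    isCM_iff_of_depth_zero hF, CatLib.ringKrullDim_eq_add_of_flat (A := A) (B := B)]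
  obtain ⟨a, ha⟩ := exists_ringKrullDim_eq (R := A)
  obtain ⟨c, hc⟩ := exists_ringKrullDim_eq (R := Fib A B)
  rw [ha, show ringKrullDim (B ⧸ (maximalIdeal A).map (algebraMap A B)) = _ from hc]
  norm_cast
  omega

end Main

theorem isCM_flat_iff_aux : ∀ (n : ℕ) (A : Type u) [CommRing A] [IsLocalRing A] [IsNoetherianRing A]
    (B : Type u) [CommRing B] [IsLocalRing B] [IsNoetherianRing B]
    [Algebra A B] [IsLocalHom (algebraMap A B)] [Module.Flat A B], ringKrullDim B < n →
    (IsCM B ↔ IsCM A ∧ IsCM (Fib A B)) := by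
  intro n
  induction n with
  | zero =>
    intro A _ _ _ B _ _ _ _ _ _ h
    exact absurd h (not_lt.2 ringKrullDim_nonneg_of_nontrivial)
  | succ n ih =>
    intro A _ _ _ B _ _ _ _ _ _ hdim
    haveI : IsLocalRing (Fib A B) := isLocalRing_quotient (map_maximalIdeal_ne_top A B)
    have hdim' : ∀ {g : B}, IsSMulRegular B g → g ∈ maximalIdeal B →
        ringKrullDim (B ⧸ Ideal.span {g}) < n := by
      intro g hg hgm
      have h := ringKrullDim_quotient_span_singleton_succ_eq_ringKrullDim hg hgm
      rw [← h, Nat.cast_add, Nat.cast_one] at hdim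
      exact lt_of_add_lt_add_right hdim
    by_cases hA : maximalIdeal A ∈ associatedPrimes A A
    · by_cases hF : maximalIdeal (Fib A B) ∈ associatedPrimes (Fib A B) (Fib A B)
      · exact isCM_flat_depth_zero hA hF
      · obtain ⟨gb, hgm, hg⟩ := exists_isSMulRegular_mem (M := Fib A B) (I := maximalIdeal (Fib A B))
          fun p hp hle => hF ((le_antisymm (le_maximalIdeal hp.isPrime.ne_top) hle) ▸ hp)
        obtain ⟨g, rfl⟩ := Ideal.Quotient.mk_surjective gb
        have hgB : g ∈ maximalIdeal B := by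
          by_contra hgn
          exact hgm ((not_not.1 hgn).map _)
        obtain ⟨hflat, hgreg⟩ := Groth.Agent.S0395.result (R := A) (S := B) g
          (mem_nonZeroDivisors_iff_left.2 fun y hy => hg (hy.trans (mul_zero _).symm))
        have hgreg' : IsSMulRegular B g := fun a b hab => by
          have : g * (a - b) = 0 := by rw [mul_sub]; exact sub_eq_zero.2 hab
          exact sub_eq_zero.1 ((mem_nonZeroDivisors_iff_left.1 hgreg) _ this)
        have hgne : Ideal.span {g} ≠ ⊤ :=
          ne_top_of_le_ne_top (Ideal.IsMaximal.ne_top inferInstance) ((Ideal.span_singleton_le_iff_mem _).2 hgB)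
        haveI : IsLocalRing (B ⧸ Ideal.span {g}) := isLocalRing_quotient hgne
        haveI : IsLocalHom (algebraMap A (B ⧸ Ideal.span {g})) := ⟨fun a ha => by
          by_contra han
          exact not_isUnit_mk hgne ((comap_maximalIdeal' A B a).2 han) ha⟩
        haveI : IsLocalRing (Fib A B ⧸ Ideal.span {Ideal.Quotient.mk ((maximalIdeal A).map (algebraMap A B)) g}) :=
          isLocalRing_quotient (singleton_ne_top hgm)
        haveI : IsLocalRing (Fib A (B ⧸ Ideal.span {g})) := isLocalRing_quotient (map_maximalIdeal_ne_top A _)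
        rw [← isCM_quotient_iff hgreg' hgB, ih A (B ⧸ Ideal.span {g}) (hdim' hgreg' hgB),
          ← isCM_quotient_iff hg hgm]
        refine and_congr_right fun _ => isCM_congr ?_
        refine (Ideal.quotEquivOfEq ?_).trans ((DoubleQuot.quotQuotEquivComm (Ideal.span {g})
          ((maximalIdeal A).map (algebraMap A B))).trans (Ideal.quotEquivOfEq ?_))
        · rw [Ideal.map_map]; rfl
        · rw [Ideal.map_span, Set.image_singleton]
    · obtain ⟨f, hfm, hf⟩ := exists_isSMulRegular_mem (M := A) (I := maximalIdeal A) fun p hp hle =>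
        hA ((le_antisymm (le_maximalIdeal hp.isPrime.ne_top) hle) ▸ hp)
      have hfB : algebraMap A B f ∈ maximalIdeal B := (comap_maximalIdeal' A B f).2 hfm
      have hfreg : IsSMulRegular B (algebraMap A B f) := hf.of_flat
      have hspan : (Ideal.span {f}).map (algebraMap A B) = Ideal.span {algebraMap A B f} := by
        rw [Ideal.map_span, Set.image_singleton]
      have hfne : Ideal.span {f} ≠ ⊤ :=
        ne_top_of_le_ne_top (Ideal.IsMaximal.ne_top inferInstance) ((Ideal.span_singleton_le_iff_mem _).2 hfm)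
      have hfne' : (Ideal.span {f}).map (algebraMap A B) ≠ ⊤ := by
        rw [hspan]
        exact ne_top_of_le_ne_top (Ideal.IsMaximal.ne_top inferInstance) ((Ideal.span_singleton_le_iff_mem _).2 hfB)
      haveI : IsLocalRing (A ⧸ Ideal.span {f}) := isLocalRing_quotient hfne
      haveI : IsLocalRing (B ⧸ (Ideal.span {f}).map (algebraMap A B)) := isLocalRing_quotient hfne'
      haveI : IsLocalRing (B ⧸ Ideal.span {algebraMap A B f}) := isLocalRing_quotient (hspan ▸ hfne')
      haveI : Module.Flat (A ⧸ Ideal.span {f}) (B ⧸ (Ideal.span {f}).map (algebraMap A B)) :=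
        CatLib.flat_quotient _
      haveI : IsLocalHom (algebraMap (A ⧸ Ideal.span {f}) (B ⧸ (Ideal.span {f}).map (algebraMap A B))) := ⟨fun x hx => by
        obtain ⟨a, rfl⟩ := Ideal.Quotient.mk_surjective x
        by_contra han
        refine not_isUnit_mk hfne' ((comap_maximalIdeal' A B a).2 fun h => han (h.map _)) ?_
        exact hx⟩
      haveI : IsLocalRing (Fib (A ⧸ Ideal.span {f}) (B ⧸ (Ideal.span {f}).map (algebraMap A B))) :=
        isLocalRing_quotient (map_maximalIdeal_ne_top _ _)
      have hd : ringKrullDim (B ⧸ (Ideal.span {f}).map (algebraMap A B)) < n := by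
        rw [ringKrullDim_eq_of_ringEquiv (Ideal.quotEquivOfEq hspan)]
        exact hdim' hfreg hfB
      rw [← isCM_quotient_iff hfreg hfB, ← isCM_congr (Ideal.quotEquivOfEq hspan),
        ih (A ⧸ Ideal.span {f}) (B ⧸ (Ideal.span {f}).map (algebraMap A B)) hd, isCM_quotient_iff hf hfm]
      refine and_congr_right fun _ => isCM_congr ?_
      refine (Ideal.quotEquivOfEq ?_).trans (DoubleQuot.quotQuotEquivQuotOfLE
        (Ideal.map_mono ((Ideal.span_singleton_le_iff_mem _).2 hfm)))
      rw [maximalIdeal_quotient, Ideal.map_map, Ideal.map_map]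
      rfl

/-- For a flat local homomorphism of Noetherian local rings, `B` is CM iff `A` and the closed fibre are. -/
theorem isCM_flat_iff (A : Type u) [CommRing A] [IsLocalRing A] [IsNoetherianRing A]
    (B : Type u) [CommRing B] [IsLocalRing B] [IsNoetherianRing B]
    [Algebra A B] [IsLocalHom (algebraMap A B)] [Module.Flat A B] :
    IsCM B ↔ IsCM A ∧ IsCM (Fib A B) := by
  obtain ⟨d, hd⟩ := exists_ringKrullDim_eq (R := B)
  exact isCM_flat_iff_aux (d + 1) A B (by rw [hd]; exact_mod_cast Nat.lt_succ_self d)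

end CMFlatLib
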