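import Groth.Agent.CMFlatLib.Basic
import Groth.Agent.FlatCrit.Quotient
import Mathlib

/-! Flatness along a regular sequence generating the maximal ideal. -/

set_option autoImplicit false
universe u

open IsLocalRing RingTheory.Sequence CommAlgDim GorLib TensorProduct

namespace CMFlatLib

theorem isWeaklyRegular_cons_ring {R : Type u} [CommRing R] {x : R} {rs : List R} :
    IsWeaklyRegular R (x :: rs) ↔ IsSMulRegular R x ∧
      IsWeaklyRegular (R ⧸ Ideal.span {x}) (rs.map (Ideal.Quotient.mk (Ideal.span {x}))) := by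
  rw [isWeaklyRegular_cons_iff']
  have e : QuotSMulTop x R ≃ₗ[R] R ⧸ Ideal.span {x} :=
    Submodule.quotEquivOfEq _ _ (by simp [← Submodule.ideal_span_singleton_smul])
  exact and_congr Iff.rfl ((e.extendScalarsOfSurjective Ideal.Quotient.mk_surjective).isWeaklyRegular_congr _)

theorem injective_lTensor_span_singleton {A B : Type u} [CommRing A] [CommRing B] [Algebra A B] {x : A}
    (hxA : IsSMulRegular A x) (hxB : IsSMulRegular B (algebraMap A B x)) :
    Function.Injective (LinearMap.lTensor B (Ideal.span {x} : Ideal A).subtype) := by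
  let p : A →ₗ[A] (Ideal.span {x} : Ideal A) :=
    LinearMap.toSpanSingleton A _ ⟨x, Ideal.mem_span_singleton_self x⟩
  have hp : Function.Surjective p := fun y ↦ by
    obtain ⟨a, ha⟩ := Ideal.mem_span_singleton'.mp y.2
    exact ⟨a, Subtype.ext ha⟩
  have key : ∀ t : B, LinearMap.lTensor B (Ideal.span {x} : Ideal A).subtype (LinearMap.lTensor B p (t ⊗ₜ[A] 1)) =
      (algebraMap A B x * t) ⊗ₜ[A] 1 := fun t ↦ by
    rw [LinearMap.lTensor_tmul, LinearMap.lTensor_tmul]
    show t ⊗ₜ[A] ((1 : A) * x) = _
    rw [one_mul, show (x : A) = x • 1 by rw [smul_eq_mul, mul_one], ← TensorProduct.smul_tmul, Algebra.smul_def]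
    simp
  intro u v huv
  obtain ⟨u', rfl⟩ := LinearMap.lTensor_surjective B hp u
  obtain ⟨v', rfl⟩ := LinearMap.lTensor_surjective B hp v
  obtain ⟨u, rfl⟩ := (TensorProduct.rid A B).symm.surjective u'
  obtain ⟨v, rfl⟩ := (TensorProduct.rid A B).symm.surjective v'
  rw [TensorProduct.rid_symm_apply, TensorProduct.rid_symm_apply, key, key] at huv
  have h := congrArg (TensorProduct.rid A B) huv
  rw [TensorProduct.rid_tmul, TensorProduct.rid_tmul, one_smul, one_smul] at h
  rw [show u = v from hxB h]

theorem flat_of_regular_seq : ∀ (n : ℕ) (A : Type u) [CommRing A] [IsLocalRing A] [IsNoetherianRing A]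
    (B : Type u) [CommRing B] [IsLocalRing B] [IsNoetherianRing B]
    [Algebra A B] [IsLocalHom (algebraMap A B)] (rs : List A), rs.length = n →
    IsWeaklyRegular A rs → IsWeaklyRegular B (rs.map (algebraMap A B)) →
    Ideal.ofList rs = maximalIdeal A → Module.Flat A B := by
  intro n
  induction n with
  | zero =>
    intro A _ _ _ B _ _ _ _ _ rs hl _ _ hm
    obtain rfl := List.eq_nil_of_length_eq_zero hl
    rw [Ideal.ofList_nil] at hm
    letI := (IsLocalRing.isField_iff_maximalIdeal_eq.mpr hm.symm).toField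
    infer_instance
  | succ n ih =>
    intro A _ _ _ B _ _ _ _ _ rs hl hA hB hm
    obtain ⟨x, rs, rfl⟩ : ∃ x l, rs = x :: l := List.exists_cons_of_length_eq_add_one hl
    rw [List.map_cons] at hB
    rw [isWeaklyRegular_cons_ring] at hA hB
    obtain ⟨hxA, hA⟩ := hA
    obtain ⟨hxB, hB⟩ := hB
    have hxm : x ∈ maximalIdeal A := hm ▸ Ideal.subset_span (List.mem_cons_self ..)
    let I : Ideal A := Ideal.span {x}
    let J : Ideal B := I.map (algebraMap A B)
    have hJspan : J = Ideal.span {algebraMap A B x} := by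
      show Ideal.map _ (Ideal.span {x}) = _
      rw [Ideal.map_span, Set.image_singleton]
    have hIm : I ≤ maximalIdeal A := (Ideal.span_singleton_le_iff_mem _).mpr hxm
    have hJm : J ≤ maximalIdeal B := (Ideal.map_mono hIm).trans (IsLocalRing.map_maximalIdeal_le _)
    have hIne : I ≠ ⊤ := ne_top_of_le_ne_top (maximalIdeal.isMaximal A).ne_top hIm
    have hJne : J ≠ ⊤ := ne_top_of_le_ne_top (maximalIdeal.isMaximal B).ne_top hJm
    haveI : IsLocalRing (A ⧸ I) := isLocalRing_quotient hIne
    haveI : IsLocalRing (B ⧸ J) := isLocalRing_quotient hJne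
    haveI : IsLocalHom (algebraMap (A ⧸ I) (B ⧸ J)) := ⟨fun z hz => by
      obtain ⟨a, rfl⟩ := Ideal.Quotient.mk_surjective z
      by_contra han
      refine not_isUnit_mk hJne (x := algebraMap A B a) (fun hu => han ((isUnit_of_map_unit (algebraMap A B) a hu).map _)) ?_
      exact hz⟩
    have hflat : Module.Flat (A ⧸ I) (B ⧸ J) := by
      refine ih (A ⧸ I) (B ⧸ J) (rs.map (Ideal.Quotient.mk I)) (by simpa using hl) hA ?_ ?_
      · let e : B ⧸ Ideal.span {algebraMap A B x} ≃+* B ⧸ J := Ideal.quotEquivOfEq hJspan.symm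
        have hfor : List.Forall₂ (fun r s => ∀ y : B ⧸ Ideal.span {algebraMap A B x},
            e.toAddEquiv (r • y) = s • e.toAddEquiv y)
            ((rs.map (algebraMap A B)).map (Ideal.Quotient.mk (Ideal.span {algebraMap A B x})))
            ((rs.map (Ideal.Quotient.mk I)).map (algebraMap (A ⧸ I) (B ⧸ J))) := by
          clear hA hB hl hm
          induction rs with
          | nil => exact List.Forall₂.nil
          | cons r rs ih => exact List.Forall₂.cons (fun y => map_mul e _ y) ih
        exact (AddEquiv.isWeaklyRegular_congr (e := e.toAddEquiv) hfor).1 hB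
      · rw [maximalIdeal_quotient, ← hm, Ideal.ofList_cons, Ideal.map_sup, Ideal.map_ofList,
          show Ideal.map (Ideal.Quotient.mk I) (Ideal.span {x}) = ⊥ from Ideal.map_quotient_self I, bot_sup_eq]
    refine FlatCrit.flat_of_injective_of_flat_quotient (R := A) (S := B) (M := B) I
      (hJm.trans (IsLocalRing.jacobson_eq_maximalIdeal ⊥ bot_ne_top).ge)
      (injective_lTensor_span_singleton hxA hxB) ?_
    exact (FlatCrit.flat_tensor_quotient_iff I).mpr (RingHom.flat_algebraMap_iff.mpr hflat)

end CMFlatLib
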