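import Groth.Agent.CMFlatLib.BaseChange
import Groth.Agent.CMFlatLib.RegFlat
import Groth.Agent.S9501

/-! # Depth from the fibre -/

set_option autoImplicit false

universe u

open CategoryTheory IsLocalRing RingTheory.Sequence CommAlgDim GorLib

namespace CMFlatLib

theorem exists_map_list {R S : Type u} [CommRing R] [CommRing S] (f : R →+* S) (hf : Function.Surjective f)
    (I : Ideal R) : ∀ rs : List S, (∀ r ∈ rs, r ∈ I.map f) → ∃ ls : List R, (∀ a ∈ ls, a ∈ I) ∧ ls.map f = rs
  | [], _ => ⟨[], by simp, rfl⟩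
  | r :: rs, h => by
    obtain ⟨a, ha, rfl⟩ := (Ideal.mem_map_iff_of_surjective f hf).1 (h r List.mem_cons_self)
    obtain ⟨ls, hls, rfl⟩ := exists_map_list f hf I rs fun x hx => h x (List.mem_cons_of_mem _ hx)
    exact ⟨a :: ls, List.forall_mem_cons.2 ⟨ha, hls⟩, rfl⟩

/-- In a CM local ring `dim R/J + n ≤ dim R` gives a regular sequence of length `n` in `J`. -/
theorem hasSeqIn_of_isCM : ∀ (n : ℕ) (R : Type u) [CommRing R] [IsLocalRing R] [IsNoetherianRing R] (J : Ideal R),
    IsCM R → J ≤ maximalIdeal R → ringKrullDim (R ⧸ J) + n ≤ ringKrullDim R → HasSeqIn J R n := by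
  intro n
  induction n with
  | zero => intro R _ _ _ J _ _ _; exact hasSeqIn_zero _
  | succ n ih =>
    intro R _ _ _ J hR hJ hd
    haveI : Nontrivial (R ⧸ J) := Ideal.Quotient.nontrivial_iff.2 (ne_top_of_le_ne_top (maximalIdeal.isMaximal R).ne_top hJ)
    obtain ⟨c, hc⟩ := exists_ringKrullDim_eq (R := R ⧸ J)
    obtain ⟨ls, hls, hdls⟩ := hR
    obtain ⟨x, hxJ, hx⟩ := exists_isSMulRegular_mem (M := R) (I := J) fun P hP hle => by
      have h3 := (length_le_ringKrullDim_of_mem_associatedPrimes ls R hls P hP).trans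
        (ringKrullDim_le_of_surjective (Ideal.Quotient.factor hle) (Ideal.Quotient.factor_surjective _))
      rw [hc] at h3 hd
      rw [hdls] at hd
      norm_cast at h3 hd
      omega
    have hxm : x ∈ maximalIdeal R := hJ hxJ
    haveI : IsLocalRing (R ⧸ Ideal.span {x}) := isLocalRing_quotient
      (ne_top_of_le_ne_top (Ideal.IsMaximal.ne_top inferInstance) ((Ideal.span_singleton_le_iff_mem _).2 hxm))
    have h5 := ringKrullDim_quotient_span_singleton_succ_eq_ringKrullDim hx hxm
    have hle : Ideal.span {x} ≤ J := (Ideal.span_singleton_le_iff_mem _).2 hxJ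
    have hm' : J.map (Ideal.Quotient.mk (Ideal.span {x})) ≤ maximalIdeal (R ⧸ Ideal.span {x}) := by
      rw [maximalIdeal_quotient]
      exact Ideal.map_mono hJ
    obtain ⟨rs, hl, hm, hr⟩ := ih (R ⧸ Ideal.span {x}) (J.map (Ideal.Quotient.mk _))
      (IsCM.quotient_singleton ⟨ls, hls, hdls⟩ hx hxm) hm' (by
        rw [ringKrullDim_eq_of_ringEquiv (DoubleQuot.quotQuotEquivQuotOfLE hle), hc]
        obtain ⟨e, he⟩ := exists_ringKrullDim_eq (R := R ⧸ Ideal.span {x})
        rw [he] at h5 ⊢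
        rw [hc, ← h5] at hd
        norm_cast at hd ⊢
        omega)
    obtain ⟨ts, hts, rfl⟩ := exists_map_list _ Ideal.Quotient.mk_surjective J rs hm
    exact ⟨x :: ts, by simpa using hl, List.forall_mem_cons.2 ⟨hxJ, hts⟩, isWeaklyRegular_cons_ring.2 ⟨hx, hr⟩⟩

/-- Regular sequences of the closed fibre lift along flat local homomorphisms. -/
theorem hasSeqIn_of_fib : ∀ (n : ℕ) (A : Type u) [CommRing A] [IsLocalRing A] [IsNoetherianRing A]
    (B : Type u) [CommRing B] [IsLocalRing B] [IsNoetherianRing B]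
    [Algebra A B] [IsLocalHom (algebraMap A B)] [Module.Flat A B] (I : Ideal B), I ≤ maximalIdeal B →
    HasSeqIn (I.map (Ideal.Quotient.mk ((maximalIdeal A).map (algebraMap A B)))) (Fib A B) n → HasSeqIn I B n := by
  intro n
  induction n with
  | zero => intros; exact hasSeqIn_zero _
  | succ n ih =>
    intro A _ _ _ B _ _ _ _ _ _ I hI h
    obtain ⟨rs, hl, hm, hr⟩ := h
    obtain ⟨gs, hgs, rfl⟩ := exists_map_list _ Ideal.Quotient.mk_surjective I rs hm
    obtain ⟨g, gs, rfl⟩ : ∃ g l, gs = g :: l := by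
      cases gs with
      | nil => simp at hl
      | cons g l => exact ⟨g, l, rfl⟩
    rw [List.map_cons, isWeaklyRegular_cons_ring] at hr
    obtain ⟨hflat, hgreg⟩ := Groth.Agent.S0395.result (R := A) (S := B) g
      (mem_nonZeroDivisors_iff_left.2 fun y hy => hr.1 (hy.trans (mul_zero _).symm))
    have hgreg' : IsSMulRegular B g := fun a b hab => by
      have : g * (a - b) = 0 := by rw [mul_sub]; exact sub_eq_zero.2 hab
      exact sub_eq_zero.1 ((mem_nonZeroDivisors_iff_left.1 hgreg) _ this)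
    have hgI : g ∈ I := hgs g List.mem_cons_self
    have hgne : Ideal.span {g} ≠ ⊤ :=
      ne_top_of_le_ne_top (Ideal.IsMaximal.ne_top inferInstance) ((Ideal.span_singleton_le_iff_mem _).2 (hI hgI))
    haveI : IsLocalRing (B ⧸ Ideal.span {g}) := isLocalRing_quotient hgne
    haveI : IsLocalHom (algebraMap A (B ⧸ Ideal.span {g})) := ⟨fun a ha => by
      by_contra han
      exact not_isUnit_mk hgne ((comap_maximalIdeal' A B a).2 han) ha⟩
    have hI' : I.map (Ideal.Quotient.mk (Ideal.span {g})) ≤ maximalIdeal (B ⧸ Ideal.span {g}) := by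
      rw [maximalIdeal_quotient]
      exact Ideal.map_mono hI
    let e : (Fib A B ⧸ Ideal.span {Ideal.Quotient.mk ((maximalIdeal A).map (algebraMap A B)) g}) ≃+*
        Fib A (B ⧸ Ideal.span {g}) :=
      (Ideal.quotEquivOfEq (by rw [Ideal.map_span, Set.image_singleton])).trans
        ((DoubleQuot.quotQuotEquivComm ((maximalIdeal A).map (algebraMap A B)) (Ideal.span {g})).trans
          (Ideal.quotEquivOfEq (by rw [Ideal.map_map]; rfl)))
    have he : ∀ b : B, e (Ideal.Quotient.mk _ (Ideal.Quotient.mk _ b)) = Ideal.Quotient.mk _ (Ideal.Quotient.mk _ b) := by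
      intro b
      simp only [e, RingEquiv.trans_apply, Ideal.quotEquivOfEq_mk]
      rfl
    obtain ⟨ts, htl, htm, htr⟩ := ih A (B ⧸ Ideal.span {g}) (I.map (Ideal.Quotient.mk _)) hI'
      ⟨gs.map (fun b => Ideal.Quotient.mk _ (Ideal.Quotient.mk _ b)), by simpa using hl,
        fun r hr' => by
          obtain ⟨b, hb, rfl⟩ := List.mem_map.1 hr'
          exact Ideal.mem_map_of_mem _ (Ideal.mem_map_of_mem _ (hgs b (List.mem_cons_of_mem _ hb))), by
        refine (AddEquiv.isWeaklyRegular_congr (e := e.toAddEquiv) ?_).1 hr.2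
        simp only [List.map_map, List.forall₂_map_left_iff, List.forall₂_map_right_iff, List.forall₂_same]
        intro b _ x
        show e (_ * x) = _ * e x
        rw [map_mul]
        exact congrArg (· * e x) (he b)⟩
    obtain ⟨us, hus, rfl⟩ := exists_map_list _ Ideal.Quotient.mk_surjective I ts htm
    exact ⟨g :: us, by simpa using htl, List.forall_mem_cons.2 ⟨hgI, hus⟩, isWeaklyRegular_cons_ring.2 ⟨hgreg', htr⟩⟩

theorem le_depth_of_fib (A : Type u) [CommRing A] [IsLocalRing A] [IsNoetherianRing A]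
    (B : Type u) [CommRing B] [IsLocalRing B] [IsNoetherianRing B]
    [Algebra A B] [IsLocalHom (algebraMap A B)] [Module.Flat A B] [IsLocalRing (Fib A B)] {d : ℕ}
    (h : (d : ℕ∞) ≤ LocCoh.depth (Fib A B) (Fib A B)) : (d : ℕ∞) ≤ LocCoh.depth B B := by
  rw [le_depth_iff] at h ⊢
  refine hasSeqIn_of_fib d A B (maximalIdeal B) le_rfl ?_
  rwa [← maximalIdeal_quotient]

theorem le_depth_of_isCM {R : Type u} [CommRing R] [IsLocalRing R] [IsNoetherianRing R] (hR : IsCM R) {d : ℕ}
    (hd : (d : WithBot ℕ∞) ≤ ringKrullDim R) : (d : ℕ∞) ≤ LocCoh.depth R R := by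
  obtain ⟨ls, hls, hdls⟩ := hR
  rw [le_depth_iff]
  refine HasSeqIn.mono (m := ls.length) ?_ ⟨ls, rfl, mem_maximalIdeal_of_isRegular hls, hls.toIsWeaklyRegular⟩
  rw [hdls] at hd
  exact_mod_cast hd

open AlgebraicGeometry in
theorem nonempty_fibre_equiv {X S : Scheme.{u}} (f : X ⟶ S) (x : X) :
    letI := (f.stalkMap x).hom.toAlgebra
    Nonempty ((f.fiber (f x)).presheaf.stalk (f.asFiber x) ≃+* Fib (S.presheaf.stalk (f x)) (X.presheaf.stalk x)) := by
  have key : ∀ (s : S) (y : f.fiber s) (z : X), (f.fiberι s) y = z →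
      Nonempty ((f.fiber s).presheaf.stalk y ≃+* (X.presheaf.stalk z ⧸
        (maximalIdeal (S.presheaf.stalk (f z))).map (f.stalkMap z).hom)) := by
    rintro s y z rfl
    obtain ⟨hsurj, hker⟩ := Groth.Agent.S9501.result f s y
    exact ⟨(RingHom.quotientKerEquivOfSurjective hsurj).symm.trans (Ideal.quotEquivOfEq hker)⟩
  exact key (f x) (f.asFiber x) x (f.fiberι_asFiber x)

theorem le_depth_congr {R S : Type u} [CommRing R] [IsLocalRing R] [CommRing S] [IsLocalRing S]
    [IsNoetherianRing S] (e : R ≃+* S) {d : ℕ} (h : (d : ℕ∞) ≤ LocCoh.depth R R) :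
    (d : ℕ∞) ≤ LocCoh.depth S S := by
  haveI : IsNoetherianRing R := isNoetherianRing_of_ringEquiv S e.symm
  rw [le_depth_iff] at h ⊢
  obtain ⟨rs, hl, hm, hr⟩ := h
  refine ⟨rs.map e, by simpa using hl, fun r hr' => ?_, ?_⟩
  · obtain ⟨a, ha, rfl⟩ := List.mem_map.1 hr'
    exact fun hu => hm a ha ((isUnit_map_iff e a).1 hu)
  · refine (AddEquiv.isWeaklyRegular_congr (e := e.toAddEquiv) ?_).1 hr
    rw [List.forall₂_map_right_iff, List.forall₂_same]
    intro a _ x
    show e (a * x) = e a * e x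
    rw [map_mul]

end CMFlatLib
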