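import Mathlib

/-! A point isolated among comparable points of its fibre is quasi-finite. -/

set_option autoImplicit false
universe u

open TensorProduct

namespace CMFlatLib

theorem quasiFiniteAt_of_isolated {R C : Type u} [CommRing R] [CommRing C] [Algebra R C]
    [Algebra.FiniteType R C] (q : PrimeSpectrum C)
    (h : ∀ P : PrimeSpectrum C, PrimeSpectrum.comap (algebraMap R C) P = PrimeSpectrum.comap (algebraMap R C) q →
      (P.asIdeal ≤ q.asIdeal ∨ q.asIdeal ≤ P.asIdeal) → P = q) :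
    Algebra.QuasiFiniteAt R q.asIdeal := by
  classical
  let p := PrimeSpectrum.comap (algebraMap R C) q
  let F := p.asIdeal.Fiber C
  haveI : IsNoetherianRing F := Algebra.FiniteType.isNoetherianRing p.asIdeal.ResidueField F
  let E := PrimeSpectrum.preimageHomeomorphFiber R C p
  let Q₁ := E ⟨q, rfl⟩
  have hEsymm : ∀ Q : PrimeSpectrum F, (E.symm Q).1 =
      PrimeSpectrum.comap (Algebra.TensorProduct.includeRight : C →ₐ[R] F).toRingHom Q := fun _ ↦ rfl
  have hQ₁ : (E.symm Q₁).1 = q := by rw [E.symm_apply_apply]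
  have hsingle : ∀ Q : PrimeSpectrum F, Q ≤ Q₁ ∨ Q₁ ≤ Q → Q = Q₁ := fun Q hQ ↦ by
    have h2 : (E.symm Q).1 = q := by
      refine h _ (E.symm Q).2 (hQ.imp (fun hle ↦ ?_) fun hle ↦ ?_)
      · rw [← hQ₁, hEsymm, hEsymm]
        exact Ideal.comap_mono hle
      · rw [← hQ₁, hEsymm, hEsymm]
        exact Ideal.comap_mono hle
    exact E.symm.injective (Subtype.ext (h2.trans hQ₁.symm))
  have hopen : IsOpen ({Q₁} : Set (PrimeSpectrum F)) := by
    obtain ⟨a, ha, haQ⟩ : ∃ a, (∀ Q ∈ minimalPrimes F, Q ≠ Q₁.asIdeal → a ∈ Q) ∧ a ∉ Q₁.asIdeal := by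
      have hfin := minimalPrimes.finite_of_isNoetherianRing F
      let T := hfin.toFinset.erase Q₁.asIdeal
      have : ∀ Q ∈ T, ∃ x ∈ Q, x ∉ Q₁.asIdeal := fun Q hQ ↦ by
        obtain ⟨hne, hQ⟩ := Finset.mem_erase.mp hQ
        rw [Set.Finite.mem_toFinset] at hQ
        by_contra! hle
        exact hne (hQ.1.1 |> fun hQp ↦ congrArg PrimeSpectrum.asIdeal (hsingle ⟨Q, hQp⟩ (Or.inl hle)))
      choose! x hx hxQ using this
      refine ⟨∏ Q ∈ T, x Q, fun Q hQ hne ↦ ?_, Q₁.asIdeal.primeCompl.prod_mem fun Q hQ ↦ hxQ Q hQ⟩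
      exact Ideal.prod_mem Q (Finset.mem_erase.mpr ⟨hne, hfin.mem_toFinset.mpr hQ⟩)
        (hx Q (Finset.mem_erase.mpr ⟨hne, hfin.mem_toFinset.mpr hQ⟩))
    convert (PrimeSpectrum.basicOpen a).2 using 1
    ext Q
    refine ⟨fun h ↦ h ▸ haQ, fun hQ ↦ ?_⟩
    obtain ⟨Q', hQ', hle⟩ := Ideal.exists_minimalPrimes_le (bot_le : ⊥ ≤ Q.asIdeal)
    have hQ'e : Q' = Q₁.asIdeal := by
      by_contra hne
      exact hQ (hle (ha Q' hQ' hne))
    exact hsingle Q (Or.inr (show Q₁.asIdeal ≤ Q.asIdeal from hQ'e ▸ hle))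
  refine Algebra.QuasiFiniteAt.of_isOpen_singleton_fiber q ?_
  let g : (PrimeSpectrum.comap (algebraMap R C) ⁻¹' {p} : Set (PrimeSpectrum C)) → PrimeSpectrum F :=
    fun z ↦ E ⟨z.1, z.2⟩
  have hg : Continuous g := E.continuous.comp (continuous_subtype_val.subtype_mk _)
  convert hopen.preimage hg using 1
  ext z
  constructor
  · rintro rfl; rfl
  · intro hz
    exact Subtype.ext (congrArg Subtype.val (E.injective (hz : E ⟨z.1, z.2⟩ = E ⟨q, rfl⟩)) :)

end CMFlatLib
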