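import Groth.Agent.CMFlatLib.RegFlat
import Groth.Agent.CMFlatLib.QFIso
import Groth.Agent.CommAlgDim.Integral
import Groth.Agent.FibDimLib.Formula
import Mathlib

/-! Cohen-Macaulay algebras of finite type over a field and quasi-finite flat maps to affine space. -/

set_option autoImplicit false
universe u

open IsLocalRing RingTheory.Sequence CommAlgDim GorLib

namespace CMFlatLib

/-- Miracle flatness. -/
theorem flat_of_isCM_of_dim (A : Type u) [CommRing A] [IsRegularLocalRing A]
    (B : Type u) [CommRing B] [IsLocalRing B] [IsNoetherianRing B]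
    [Algebra A B] [IsLocalHom (algebraMap A B)] (hB : IsCM B)
    (hdim : ringKrullDim B = ringKrullDim A + ringKrullDim (Fib A B)) : Module.Flat A B := by
  letI := Ideal.Quotient.field (maximalIdeal A)
  obtain ⟨rs, hrs, hm⟩ := exists_isRegular_of_regular_quotient (J := maximalIdeal A)
  have hA : ringKrullDim A = (rs.length : ℕ) := by
    rw [← ringKrullDim_add_length_eq_ringKrullDim_of_isRegular rs hrs,
      ringKrullDim_eq_of_ringEquiv (Ideal.quotEquivOfEq hm), ringKrullDim_eq_zero_of_field, zero_add]
  have hmap : ∀ r ∈ rs.map (algebraMap A B), r ∈ maximalIdeal B := fun r hr ↦ by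
    obtain ⟨a, ha, rfl⟩ := List.mem_map.mp hr
    exact IsLocalRing.map_maximalIdeal_le (algebraMap A B)
      (Ideal.mem_map_of_mem _ (mem_maximalIdeal_of_isRegular hrs a ha))
  have hreg : IsRegular B (rs.map (algebraMap A B)) := by
    refine isRegular_of_dim hB hmap ?_
    have he : Ideal.ofList (rs.map (algebraMap A B)) = (maximalIdeal A).map (algebraMap A B) := by
      rw [← Ideal.map_ofList, hm]
    rw [ringKrullDim_eq_of_ringEquiv (Ideal.quotEquivOfEq he), List.length_map, hdim, hA, add_comm]
  exact flat_of_regular_seq _ A B rs rfl hrs.toIsWeaklyRegular hreg.toIsWeaklyRegular hm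

section Local

variable {A B : Type u} [CommRing A] [CommRing B] [Algebra A B] [IsNoetherianRing B]
  (q : Ideal B) [q.IsPrime] (p : Ideal A) [p.IsPrime] [q.LiesOver p]

theorem isLocalHom_localRingHom [Algebra (Localization.AtPrime p) (Localization.AtPrime q)]
    [Localization.AtPrime.IsLiesOverAlgebra p q] :
    IsLocalHom (algebraMap (Localization.AtPrime p) (Localization.AtPrime q)) := by
  rw [Localization.AtPrime.IsLiesOverAlgebra.algebraMap_eq (p := p) (P := q)]
  infer_instance

theorem ringKrullDim_fib_eq_zero [Algebra (Localization.AtPrime p) (Localization.AtPrime q)]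
    [IsScalarTower A (Localization.AtPrime p) (Localization.AtPrime q)]
    [IsLocalHom (algebraMap (Localization.AtPrime p) (Localization.AtPrime q))]
    (h : ∀ P : PrimeSpectrum B, P.asIdeal.comap (algebraMap A B) = p → P.asIdeal ≤ q → P.asIdeal = q) :
    ringKrullDim (Fib (Localization.AtPrime p) (Localization.AtPrime q)) = 0 := by
  let L := Localization.AtPrime q
  haveI : IsLocalRing (Fib (Localization.AtPrime p) L) := isLocalRing_quotient (map_maximalIdeal_ne_top _ _)
  refine le_antisymm ?_ ringKrullDim_nonneg_of_nontrivial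
  suffices ∀ P : PrimeSpectrum (Fib (Localization.AtPrime p) L), P = closedPoint _ by
    haveI : Subsingleton (PrimeSpectrum (Fib (Localization.AtPrime p) L)) :=
      ⟨fun a b ↦ (this a).trans (this b).symm⟩
    exact Order.krullDim_nonpos_of_subsingleton
  intro P
  let PL := P.asIdeal.comap (Ideal.Quotient.mk ((maximalIdeal (Localization.AtPrime p)).map (algebraMap _ L)))
  let PB := PL.comap (algebraMap B L)
  have h1 : PB ≤ q := by
    refine le_trans (Ideal.comap_mono (le_maximalIdeal (Ideal.IsPrime.ne_top inferInstance))) ?_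
    exact (IsLocalization.AtPrime.under_maximalIdeal L q).le
  have h2 : PB.comap (algebraMap A B) = p := by
    refine le_antisymm (fun a ha ↦ ?_) fun a ha ↦ ?_
    · rw [Ideal.LiesOver.over (p := p) (P := q)]
      exact h1 ha
    · show Ideal.Quotient.mk _ (algebraMap B L (algebraMap A B a)) ∈ P.asIdeal
      rw [← IsScalarTower.algebraMap_apply A B L, IsScalarTower.algebraMap_apply A (Localization.AtPrime p) L,
        Ideal.Quotient.eq_zero_iff_mem.mpr (Ideal.mem_map_of_mem _
          ((IsLocalization.AtPrime.to_map_mem_maximal_iff (Localization.AtPrime p) p a _).mpr ha))]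
      exact zero_mem _
  have h3 : PB = q := h ⟨PB, inferInstance⟩ h2 h1
  have h4 : PL = maximalIdeal L := by
    rw [← IsLocalization.map_comap q.primeCompl L PL, show PL.under B = q from h3,
      IsLocalization.AtPrime.map_eq_maximalIdeal]
  refine PrimeSpectrum.ext ?_
  rw [← Ideal.map_comap_of_surjective _ Ideal.Quotient.mk_surjective P.asIdeal, show Ideal.comap _ P.asIdeal = PL from rfl,
    h4, ← maximalIdeal_quotient]
  rfl

end Local

/-- A point where a map to a regular ring is flat and quasi-finite is Cohen–Macaulay. -/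
theorem isCM_of_flat_minimal {A B : Type u} [CommRing A] [IsRegularRing A] [CommRing B] [Algebra A B]
    [IsNoetherianRing B] (q : Ideal B) [q.IsPrime]
    (h : ∀ P : PrimeSpectrum B, P.asIdeal.comap (algebraMap A B) = q.comap (algebraMap A B) → P.asIdeal ≤ q → P.asIdeal = q)
    (hflat : Module.Flat A (Localization.AtPrime q)) : IsCM (Localization.AtPrime q) := by
  let p := q.comap (algebraMap A B)
  haveI : q.LiesOver p := ⟨rfl⟩
  letI := Localization.AtPrime.algebraOfLiesOver p q
  haveI := isLocalHom_localRingHom (A := A) q p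
  haveI : IsRegularLocalRing (Localization.AtPrime p) := IsRegularRing.isRegularLocalRing_localization p
  haveI : Module.Flat (Localization.AtPrime p) (Localization.AtPrime q) :=
    (Module.flat_iff_of_isLocalization (Localization.AtPrime p) p.primeCompl (Localization.AtPrime q)).mpr hflat
  haveI : IsLocalRing (Fib (Localization.AtPrime p) (Localization.AtPrime q)) :=
    isLocalRing_quotient (map_maximalIdeal_ne_top _ _)
  have hd := ringKrullDim_fib_eq_zero (A := A) q p h
  exact (isCM_flat_iff (Localization.AtPrime p) (Localization.AtPrime q)).mpr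
    ⟨isCM_of_isRegularLocalRing _, CatLib.isCM_of_hasSeqIn (hasSeqIn_zero _) hd.le⟩

/-- Version for quasi-finite points. -/
theorem isCM_of_flat_quasiFiniteAt {A B : Type u} [CommRing A] [IsRegularRing A] [CommRing B] [Algebra A B]
    [IsNoetherianRing B] (q : Ideal B) [q.IsPrime] [Algebra.QuasiFiniteAt A q]
    (hflat : Module.Flat A (Localization.AtPrime q)) : IsCM (Localization.AtPrime q) := by
  exact isCM_of_flat_minimal q (fun P hP hle ↦ Algebra.QuasiFiniteAt.eq_of_le_of_under_eq (R := A) hle hP) hflat

/-- A point where a Cohen–Macaulay ring has the expected dimension over a regular ring is flat. -/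
theorem flat_of_isCM_minimal {A B : Type u} [CommRing A] [IsRegularRing A] [CommRing B] [Algebra A B]
    [IsNoetherianRing B] (q : Ideal B) [q.IsPrime]
    (h : ∀ P : PrimeSpectrum B, P.asIdeal.comap (algebraMap A B) = q.comap (algebraMap A B) → P.asIdeal ≤ q → P.asIdeal = q)
    (hcm : IsCM (Localization.AtPrime q))
    (hdim : ringKrullDim (Localization.AtPrime q) = ((q.comap (algebraMap A B)).height : WithBot ℕ∞)) :
    Module.Flat A (Localization.AtPrime q) := by
  let p := q.comap (algebraMap A B)
  haveI : q.LiesOver p := ⟨rfl⟩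
  letI := Localization.AtPrime.algebraOfLiesOver p q
  haveI := isLocalHom_localRingHom (A := A) q p
  haveI : IsRegularLocalRing (Localization.AtPrime p) := IsRegularRing.isRegularLocalRing_localization p
  haveI : IsLocalRing (Fib (Localization.AtPrime p) (Localization.AtPrime q)) :=
    isLocalRing_quotient (map_maximalIdeal_ne_top _ _)
  have hd := ringKrullDim_fib_eq_zero (A := A) q p h
  have hflat := flat_of_isCM_of_dim (Localization.AtPrime p) (Localization.AtPrime q) hcm (by
    rw [hd, add_zero, IsLocalization.AtPrime.ringKrullDim_eq_height p (Localization.AtPrime p), hdim])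
  exact (Module.flat_iff_of_isLocalization (Localization.AtPrime p) p.primeCompl (Localization.AtPrime q)).mp hflat

/-- Version for quasi-finite points. -/
theorem flat_of_isCM_quasiFiniteAt {A B : Type u} [CommRing A] [IsRegularRing A] [CommRing B] [Algebra A B]
    [IsNoetherianRing B] (q : Ideal B) [q.IsPrime] [Algebra.QuasiFiniteAt A q]
    (hcm : IsCM (Localization.AtPrime q))
    (hdim : ringKrullDim (Localization.AtPrime q) = ((q.comap (algebraMap A B)).height : WithBot ℕ∞)) :
    Module.Flat A (Localization.AtPrime q) := by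
  exact flat_of_isCM_minimal q (fun P hP hle ↦ Algebra.QuasiFiniteAt.eq_of_le_of_under_eq (R := A) hle hP) hcm hdim

open MvPolynomial in
/-- Every Cohen–Macaulay point of an algebra of finite type over a field has a flat quasi-finite
map to an affine space of the local dimension. -/
theorem exists_flat_quasiFiniteAt_of_isCM (k : Type u) [Field k] {B : Type u} [CommRing B] [Algebra k B]
    [Algebra.FiniteType k B] (q : Ideal B) [q.IsPrime] (hcm : IsCM (Localization.AtPrime q))
    (S : Set B) (hS : ∀ b : B, ∃ c : k, c ≠ 0 ∧ c • b ∈ S) :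
    ∃ (d : ℕ) (φ : MvPolynomial (Fin d) k →ₐ[k] B), (∀ i, φ (X i) ∈ S) ∧
      (∀ P : PrimeSpectrum B, P.asIdeal.comap φ.toRingHom = q.comap φ.toRingHom →
        (P.asIdeal ≤ q ∨ q ≤ P.asIdeal) → P.asIdeal = q) ∧
      FlatMor.localDim (PrimeSpectrum B) ⟨q, inferInstance⟩ = (d : WithBot ℕ∞) ∧
      (letI := φ.toRingHom.toAlgebra
       Algebra.QuasiFiniteAt (MvPolynomial (Fin d) k) q ∧
        Module.Flat (MvPolynomial (Fin d) k) (Localization.AtPrime q)) := by
  classical
  haveI : IsNoetherianRing B := Algebra.FiniteType.isNoetherianRing k B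
  -- the residue field
  choose sc hsc0 hscS using hS
  obtain ⟨s, g₀, hg₀, hgf₀⟩ := exists_finite_inj_algHom_of_fg k (B ⧸ q)
  choose yb₀ hyb₀ using fun i ↦ Ideal.Quotient.mk_surjective (g₀ (X i))
  let σ : MvPolynomial (Fin s) k →ₐ[k] MvPolynomial (Fin s) k := aeval fun i ↦ sc (yb₀ i) • X i
  let σ' : MvPolynomial (Fin s) k →ₐ[k] MvPolynomial (Fin s) k := aeval fun i ↦ (sc (yb₀ i))⁻¹ • X i
  have hσσ' : σ'.comp σ = AlgHom.id k _ := MvPolynomial.algHom_ext fun i ↦ by
    simp [σ, σ', smul_smul, hsc0]
  have hσ'σ : σ.comp σ' = AlgHom.id k _ := MvPolynomial.algHom_ext fun i ↦ by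
    simp [σ, σ', smul_smul, hsc0]
  let g := g₀.comp σ
  have hg : Function.Injective g := hg₀.comp (Function.LeftInverse.injective
    (g := σ') fun z ↦ DFunLike.congr_fun hσσ' z)
  have hgf : g.Finite := hgf₀.comp (AlgHom.Finite.of_surjective σ
    fun z ↦ ⟨σ' z, DFunLike.congr_fun hσ'σ z⟩)
  have hsdim : ringKrullDim (B ⧸ q) = (s : WithBot ℕ∞) := by
    letI := g.toRingHom.toAlgebra
    haveI : Module.Finite (MvPolynomial (Fin s) k) (B ⧸ q) := hgf
    rw [CommAlgDim.ringKrullDim_eq_of_integral (MvPolynomial (Fin s) k) (B ⧸ q) hg,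
      MvPolynomial.ringKrullDim_of_isNoetherianRing, ringKrullDim_eq_zero_of_field, zero_add]
    simp
  let yb : Fin s → B := fun i ↦ sc (yb₀ i) • yb₀ i
  have hyb : ∀ i, Ideal.Quotient.mk q (yb i) = g (X i) := fun i ↦ by
    rw [show g (X i) = g₀ (σ (X i)) from rfl, show σ (X i) = sc (yb₀ i) • X i from aeval_X _ i, map_smul g₀, ← hyb₀]
    exact map_smul (Ideal.Quotient.mkₐ k q) _ _
  -- a system of parameters of the local ring
  obtain ⟨rs, hrs, hdim⟩ := hcm
  have hxb' : ∀ r : Localization.AtPrime q, ∃ (b : B) (t : q.primeCompl),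
      IsLocalization.mk' (Localization.AtPrime q) b t = r ∧ b ∈ S := fun r ↦ by
    obtain ⟨b, t, hbt⟩ := IsLocalization.exists_mk'_eq q.primeCompl r
    have hu : algebraMap k B (sc b) ∈ q.primeCompl := fun hmem ↦
      (Ideal.IsPrime.ne_top ‹_›) (Ideal.eq_top_of_isUnit_mem _ hmem ((Ne.isUnit (hsc0 b)).map _))
    refine ⟨sc b • b, ⟨_, hu⟩ * t, ?_, hscS b⟩
    rw [← hbt, Algebra.smul_def]
    exact (IsLocalization.mk'_cancel (S := Localization.AtPrime q) b t ⟨_, hu⟩) ▸
      by rw [mul_comm (algebraMap k B (sc b)), mul_comm (⟨_, hu⟩ : q.primeCompl)]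
  choose xb xs hxb hxS using hxb'
  let x : Fin rs.length → B := fun i ↦ xb rs[i]
  have hxq : ∀ i, x i ∈ q := fun i ↦ by
    have h1 := mem_maximalIdeal_of_isRegular hrs rs[i] (List.getElem_mem i.2)
    have h1' : IsLocalization.mk' (Localization.AtPrime q) (xb rs[i]) (xs rs[i]) ∈ maximalIdeal _ := by
      rw [hxb]; exact h1
    exact (IsLocalization.AtPrime.mk'_mem_maximal_iff (Localization.AtPrime q) q _ _).mp h1'
  let φ : MvPolynomial (Fin (rs.length + s)) k →ₐ[k] B := aeval (Fin.append x yb)
  have hφx : ∀ i, φ (X (Fin.castAdd s i)) = x i := fun i ↦ by simp [φ]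
  let π : MvPolynomial (Fin (rs.length + s)) k →ₐ[k] MvPolynomial (Fin s) k :=
    aeval (Fin.append (fun _ ↦ 0) X)
  have hcomp : (Ideal.Quotient.mkₐ k q).comp φ = g.comp π := by
    refine MvPolynomial.algHom_ext fun i ↦ ?_
    induction i using Fin.addCases with
    | left i => simp [φ, π, Ideal.Quotient.eq_zero_iff_mem.mpr (hxq i)]
    | right i => simp [φ, π, hyb]
  have hπ : Function.Surjective π := fun z ↦ ⟨rename (Fin.natAdd rs.length) z, by
    have : π.comp (rename (Fin.natAdd rs.length)) = AlgHom.id k _ := MvPolynomial.algHom_ext fun i ↦ by simp [π]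
    exact DFunLike.congr_fun this z⟩
  letI := φ.toRingHom.toAlgebra
  let P := MvPolynomial (Fin (rs.length + s)) k
  let p : Ideal P := q.comap φ.toRingHom
  have hp : p = RingHom.ker π.toRingHom := by
    ext z
    have h1 : Ideal.Quotient.mk q (φ z) = g (π z) := DFunLike.congr_fun hcomp z
    show φ z ∈ q ↔ π z = 0
    rw [← Ideal.Quotient.eq_zero_iff_mem, h1, map_eq_zero_iff _ hg]
  haveI : p.IsPrime := Ideal.IsPrime.comap _
  haveI : Algebra.FiniteType k P := inferInstance
  have hht : (p.height : WithBot ℕ∞) = ringKrullDim (Localization.AtPrime q) := by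
    have h1 := FibDimLib.ringKrullDim_quotient_add_height_affine k P p
    rw [ringKrullDim_eq_of_ringEquiv ((Ideal.quotEquivOfEq hp).trans (RingHom.quotientKerEquivOfSurjective hπ)),
      MvPolynomial.ringKrullDim_of_isNoetherianRing, MvPolynomial.ringKrullDim_of_isNoetherianRing,
      ringKrullDim_eq_zero_of_field, zero_add, zero_add] at h1
    rw [hdim]
    obtain ⟨h, hh⟩ := ENat.ne_top_iff_exists.1 (Ideal.height_ne_top (Ideal.IsPrime.ne_top ‹p.IsPrime›))
    rw [← hh] at h1 ⊢
    simp only [Nat.card_fin] at h1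
    norm_cast at h1 ⊢
    omega
  -- primes over `p`
  have hunder : ∀ Q : PrimeSpectrum B, Q.asIdeal.comap (algebraMap P B) = p →
      Q.asIdeal ≤ q ∨ q ≤ Q.asIdeal → Q.asIdeal = q := by
    intro Q hQ hle
    rcases hle with hle | hle
    · -- minimality: `(x)` is primary to the maximal ideal
      let L := Localization.AtPrime q
      have hz : ringKrullDim (L ⧸ Ideal.ofList rs) = 0 := by
        have h2 := ringKrullDim_add_length_eq_ringKrullDim_of_isRegular rs hrs
        rw [hdim] at h2
        haveI : Nontrivial (L ⧸ Ideal.ofList rs) := Ideal.Quotient.nontrivial_iff.mpr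
          ((ofList_le_iff.2 (mem_maximalIdeal_of_isRegular hrs)).trans_lt (maximalIdeal.isMaximal L).lt_top).ne
        obtain ⟨c, hc⟩ := exists_ringKrullDim_eq (R := L ⧸ Ideal.ofList rs)
        rw [hc] at h2 ⊢
        norm_cast at h2 ⊢
        omega
      haveI : Ring.KrullDimLE 0 (L ⧸ Ideal.ofList rs) := by
        rw [Ring.krullDimLE_iff, hz]; exact le_rfl
      have hdisj : Disjoint (q.primeCompl : Set B) Q.asIdeal :=
        Set.disjoint_left.mpr fun a ha haQ ↦ ha (hle haQ)
      let QL := Q.asIdeal.map (algebraMap B L)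
      haveI : QL.IsPrime := IsLocalization.isPrime_of_isPrime_disjoint q.primeCompl L _ Q.isPrime hdisj
      have hrsQ : Ideal.ofList rs ≤ QL := ofList_le_iff.2 fun r hr ↦ by
        obtain ⟨i, hi, rfl⟩ := List.mem_iff_getElem.mp hr
        rw [← hxb rs[i], IsLocalization.mk'_eq_mul_mk'_one]
        refine Ideal.mul_mem_right _ _ (Ideal.mem_map_of_mem _ ?_)
        have h1 : (X (Fin.castAdd s ⟨i, hi⟩) : P) ∈ p := by
          rw [hp, RingHom.mem_ker]; simp [π, Fin.append, Fin.addCases, hi]
        rw [← hQ, Ideal.mem_comap] at h1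
        rw [← show x ⟨i, hi⟩ = xb rs[i] from rfl, ← hφx]
        exact h1
      haveI : (QL.map (Ideal.Quotient.mk (Ideal.ofList rs))).IsPrime :=
        Ideal.map_isPrime_of_surjective Ideal.Quotient.mk_surjective (by rwa [Ideal.mk_ker])
      haveI : (QL.map (Ideal.Quotient.mk (Ideal.ofList rs))).IsMaximal := Ideal.IsPrime.isMaximal' inferInstance
      have hQLm : QL.IsMaximal := by
        have : QL = (QL.map (Ideal.Quotient.mk (Ideal.ofList rs))).comap (Ideal.Quotient.mk _) := by
          rw [Ideal.comap_map_of_surjective _ Ideal.Quotient.mk_surjective,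
            show Ideal.comap (Ideal.Quotient.mk (Ideal.ofList rs)) ⊥ = Ideal.ofList rs from Ideal.mk_ker,
            sup_eq_left.mpr hrsQ]
        rw [this]
        exact Ideal.comap_isMaximal_of_surjective _ Ideal.Quotient.mk_surjective
      rw [← IsLocalization.under_map_of_isPrime_disjoint q.primeCompl L Q.isPrime hdisj]
      show Ideal.comap (algebraMap B L) QL = _
      rw [IsLocalRing.eq_maximalIdeal hQLm]
      exact IsLocalization.AtPrime.under_maximalIdeal L q
    · -- incomparability in the finite extension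
      letI := g.toRingHom.toAlgebra
      haveI : Module.Finite (MvPolynomial (Fin s) k) (B ⧸ q) := hgf
      haveI : (Q.asIdeal.map (Ideal.Quotient.mk q)).IsPrime :=
        Ideal.map_isPrime_of_surjective Ideal.Quotient.mk_surjective (by rwa [Ideal.mk_ker])
      have h0 : Q.asIdeal.map (Ideal.Quotient.mk q) = ⊥ := by
        refine Ideal.eq_bot_of_comap_eq_bot (R := MvPolynomial (Fin s) k) (eq_bot_iff.mpr fun z hz ↦ ?_)
        obtain ⟨w, rfl⟩ := hπ z
        have h1 : Ideal.Quotient.mk q (φ w) = g (π w) := DFunLike.congr_fun hcomp w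
        have h2 : φ w ∈ Q.asIdeal := by
          have h3 : g (π w) ∈ Q.asIdeal.map (Ideal.Quotient.mk q) := hz
          rw [← h1, Ideal.mem_quotient_iff_mem hle] at h3
          exact h3
        have h4 : w ∈ p := by rw [← hQ]; exact h2
        rw [hp] at h4
        exact (Submodule.mem_bot _).mpr h4
      have h3 := (Ideal.map_eq_bot_iff_le_ker _).mp h0
      rw [Ideal.mk_ker] at h3
      exact le_antisymm h3 hle
  refine ⟨rs.length + s, φ, fun i ↦ ?_, fun P hP hle ↦ hunder P hP hle, ?_, ?_, ?_⟩
  · induction i using Fin.addCases with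
    | left i => rw [hφx]; exact hxS _
    | right i =>
      rw [show φ (X (Fin.natAdd rs.length i)) = yb i from by simp [φ]]
      exact hscS _
  · rw [FibDimLib.localDim_eq_dim_add k, hdim]
    show ringKrullDim (B ⧸ q) + _ = _
    rw [hsdim]
    norm_cast
    omega
  · haveI : Algebra.FiniteType P B := Algebra.FiniteType.of_restrictScalars_finiteType k P B
    exact quasiFiniteAt_of_isolated (R := P) ⟨q, inferInstance⟩ fun Q hQ hle ↦
      PrimeSpectrum.ext (hunder Q (congrArg PrimeSpectrum.asIdeal hQ) hle)
  · haveI : Algebra.FiniteType P B := Algebra.FiniteType.of_restrictScalars_finiteType k P B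
    haveI : Algebra.QuasiFiniteAt P q :=
      quasiFiniteAt_of_isolated (R := P) ⟨q, inferInstance⟩ fun Q hQ hle ↦
        PrimeSpectrum.ext (hunder Q (congrArg PrimeSpectrum.asIdeal hQ) hle)
    exact flat_of_isCM_quasiFiniteAt q ⟨rs, hrs, hdim⟩ hht.symm

end CMFlatLib
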