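import Groth.Agent.CMFlatLib.Open
import Groth.Agent.FlatLib.QFCover
import Groth.Agent.FibDimLib.QFAffine
import Mathlib

/-! Cohen–Macaulay points and local quasi-finite flat maps to relative affine space. -/

set_option autoImplicit false
universe u

open IsLocalRing CommAlgDim GorLib AlgebraicGeometry CategoryTheory TensorProduct

namespace CMFlatLib

theorem exists_away_qf_flat {A B : Type u} [CommRing A] [CommRing B] [Algebra A B] [Algebra.FinitePresentation A B]
    (q : PrimeSpectrum B) (hqf : Algebra.QuasiFiniteAt A q.asIdeal) (hfl : q ∈ FlatLib.flatLocus A B B) :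
    ∃ g ∉ q.asIdeal, Algebra.QuasiFinite A (Localization.Away g) ∧ Module.Flat A (Localization.Away g) := by
  obtain ⟨_, ⟨g, rfl⟩, hqg, hgU⟩ := PrimeSpectrum.isTopologicalBasis_basic_opens.exists_subset_of_mem_open
    (show q ∈ {q : PrimeSpectrum B | Algebra.QuasiFiniteAt A q.asIdeal} ∩ FlatLib.flatLocus A B B from ⟨hqf, hfl⟩)
    ((RichLib.QFLocus.isOpen_setOf_quasiFiniteAt A B).inter FlatLib.isOpen_flatLocus_fp)
  refine ⟨g, hqg, ?_, FlatLib.flat_away_of_basicOpen g fun z hz ↦ (hgU hz).2⟩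
  haveI : Algebra.FiniteType B (Localization.Away g) := inferInstance
  haveI : Algebra.FiniteType A (Localization.Away g) :=
    Algebra.FiniteType.trans (S := B) (inferInstance : Algebra.FiniteType A B) inferInstance
  refine FibDimLib.quasiFinite_of_forall fun Q ↦ ?_
  have hgQ : g ∉ (PrimeSpectrum.comap (algebraMap B (Localization.Away g)) Q).asIdeal := fun h ↦
    Q.isPrime.ne_top (Ideal.eq_top_of_isUnit_mem _ h (IsLocalization.Away.algebraMap_isUnit g))
  haveI : Algebra.QuasiFiniteAt A (Q.asIdeal.comap (algebraMap B (Localization.Away g))) := (hgU hgQ).1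
  exact Algebra.QuasiFiniteAt.of_surjectiveOnStalks (Q.asIdeal.comap (algebraMap B (Localization.Away g)))
    (f := IsScalarTower.toAlgHom A B (Localization.Away g))
    (RingHom.surjectiveOnStalks_of_isLocalization (M := Submonoid.powers g) (Localization.Away g)) Q.asIdeal rfl

theorem exists_toAffineSpace {X Y : Scheme.{u}} (f : X ⟶ Y) [LocallyOfFinitePresentation f] {U : Y.Opens}
    {V : X.Opens} (hU : IsAffineOpen U) (hV : IsAffineOpen V) (hVU : V ≤ f ⁻¹ᵁ U) (x : X) (hx : x ∈ V)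
    {d : ℕ} [Algebra Γ(Y, U) Γ(X, V)] (hAB : algebraMap Γ(Y, U) Γ(X, V) = (f.appLE U V hVU).hom)
    (φ : MvPolynomial (ULift.{u} (Fin d)) Γ(Y, U) →ₐ[Γ(Y, U)] Γ(X, V))
    (h : letI := φ.toRingHom.toAlgebra
      Algebra.QuasiFiniteAt (MvPolynomial (ULift.{u} (Fin d)) Γ(Y, U)) (hV.primeIdealOf ⟨x, hx⟩).asIdeal ∧
        hV.primeIdealOf ⟨x, hx⟩ ∈ FlatLib.flatLocus (MvPolynomial (ULift.{u} (Fin d)) Γ(Y, U)) Γ(X, V) Γ(X, V)) :
    ∃ (W : X.Opens) (_ : x ∈ W) (g : (W : Scheme.{u}) ⟶ 𝔸(ULift.{u} (Fin d); Y)),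
      g ≫ (𝔸(ULift.{u} (Fin d); Y) ↘ Y) = W.ι ≫ f ∧ LocallyQuasiFinite g ∧ Flat g := by
  let σ := ULift.{u} (Fin d)
  let P := MvPolynomial σ Γ(Y, U)
  letI := φ.toRingHom.toAlgebra
  haveI : IsScalarTower Γ(Y, U) P Γ(X, V) := IsScalarTower.of_algebraMap_eq fun r ↦ (φ.commutes r).symm
  haveI : Algebra.FinitePresentation Γ(Y, U) Γ(X, V) := by
    rw [← RingHom.finitePresentation_algebraMap, hAB]
    exact f.finitePresentation_appLE hU hV hVU
  haveI : Algebra.FinitePresentation P Γ(X, V) :=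
    Algebra.FinitePresentation.of_restrict_scalars_finitePresentation Γ(Y, U) _ _
  obtain ⟨a, haq, hqf, hfl⟩ := exists_away_qf_flat (A := P) _ h.1 h.2
  let W := X.basicOpen a
  have hW : IsAffineOpen W := hV.basicOpen a
  have hxW : x ∈ W := by
    have h1 : hV.primeIdealOf ⟨x, hx⟩ ∈ hV.fromSpec ⁻¹ᵁ X.basicOpen a := by
      rw [hV.fromSpec_preimage_basicOpen]; exact haq
    rw [← (show hV.fromSpec (hV.primeIdealOf ⟨x, hx⟩) = x from hV.fromSpec_primeIdealOf ⟨x, hx⟩)]
    exact h1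
  have hWV : W ≤ V := X.basicOpen_le a
  let res : Γ(X, V) ⟶ Γ(X, W) := X.presheaf.map (homOfLE hWV).op
  letI : Algebra Γ(X, V) Γ(X, W) := res.hom.toAlgebra
  haveI : IsLocalization.Away a Γ(X, W) := hV.isLocalization_basicOpen a
  let e : Localization.Away a ≃ₐ[Γ(X, V)] Γ(X, W) := IsLocalization.algEquiv (Submonoid.powers a) _ _
  let ψ : CommRingCat.of P ⟶ Γ(X, W) := CommRingCat.ofHom φ.toRingHom ≫ res
  have hψ : ψ.hom = e.toRingEquiv.toRingHom.comp (algebraMap P (Localization.Away a)) := RingHom.ext fun z ↦ by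
    show res (φ z) = e (algebraMap P (Localization.Away a) z)
    rw [IsScalarTower.algebraMap_apply P Γ(X, V) (Localization.Away a), e.commutes]
    rfl
  haveI : Flat (Spec.map ψ) := by
    rw [HasRingHomProperty.Spec_iff (P := @Flat), hψ]
    exact RingHom.Flat.comp (RingHom.flat_algebraMap_iff.mpr hfl) (RingHom.Flat.of_bijective e.bijective)
  haveI : LocallyQuasiFinite (Spec.map ψ) := by
    rw [HasRingHomProperty.Spec_iff (P := @LocallyQuasiFinite), hψ]
    exact (RingHom.QuasiFinite.of_finite (RingHom.Finite.of_surjective _ e.surjective)).comp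
      (RingHom.quasiFinite_algebraMap.mpr hqf)
  haveI : IsOpenImmersion (AffineSpace.map σ hU.fromSpec) :=
    MorphismProperty.of_isPullback (P := @IsOpenImmersion) (AffineSpace.isPullback_map hU.fromSpec).flip inferInstance
  let g₀ : Spec Γ(X, W) ⟶ 𝔸(σ; Y) :=
    Spec.map ψ ≫ (AffineSpace.SpecIso σ Γ(Y, U)).inv ≫ AffineSpace.map σ hU.fromSpec
  have hg₀ : g₀ ≫ (𝔸(σ; Y) ↘ Y) = hW.fromSpec ≫ f := by
    have hc : CommRingCat.ofHom (MvPolynomial.C (σ := σ)) ≫ ψ = f.appLE U W (hWV.trans hVU) := by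
      refine CommRingCat.hom_ext (RingHom.ext fun r ↦ ?_)
      show res (φ (MvPolynomial.C r)) = _
      rw [show φ (MvPolynomial.C r) = algebraMap Γ(Y, U) Γ(X, V) r from φ.commutes r, hAB,
        show res ((f.appLE U V hVU).hom r) = (f.appLE U V hVU ≫ res) r from rfl, Scheme.Hom.appLE_map]
    simp only [g₀, Category.assoc, AffineSpace.map_over]
    rw [AffineSpace.SpecIso_inv_over_assoc, ← Category.assoc, ← Spec.map_comp, hc,
      IsAffineOpen.SpecMap_appLE_fromSpec f hU hW (hWV.trans hVU)]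
  refine ⟨W, hxW, hW.isoSpec.hom ≫ g₀, ?_, inferInstance, inferInstance⟩
  rw [Category.assoc, hg₀, ← Category.assoc]
  congr 1
  rw [← Iso.eq_inv_comp]
  rfl

end CMFlatLib
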