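import Groth.Agent.CMFlatLib.Chart
import Groth.Agent.FibDimLib.SchemeInv
import Mathlib

/-! Cohen–Macaulay points from local quasi-finite flat maps to relative affine space; dimensions. -/

set_option autoImplicit false
universe u

open IsLocalRing CommAlgDim GorLib AlgebraicGeometry CategoryTheory TensorProduct

namespace CMFlatLib

set_option backward.isDefEq.respectTransparency false in
theorem flat_stalkMap_comp_left {A B C : Scheme.{u}} (j : A ⟶ B) [IsOpenImmersion j] (g : B ⟶ C) (a : A) :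
    ((j ≫ g).stalkMap a).hom.Flat ↔ (g.stalkMap (j a)).hom.Flat := by
  simp only [Scheme.Hom.stalkMap_comp, CommRingCat.hom_comp, RingHom.Flat.respectsIso.cancel_right_isIso]

set_option backward.isDefEq.respectTransparency false in
theorem flat_stalkMap_comp_right {A B C : Scheme.{u}} (g : A ⟶ B) (j : B ⟶ C) [IsOpenImmersion j] (a : A) :
    ((g ≫ j).stalkMap a).hom.Flat ↔ (g.stalkMap a).hom.Flat := by
  simp only [Scheme.Hom.stalkMap_comp, CommRingCat.hom_comp, RingHom.Flat.respectsIso.cancel_left_isIso]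

theorem isCMAt_of_toAffineSpace {X Y : Scheme.{u}} (f : X ⟶ Y) [LocallyOfFinitePresentation f] {σ : Type u} [Finite σ]
    (W : X.Opens) (g : (W : Scheme.{u}) ⟶ 𝔸(σ; Y)) (hg : g ≫ (𝔸(σ; Y) ↘ Y) = W.ι ≫ f) [LocallyQuasiFinite g]
    (x : X) (hxW : x ∈ W) (hfl : (g.stalkMap ⟨x, hxW⟩).hom.Flat) : MoreMor.IsCMAt f x := by
  obtain ⟨_, ⟨U, hU, rfl⟩, hxU, -⟩ :=
    Y.isBasis_affineOpens.exists_subset_of_mem_open (Set.mem_univ (f x)) isOpen_univ
  obtain ⟨_, ⟨V, hV, rfl⟩, hxV, hVsub⟩ := X.isBasis_affineOpens.exists_subset_of_mem_open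
    (show x ∈ ((f ⁻¹ᵁ U) ⊓ W : X.Opens) from ⟨hxU, hxW⟩) ((f ⁻¹ᵁ U) ⊓ W).2
  have hVU : V ≤ f ⁻¹ᵁ U := fun z hz ↦ (hVsub hz).1
  have hVW : V ≤ W := fun z hz ↦ (hVsub hz).2
  have hV : IsAffineOpen V := hV
  have hU : IsAffineOpen U := hU
  have hfp := f.finitePresentation_appLE hU hV hVU
  algebraize [(f.appLE U V hVU).hom]
  let g₁ : Spec Γ(X, V) ⟶ 𝔸(σ; Y) := hV.isoSpec.inv ≫ X.homOfLE hVW ≫ g
  let φ : MvPolynomial σ Γ(Y, U) →ₐ[Γ(Y, U)] Γ(X, V) :=
    MvPolynomial.aeval fun i ↦ (Scheme.ΓSpecIso Γ(X, V)).hom (g₁.appTop (AffineSpace.coord Y i))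
  let ψ : CommRingCat.of (MvPolynomial σ Γ(Y, U)) ⟶ Γ(X, V) := CommRingCat.ofHom φ.toRingHom
  let ι : Spec (CommRingCat.of (MvPolynomial σ Γ(Y, U))) ⟶ 𝔸(σ; Y) :=
    (AffineSpace.SpecIso σ Γ(Y, U)).inv ≫ AffineSpace.map σ hU.fromSpec
  haveI : IsOpenImmersion (AffineSpace.map σ hU.fromSpec) :=
    MorphismProperty.of_isPullback (P := @IsOpenImmersion) (AffineSpace.isPullback_map hU.fromSpec).flip inferInstance
  have heq : Spec.map ψ ≫ ι = g₁ := by
    apply AffineSpace.hom_ext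
    · have hc : CommRingCat.ofHom (MvPolynomial.C (σ := σ)) ≫ ψ = f.appLE U V hVU :=
        CommRingCat.hom_ext (RingHom.ext fun r ↦ φ.commutes r)
      simp only [ι, g₁, Category.assoc, AffineSpace.map_over]
      rw [AffineSpace.SpecIso_inv_over_assoc, ← Category.assoc, ← Spec.map_comp, hc,
        IsAffineOpen.SpecMap_appLE_fromSpec f hU hV hVU, hg, Scheme.homOfLE_ι_assoc]
      try exact Category.assoc _ _ _
    · intro i
      simp only [ι, Scheme.Hom.comp_appTop, CommRingCat.comp_apply, AffineSpace.map_appTop_coord,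
        AffineSpace.SpecIso_inv_appTop_coord]
      rw [← CommRingCat.comp_apply, ← Scheme.ΓSpecIso_inv_naturality, CommRingCat.comp_apply,
        show ψ (MvPolynomial.X i) = (Scheme.ΓSpecIso Γ(X, V)).hom (g₁.appTop (AffineSpace.coord Y i)) from
          MvPolynomial.aeval_X _ i, Iso.hom_inv_id_apply]
      try rfl
  haveI : LocallyQuasiFinite g₁ := inferInstance
  haveI : LocallyQuasiFinite (Spec.map ψ ≫ ι) := heq ▸ ‹LocallyQuasiFinite g₁›
  haveI hqf : LocallyQuasiFinite (Spec.map ψ) := LocallyQuasiFinite.of_comp _ ι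
  let q := hV.primeIdealOf ⟨x, hxV⟩
  have hflat : ((Spec.map ψ).stalkMap q).hom.Flat := by
    have h0 : (hV.isoSpec.inv ≫ X.homOfLE hVW) q = ⟨x, hxW⟩ := by
      apply W.ι.isOpenEmbedding.injective
      rw [← Scheme.Hom.comp_apply, Category.assoc, Scheme.homOfLE_ι]
      exact hV.fromSpec_primeIdealOf ⟨x, hxV⟩
    have hcongr : ∀ {h h' : Spec Γ(X, V) ⟶ 𝔸(σ; Y)}, h = h' →
        ((h.stalkMap q).hom.Flat ↔ (h'.stalkMap q).hom.Flat) := by rintro h h' rfl; rfl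
    rw [← flat_stalkMap_comp_right (Spec.map ψ) ι q,
      hcongr (heq.trans (show g₁ = (hV.isoSpec.inv ≫ X.homOfLE hVW) ≫ g from (Category.assoc _ _ _).symm)),
      flat_stalkMap_comp_left, h0]
    exact hfl
  refine (isCMAt_iff_mem_cmSet f hU hV hVU rfl x hxV).mpr (mem_cmSet_of_qf_flat φ q ?_)
  letI := φ.toRingHom.toAlgebra
  haveI : Algebra.QuasiFinite (MvPolynomial σ Γ(Y, U)) Γ(X, V) := by
    rw [HasRingHomProperty.Spec_iff (P := @LocallyQuasiFinite)] at hqf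
    exact RingHom.quasiFinite_algebraMap.mp hqf
  refine ⟨inferInstance, ?_⟩
  rw [FlatLib.mem_flatLocus_self_iff]
  let P := MvPolynomial σ Γ(Y, U)
  let p := q.asIdeal.comap (algebraMap P Γ(X, V))
  haveI : q.asIdeal.LiesOver p := ⟨rfl⟩
  letI := Localization.AtPrime.algebraOfLiesOver p q.asIdeal
  have h2 : (Localization.localRingHom p q.asIdeal ψ.hom rfl).Flat :=
    (RingHom.Flat.respectsIso.arrow_mk_iso_iff (Scheme.arrowStalkMapSpecIso ψ q)).mp hflat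
  haveI : Module.Flat (Localization.AtPrime p) (Localization.AtPrime q.asIdeal) := h2
  exact (Module.flat_iff_of_isLocalization (Localization.AtPrime p) p.primeCompl (Localization.AtPrime q.asIdeal)).mp
    inferInstance

/-- A CM point admits a quasi-finite flat map to affine space of dimension the fibre dimension. -/
theorem exists_toAffineSpace_of_isCMAt {X Y : Scheme.{u}} (f : X ⟶ Y) [LocallyOfFinitePresentation f] (x : X)
    (hx : MoreMor.IsCMAt f x) :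
    ∃ (d : ℕ) (W : X.Opens) (_ : x ∈ W) (g : (W : Scheme.{u}) ⟶ 𝔸(ULift.{u} (Fin d); Y)),
      FlatMor.fibreDimAt f x = d ∧
      g ≫ (𝔸(ULift.{u} (Fin d); Y) ↘ Y) = W.ι ≫ f ∧ LocallyQuasiFinite g ∧ Flat g := by
  obtain ⟨_, ⟨U, hU, rfl⟩, hxU, -⟩ :=
    Y.isBasis_affineOpens.exists_subset_of_mem_open (Set.mem_univ (f x)) isOpen_univ
  obtain ⟨_, ⟨V, hV, rfl⟩, hxV, hVsub⟩ := X.isBasis_affineOpens.exists_subset_of_mem_open
    (show x ∈ (f ⁻¹ᵁ U : X.Opens) from hxU) (f ⁻¹ᵁ U).2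
  have hVU : V ≤ f ⁻¹ᵁ U := fun z hz ↦ hVsub hz
  have hfp := f.finitePresentation_appLE hU hV hVU
  algebraize [(f.appLE U V hVU).hom]
  let q := IsAffineOpen.primeIdealOf hV ⟨x, hxV⟩
  obtain ⟨Q₀, hQ₀, hdim⟩ := FibDimLib.fibreDimAt_eq_affine f x hU hV hVU hxV
  let p := (IsAffineOpen.primeIdealOf hU ⟨f x, hVU hxV⟩).asIdeal
  have hp : q.asIdeal.comap (algebraMap Γ(Y, U) Γ(X, V)) = p :=
    congrArg PrimeSpectrum.asIdeal (IsAffineOpen.comap_primeIdealOf_appLE U hU V hV hVU hxV)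
  have hmem : q ∈ cmSet Γ(Y, U) Γ(X, V) := (isCMAt_iff_mem_cmSet f hU hV hVU rfl x hxV).mp hx
  obtain ⟨hflat, hcm⟩ := (mem_cmSet_iff' q p hp Q₀.asIdeal hQ₀).mp hmem
  obtain ⟨d, φ, hd, h⟩ := exists_qf_flat_of_isCM_fibre q hflat p Q₀.asIdeal hQ₀ hp hcm
  obtain ⟨W, hxW, g, hg⟩ := exists_toAffineSpace f hU hV hVU x hxV rfl φ h
  exact ⟨d, W, hxW, g, hdim.symm.trans hd, hg⟩

end CMFlatLib
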