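import Groth.Agent.CMFlatLib.Decomp
import Groth.Agent.FlatLib.FibModule
import Groth.Agent.J2Lib.Criterion

/-! # Cutting down equidimensional Cohen-Macaulay algebras -/

set_option autoImplicit false

universe u

open IsLocalRing RingTheory.Sequence CommAlgDim

namespace CMFlatLib

theorem dim_quotient_add_dim_localization_quotient_le {S : Type u} [CommRing S] [IsNoetherianRing S] (I q : Ideal S)
    [q.IsPrime] (h : I ≤ q) :
    ringKrullDim (S ⧸ q) + ringKrullDim (Localization.AtPrime q ⧸ I.map (algebraMap S (Localization.AtPrime q))) ≤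
      ringKrullDim (S ⧸ I) := by
  let q' := q.map (Ideal.Quotient.mk I)
  haveI hq' : q'.IsPrime := Ideal.map_isPrime_of_surjective Ideal.Quotient.mk_surjective (by rwa [Ideal.mk_ker])
  have hS : q.primeCompl.map (Ideal.Quotient.mk I) = q'.primeCompl := by
    ext x
    obtain ⟨x, rfl⟩ := Ideal.Quotient.mk_surjective x
    have hx : Ideal.Quotient.mk I x ∈ q' ↔ x ∈ q := by
      show x ∈ q'.comap (Ideal.Quotient.mk I) ↔ _
      rw [Ideal.comap_map_of_surjective' _ Ideal.Quotient.mk_surjective, Ideal.mk_ker, sup_of_le_left h]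
    constructor
    · rintro ⟨y, hy, hyx⟩ hmem
      rw [← hyx] at hmem
      have : y ∈ q'.comap (Ideal.Quotient.mk I) := hmem
      rw [Ideal.comap_map_of_surjective' _ Ideal.Quotient.mk_surjective, Ideal.mk_ker, sup_of_le_left h] at this
      exact hy this
    · exact fun hmem => ⟨x, fun hxq => hmem (hx.2 hxq), rfl⟩
  haveI : IsLocalization.AtPrime (Localization.AtPrime q ⧸ I.map (algebraMap S (Localization.AtPrime q))) q' := by
    show IsLocalization q'.primeCompl _
    rw [← hS]
    exact FlatLib.isLocalization_quotient q.primeCompl I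
  rw [IsLocalization.AtPrime.ringKrullDim_eq_height q'
    (Localization.AtPrime q ⧸ I.map (algebraMap S (Localization.AtPrime q))),
    ← CatLib.ringKrullDim_quotient_quotient_map h]
  exact J2Lib.ringKrullDim_quotient_add_height_le q'

theorem localDim_eq_of_equidim (k : Type u) {S : Type u} [Field k] [CommRing S] [Algebra k S]
    [Algebra.FiniteType k S] [LocCoh.IsCohenMacaulayRing S] (d : ℕ)
    (heq : ∀ p ∈ minimalPrimes S, ringKrullDim (S ⧸ p) = d) (P : PrimeSpectrum S) :
    FlatMor.localDim (PrimeSpectrum S) P = (d : WithBot ℕ∞) := by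
  haveI : IsNoetherianRing S := Algebra.FiniteType.isNoetherianRing k S
  obtain ⟨φ, hφ, hdim⟩ := exists_locallyConstant_localDim k (S := S)
  obtain ⟨p, hp, hle⟩ := Ideal.exists_minimalPrimes_le (bot_le : (⊥ : Ideal S) ≤ P.asIdeal)
  haveI hpp : p.IsPrime := hp.1.1
  let p' : PrimeSpectrum S := ⟨p, hpp⟩
  have hsp : p' ⤳ P := (PrimeSpectrum.le_iff_specializes p' P).1 hle
  obtain ⟨O, hO, hPO, hc⟩ := (IsLocallyConstant.iff_exists_open φ).1 hφ P
  rw [hdim, ← hc p' (hsp.mem_open hO hPO), ← hdim, FibDimLib.localDim_eq_dim_add k]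
  show ringKrullDim (S ⧸ p) + ringKrullDim (Localization.AtPrime p) = _
  rw [IsLocalization.AtPrime.ringKrullDim_eq_height p (Localization.AtPrime p),
    Ideal.height_eq_zero_iff.mpr hp, heq p hp]
  simp

theorem dim_eq_and_isRegular (k S : Type u) [Field k] [CommRing S] [Algebra k S]
    [Algebra.FiniteType k S] [LocCoh.IsCohenMacaulayRing S] (d : ℕ)
    (heq : ∀ p ∈ minimalPrimes S, ringKrullDim (S ⧸ p) = d) (f : List S) (hi : f.length ≤ d)
    (hne : Ideal.ofList f ≠ ⊤)
    (hle : ringKrullDim (S ⧸ Ideal.ofList f) ≤ ((d - f.length : ℕ) : WithBot ℕ∞)) :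
    ringKrullDim (S ⧸ Ideal.ofList f) = ((d - f.length : ℕ) : WithBot ℕ∞) ∧
      ∀ (q : Ideal S) [q.IsPrime], Ideal.ofList f ≤ q →
        RingTheory.Sequence.IsRegular (Localization.AtPrime q)
          (f.map (algebraMap S (Localization.AtPrime q))) := by
  haveI : IsNoetherianRing S := Algebra.FiniteType.isNoetherianRing k S
  have main : ∀ (q : Ideal S) [q.IsPrime], Ideal.ofList f ≤ q →
      RingTheory.Sequence.IsRegular (Localization.AtPrime q) (f.map (algebraMap S (Localization.AtPrime q))) ∧
      ∃ a c : ℕ, ringKrullDim (S ⧸ q) = a ∧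
        ringKrullDim (Localization.AtPrime q ⧸ (Ideal.ofList f).map (algebraMap S (Localization.AtPrime q))) = c ∧
        a + c + f.length = d := by
    intro q _ hq
    let L := Localization.AtPrime q
    haveI : IsNoetherianRing L := IsLocalization.isNoetherianRing q.primeCompl _ inferInstance
    have hcm : IsCM L :=
      (isCohenMacaulayLocalRing_iff_isCM L).1 (LocCoh.IsCohenMacaulayRing.isCohenMacaulayLocalRing_localization q)
    have hmem : ∀ r ∈ f.map (algebraMap S L), r ∈ maximalIdeal L := by
      intro r hr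
      obtain ⟨a, ha, rfl⟩ := List.mem_map.1 hr
      rw [← Localization.AtPrime.map_eq_maximalIdeal]
      exact Ideal.mem_map_of_mem _ (hq (Ideal.subset_span ha))
    have hJ : (Ideal.ofList f).map (algebraMap S L) = Ideal.ofList (f.map (algebraMap S L)) := Ideal.map_ofList _ _
    haveI : Nontrivial (L ⧸ (Ideal.ofList f).map (algebraMap S L)) := Ideal.Quotient.nontrivial_iff.2
      (ne_top_of_le_ne_top (maximalIdeal.isMaximal L).ne_top
        ((Ideal.map_mono hq).trans_eq Localization.AtPrime.map_eq_maximalIdeal))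
    obtain ⟨c, hc⟩ := exists_ringKrullDim_eq (R := L ⧸ (Ideal.ofList f).map (algebraMap S L))
    obtain ⟨a, ha, -⟩ := FibDimLib.ringKrullDim_quotient_eq_trdeg k q
    obtain ⟨h, hh⟩ := exists_ringKrullDim_eq (R := L)
    have h1 := dim_quotient_add_dim_localization_quotient_le (Ideal.ofList f) q hq
    have h2 := h1.trans hle
    rw [ha, hc] at h2
    have h3 := localDim_eq_of_equidim k d heq ⟨q, inferInstance⟩
    rw [FibDimLib.localDim_eq_dim_add k] at h3
    change ringKrullDim (S ⧸ q) + ringKrullDim L = _ at h3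
    rw [ha, hh] at h3
    norm_cast at h2 h3
    have hreg : RingTheory.Sequence.IsRegular L (f.map (algebraMap S L)) := by
      refine isRegular_of_dim hcm hmem ?_
      rw [← hJ, hc, hh, List.length_map]
      exact_mod_cast (by omega : c + f.length ≤ h)
    refine ⟨hreg, a, c, ha, hc, ?_⟩
    have h5 := ringKrullDim_add_length_eq_ringKrullDim_of_isRegular _ hreg
    rw [← hJ, hc, hh, List.length_map] at h5
    norm_cast at h5
    omega
  refine ⟨le_antisymm hle ?_, fun q _ hq => (main q hq).1⟩
  obtain ⟨m, hm, hfm⟩ := Ideal.exists_le_maximal _ hne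
  obtain ⟨-, a, c, ha, hc, hac⟩ := main m hfm
  refine le_trans ?_ (dim_quotient_add_dim_localization_quotient_le (Ideal.ofList f) m hfm)
  rw [ha, hc]
  exact_mod_cast (by omega : d - f.length ≤ a + c)

end CMFlatLib
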