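import Groth.Agent.CMFlatLib.FibreDim

/-! # Decomposition of a ring by a locally constant function on its spectrum -/

set_option autoImplicit false

universe u

open PrimeSpectrum TopologicalSpace

namespace CMFlatLib

theorem eq_zero_of_basicOpen_empty {S : Type u} [CommRing S] {e : S} (he : IsIdempotentElem e)
    (h : ∀ P : PrimeSpectrum S, e ∈ P.asIdeal) : e = 0 := by
  obtain ⟨n, hn⟩ : IsNilpotent e := nilpotent_iff_mem_prime.2 fun J hJ => h ⟨J, hJ⟩
  rcases n with _ | n
  · rw [pow_zero] at hn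
    exact eq_zero_of_zero_eq_one hn.symm e
  · rwa [he.pow_succ_eq] at hn

theorem exists_decomp {S : Type u} [CommRing S] (φ : PrimeSpectrum S → ℕ) (hφ : IsLocallyConstant φ) :
    ∃ (N : ℕ) (e : Fin (N + 1) → S), CompleteOrthogonalIdempotents e ∧
      ∀ (d : Fin (N + 1)) (P : PrimeSpectrum S), e d ∉ P.asIdeal ↔ φ P = d := by
  have hfin : (Set.range φ).Finite := hφ.range_finite
  obtain ⟨N, hN⟩ := hfin.bddAbove
  have hN : ∀ P, φ P ≤ N := fun P => hN ⟨P, rfl⟩
  have hex : ∀ d : Fin (N + 1), ∃ e : S, IsIdempotentElem e ∧ φ ⁻¹' {(d : ℕ)} = (basicOpen e : Set (PrimeSpectrum S)) :=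
    fun d => exists_idempotent_basicOpen_eq_of_isClopen ⟨hφ.isClosed_fiber _, hφ.isOpen_fiber _⟩
  choose e hidem he using hex
  have hmem : ∀ d P, e d ∉ P.asIdeal ↔ φ P = d := fun d P => by
    have : P ∈ φ ⁻¹' {(d : ℕ)} ↔ P ∈ (basicOpen (e d) : Set (PrimeSpectrum S)) := by rw [he d]
    exact this.symm
  have hsum : ∀ i, e i * (1 - ∑ j, e j) = 0 ∧ ∀ j, i ≠ j → e i * e j = 0 := by
    intro i
    have horth : ∀ j, i ≠ j → e i * e j = 0 := fun j hij => by
      refine eq_zero_of_basicOpen_empty ((hidem i).mul (hidem j)) fun P => ?_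
      by_contra hP
      rw [P.isPrime.mul_mem_iff_mem_or_mem, not_or, hmem, hmem] at hP
      exact hij (Fin.ext (hP.1.symm.trans hP.2))
    refine ⟨?_, horth⟩
    rw [mul_sub, mul_one, Finset.mul_sum, Finset.sum_eq_single i (fun j _ hj => horth j (Ne.symm hj))
      (by simp), (hidem i).eq, sub_self]
  refine ⟨N, e, ⟨⟨hidem, fun i j hij => (hsum i).2 j hij⟩, ?_⟩, hmem⟩
  have hs : IsIdempotentElem (∑ j, e j) := (OrthogonalIdempotents.mk hidem fun i j hij => (hsum i).2 j hij).isIdempotentElem_sum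
  refine (sub_eq_zero.1 (eq_zero_of_basicOpen_empty hs.one_sub fun P => ?_)).symm
  have h1 : e ⟨φ P, by have := hN P; omega⟩ ∉ P.asIdeal := (hmem _ P).2 rfl
  have h2 : e ⟨φ P, by have := hN P; omega⟩ * (1 - ∑ j, e j) ∈ P.asIdeal := by rw [(hsum _).1]; exact zero_mem _
  exact (P.isPrime.mem_or_mem h2).resolve_left h1

/-- The factor cut out by an idempotent. -/
abbrev Factor {S : Type u} [CommRing S] (e : S) : Type u := S ⧸ Ideal.span {1 - e}

theorem exists_algEquiv_pi {k S : Type u} [CommRing k] [CommRing S] [Algebra k S] {ι : Type} [Fintype ι]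
    {e : ι → S} (he : CompleteOrthogonalIdempotents e) : Nonempty (S ≃ₐ[k] ((i : ι) → Factor (e i))) :=
  ⟨AlgEquiv.ofBijective (Pi.algHom k _ fun i => Ideal.Quotient.mkₐ k (Ideal.span {1 - e i})) he.bijective_pi⟩

theorem isLocalization_factor {S : Type u} [CommRing S] {e : S} (he : IsIdempotentElem e) :
    IsLocalization.Away e (Factor e) :=
  IsLocalization.away_of_isIdempotentElem he (Ideal.mk_ker) Ideal.Quotient.mk_surjective

theorem notMem_comap_factor {S : Type u} [CommRing S] {e : S} (Q : Ideal (Factor e)) [Q.IsPrime] :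
    e ∉ Q.comap (Ideal.Quotient.mk (Ideal.span {1 - e})) := by
  intro h
  refine (inferInstance : Q.IsPrime).ne_top ((Ideal.eq_top_iff_one _).2 ?_)
  have : Ideal.Quotient.mk (Ideal.span {1 - e}) e = 1 := by
    rw [← map_one (Ideal.Quotient.mk (Ideal.span {1 - e})), Ideal.Quotient.eq, Ideal.mem_span_singleton']
    exact ⟨-1, by ring⟩
  rwa [Ideal.mem_comap, this] at h

theorem exists_localization_factor_equiv {S : Type u} [CommRing S] {e : S} (he : IsIdempotentElem e)
    (Q : Ideal (Factor e)) [Q.IsPrime] :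
    Nonempty (Localization.AtPrime (Q.comap (Ideal.Quotient.mk (Ideal.span {1 - e}))) ≃+* Localization.AtPrime Q) := by
  haveI := isLocalization_factor he
  haveI : IsLocalization.AtPrime (Localization.AtPrime Q) (Q.comap (Ideal.Quotient.mk (Ideal.span {1 - e}))) :=
    IsLocalization.isLocalization_isLocalization_atPrime_isLocalization (Submonoid.powers e) _ Q
  exact ⟨(IsLocalization.algEquiv (Q.comap (Ideal.Quotient.mk (Ideal.span {1 - e}))).primeCompl _ _).toRingEquiv⟩

section Field

variable {k S : Type u} [Field k] [CommRing S] [Algebra k S] [Algebra.FiniteType k S]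

variable (k) in
include k in
theorem exists_locallyConstant_localDim [LocCoh.IsCohenMacaulayRing S] :
    ∃ φ : PrimeSpectrum S → ℕ, IsLocallyConstant φ ∧
      ∀ P, FlatMor.localDim (PrimeSpectrum S) P = (φ P : WithBot ℕ∞) := by
  haveI : IsNoetherianRing S := Algebra.FiniteType.isNoetherianRing k S
  haveI : Algebra.FinitePresentation k S := Algebra.FinitePresentation.of_finiteType.mp inferInstance
  have key : ∀ P : PrimeSpectrum S, ∃ (d : ℕ) (O : Set (PrimeSpectrum S)), IsOpen O ∧ P ∈ O ∧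
      ∀ z ∈ O, FlatMor.localDim (PrimeSpectrum S) z = (d : WithBot ℕ∞) := by
    intro P
    have hcm : CommAlgDim.IsCM (Localization.AtPrime P.asIdeal) :=
      (isCohenMacaulayLocalRing_iff_isCM _).1 (LocCoh.IsCohenMacaulayRing.isCohenMacaulayLocalRing_localization P.asIdeal)
    obtain ⟨d, φ, -, -, -, h⟩ := exists_flat_quasiFiniteAt_of_isCM k P.asIdeal hcm Set.univ
      fun b => ⟨1, one_ne_zero, Set.mem_univ _⟩
    letI := φ.toRingHom.toAlgebra
    haveI : IsScalarTower k (MvPolynomial (Fin d) k) S := IsScalarTower.of_algebraMap_eq fun r => (φ.commutes r).symm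
    haveI : Algebra.FinitePresentation (MvPolynomial (Fin d) k) S :=
      Algebra.FinitePresentation.of_restrict_scalars_finitePresentation k _ _
    refine ⟨d, {z | Algebra.QuasiFiniteAt (MvPolynomial (Fin d) k) z.asIdeal} ∩
      FlatLib.flatLocus (MvPolynomial (Fin d) k) S S,
      (RichLib.QFLocus.isOpen_setOf_quasiFiniteAt _ _).inter FlatLib.isOpen_flatLocus_fp,
      ⟨h.1, (FlatLib.mem_flatLocus_self_iff P).2 h.2⟩, fun z hz => ?_⟩
    haveI : Algebra.QuasiFiniteAt (MvPolynomial (Fin d) k) z.asIdeal := hz.1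
    exact localDim_eq_of_flat_qf d z.asIdeal ((FlatLib.mem_flatLocus_self_iff z).1 hz.2)
  choose φ O hO hmem hd using key
  refine ⟨φ, (IsLocallyConstant.iff_exists_open φ).2 fun P => ⟨O P, hO P, hmem P, fun z hz => ?_⟩,
    fun P => hd P P (hmem P)⟩
  exact_mod_cast (hd z z (hmem z)).symm.trans (hd P z hz)

theorem exists_equidim_decomp (k S : Type u) [Field k] [CommRing S]
    [Algebra k S] [Algebra.FiniteType k S] [LocCoh.IsCohenMacaulayRing S] :
    ∃ (N : ℕ) (T : Fin (N + 1) → Type u) (_ : ∀ d, CommRing (T d)) (_ : ∀ d, Algebra k (T d)),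
      Nonempty (S ≃ₐ[k] ((d : Fin (N + 1)) → T d)) ∧
        ∀ (d : Fin (N + 1)) (m : Ideal (T d)), m.IsMaximal → m.height = (d : ℕ) := by
  obtain ⟨φ, hφ, hdim⟩ := exists_locallyConstant_localDim k (S := S)
  obtain ⟨N, e, he, hmem⟩ := exists_decomp φ hφ
  refine ⟨N, fun d => Factor (e d), inferInstance, inferInstance, exists_algEquiv_pi he, fun d m hm => ?_⟩
  let M := m.comap (Ideal.Quotient.mk (Ideal.span {1 - e d}))
  haveI : M.IsMaximal := Ideal.comap_isMaximal_of_surjective _ Ideal.Quotient.mk_surjective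
  obtain ⟨θ⟩ := exists_localization_factor_equiv (he.idem d) m
  have h1 : ringKrullDim (Localization.AtPrime M) = ((d : ℕ) : WithBot ℕ∞) := by
    rw [← FibDimLib.localDim_eq_of_isMaximal k M, hdim, (hmem d ⟨M, inferInstance⟩).1 (notMem_comap_factor m)]
  rw [ringKrullDim_eq_of_ringEquiv θ, IsLocalization.AtPrime.ringKrullDim_eq_height m (Localization.AtPrime m)] at h1
  exact_mod_cast h1

end Field

end CMFlatLib
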