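import Groth.Agent.CMFlatLib.Decomp

/-! # Relative equidimensional decomposition -/

set_option autoImplicit false

universe u

open TensorProduct PrimeSpectrum CommAlgDim

namespace CMFlatLib

variable {R S : Type u} [CommRing R] [CommRing S] [Algebra R S] [Module.Flat R S] [Algebra.FinitePresentation R S]

theorem exists_locallyConstant_fibreLocalDim
    (hCM : ∀ p : PrimeSpectrum R, LocCoh.IsCohenMacaulayRing (p.asIdeal.Fiber S)) :
    ∃ φ : PrimeSpectrum S → ℕ, IsLocallyConstant φ ∧
      ∀ (q : PrimeSpectrum S) (p : Ideal R) [p.IsPrime] (Q : Ideal (p.Fiber S)) [Q.IsPrime],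
        Q.comap (Algebra.TensorProduct.includeRight : S →ₐ[R] p.Fiber S).toRingHom = q.asIdeal →
          FlatMor.localDim (PrimeSpectrum (p.Fiber S)) ⟨Q, inferInstance⟩ = (φ q : WithBot ℕ∞) := by
  have hflat : ∀ q : PrimeSpectrum S, q ∈ FlatLib.flatLocus R S S := fun q => by
    rw [FlatLib.mem_flatLocus_self_iff]
    haveI : Module.Flat S (Localization.AtPrime q.asIdeal) := IsLocalization.flat _ q.asIdeal.primeCompl
    exact Module.Flat.trans R S _
  have key : ∀ q : PrimeSpectrum S, ∃ (d : ℕ) (O : Set (PrimeSpectrum S)), IsOpen O ∧ q ∈ O ∧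
      ∀ z ∈ O, ∀ (p : Ideal R) [p.IsPrime] (Q : Ideal (p.Fiber S)) [Q.IsPrime],
        Q.comap (Algebra.TensorProduct.includeRight : S →ₐ[R] p.Fiber S).toRingHom = z.asIdeal →
          FlatMor.localDim (PrimeSpectrum (p.Fiber S)) ⟨Q, inferInstance⟩ = (d : WithBot ℕ∞) := by
    intro q
    obtain ⟨Q, hQp, hQ⟩ := exists_fibre_point (R := R) q
    haveI := hQp
    haveI : LocCoh.IsCohenMacaulayRing ((q.asIdeal.comap (algebraMap R S)).Fiber S) :=
      hCM ⟨q.asIdeal.comap (algebraMap R S), inferInstance⟩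
    haveI : IsNoetherianRing (Localization.AtPrime Q) := IsLocalization.isNoetherianRing Q.primeCompl _ inferInstance
    have hmem : q ∈ cmSet R S := (mem_cmSet_iff q Q hQ).2 ⟨hflat q,
      (isCohenMacaulayLocalRing_iff_isCM _).1 (LocCoh.IsCohenMacaulayRing.isCohenMacaulayLocalRing_localization Q)⟩
    obtain ⟨d, φ, h⟩ := exists_qf_flat q hmem
    letI := φ.toRingHom.toAlgebra
    haveI : IsScalarTower R (MvPolynomial (ULift.{u} (Fin d)) R) S :=
      IsScalarTower.of_algebraMap_eq fun r ↦ (φ.commutes r).symm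
    haveI : Algebra.FinitePresentation (MvPolynomial (ULift.{u} (Fin d)) R) S :=
      Algebra.FinitePresentation.of_restrict_scalars_finitePresentation R _ _
    refine ⟨d, {z | Algebra.QuasiFiniteAt (MvPolynomial (ULift.{u} (Fin d)) R) z.asIdeal} ∩
      FlatLib.flatLocus (MvPolynomial (ULift.{u} (Fin d)) R) S S,
      (RichLib.QFLocus.isOpen_setOf_quasiFiniteAt _ _).inter FlatLib.isOpen_flatLocus_fp, h,
      fun z hz p _ Q' _ hQ' => ?_⟩
    rw [localDim_fibre_of_qf_flat φ z p Q' hQ' hz]
    simp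
  choose φ O hO hmem hd using key
  refine ⟨φ, (IsLocallyConstant.iff_exists_open φ).2 fun q => ⟨O q, hO q, hmem q, fun z hz => ?_⟩,
    fun q p _ Q _ hQ => hd q q (hmem q) p Q hQ⟩
  obtain ⟨Q, hQp, hQ⟩ := exists_fibre_point (R := R) z
  haveI := hQp
  exact_mod_cast (hd z z (hmem z) _ Q hQ).symm.trans (hd q z hz _ Q hQ)

theorem cmRing_factor {F : Type u} [CommRing F] [LocCoh.IsCohenMacaulayRing F] {e : F} (he : IsIdempotentElem e) :
    LocCoh.IsCohenMacaulayRing (Factor e) :=
  { isCohenMacaulayLocalRing_localization := fun Q _ => by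
      obtain ⟨θ⟩ := exists_localization_factor_equiv he Q
      exact (isCohenMacaulayLocalRing_congr θ).1
        (LocCoh.IsCohenMacaulayRing.isCohenMacaulayLocalRing_localization _) }

omit [Module.Flat R S] [Algebra.FinitePresentation R S] in
theorem exists_fiber_factor_equiv (e : S) (p : Ideal R) [p.IsPrime] :
    Nonempty (Factor ((1 : p.ResidueField) ⊗ₜ[R] e : p.Fiber S) ≃+* p.Fiber (Factor e)) := by
  let π : S →ₐ[R] Factor e := Ideal.Quotient.mkₐ R (Ideal.span {1 - e})
  let γ : p.Fiber S →ₐ[R] p.Fiber (Factor e) := Algebra.TensorProduct.map (AlgHom.id R p.ResidueField) π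
  have hsurj : Function.Surjective γ :=
    TensorProduct.map_surjective Function.surjective_id Ideal.Quotient.mk_surjective
  have hker : RingHom.ker γ.toRingHom = Ideal.span {1 - ((1 : p.ResidueField) ⊗ₜ[R] e : p.Fiber S)} := by
    rw [show RingHom.ker γ.toRingHom = RingHom.ker (Algebra.TensorProduct.map (AlgHom.id R p.ResidueField) π) from rfl,
      Algebra.TensorProduct.lTensor_ker π Ideal.Quotient.mk_surjective,
      show RingHom.ker π = Ideal.span {1 - e} from Ideal.mk_ker, Ideal.map_span, Set.image_singleton, map_sub, map_one]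
    rfl
  exact ⟨(Ideal.quotEquivOfEq hker.symm).trans (RingHom.quotientKerEquivOfSurjective (f := γ.toRingHom) hsurj)⟩

theorem exists_relative_decomp
    (hCM : ∀ p : PrimeSpectrum R, LocCoh.IsCohenMacaulayRing (p.asIdeal.Fiber S)) :
    ∃ (N : ℕ) (T : Fin (N + 1) → Type u) (_ : ∀ d, CommRing (T d)) (_ : ∀ d, Algebra R (T d)),
      Nonempty (S ≃ₐ[R] ((d : Fin (N + 1)) → T d)) ∧
        ∀ d : Fin (N + 1), Module.Flat R (T d) ∧ Algebra.FinitePresentation R (T d) ∧
          (∀ p : PrimeSpectrum R, LocCoh.IsCohenMacaulayRing (p.asIdeal.Fiber (T d))) ∧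
          ∀ (p : PrimeSpectrum R), ∀ P ∈ minimalPrimes (p.asIdeal.Fiber (T d)),
            ringKrullDim (p.asIdeal.Fiber (T d) ⧸ P) = ((d : ℕ) : WithBot ℕ∞) := by
  obtain ⟨φ, hφ, hdim⟩ := exists_locallyConstant_fibreLocalDim hCM
  obtain ⟨N, e, he, hmem⟩ := exists_decomp φ hφ
  refine ⟨N, fun d => Factor (e d), inferInstance, inferInstance, exists_algEquiv_pi he, fun d => ?_⟩
  haveI : IsLocalization.Away (e d) (Factor (e d)) := isLocalization_factor (he.idem d)
  refine ⟨?_, Algebra.FinitePresentation.quotient (Submodule.fg_span_singleton _), fun p => ?_, fun p P hP => ?_⟩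
  · haveI : Module.Flat S (Factor (e d)) := IsLocalization.flat _ (Submonoid.powers (e d))
    exact Module.Flat.trans R S _
  · haveI := hCM p
    obtain ⟨θ⟩ := exists_fiber_factor_equiv (e d) p.asIdeal
    haveI := cmRing_factor (e := ((1 : p.asIdeal.ResidueField) ⊗ₜ[R] e d : p.asIdeal.Fiber S))
      ((he.idem d).map (Algebra.TensorProduct.includeRight : S →ₐ[R] p.asIdeal.Fiber S))
    exact SMTLib.isCohenMacaulayRing_of_ringEquiv θ inferInstance
  · haveI := hCM p
    let F := p.asIdeal.Fiber S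
    let ε : F := (1 : p.asIdeal.ResidueField) ⊗ₜ[R] e d
    obtain ⟨θ⟩ := exists_fiber_factor_equiv (e d) p.asIdeal
    haveI : P.IsPrime := hP.1.1
    let P' : Ideal (Factor ε) := P.comap θ
    haveI : P'.IsPrime := Ideal.IsPrime.comap θ
    let M : Ideal F := P'.comap (Ideal.Quotient.mk (Ideal.span {1 - ε}))
    obtain ⟨ψ⟩ := exists_localization_factor_equiv (e := ε)
      ((he.idem d).map (Algebra.TensorProduct.includeRight : S →ₐ[R] F)) P'
    let q : PrimeSpectrum S := ⟨M.comap (Algebra.TensorProduct.includeRight : S →ₐ[R] F).toRingHom, inferInstance⟩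
    have hP' : P'.height = 0 := by
      rw [show P'.height = P.height from θ.height_comap P]
      exact Ideal.height_eq_zero_iff.mpr hP
    have hM : ringKrullDim (Localization.AtPrime M) = 0 := by
      rw [ringKrullDim_eq_of_ringEquiv ψ, IsLocalization.AtPrime.ringKrullDim_eq_height P' (Localization.AtPrime P'), hP']
      rfl
    have h1 := hdim q p.asIdeal M rfl
    rw [(hmem d q).1 (notMem_comap_factor P'), FibDimLib.localDim_eq_dim_add p.asIdeal.ResidueField] at h1
    change ringKrullDim (F ⧸ M) + ringKrullDim (Localization.AtPrime M) = _ at h1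
    rw [hM, add_zero] at h1
    rw [← h1]
    let ρ : F →+* p.asIdeal.Fiber (Factor (e d)) ⧸ P :=
      (Ideal.Quotient.mk P).comp (θ.toRingHom.comp (Ideal.Quotient.mk (Ideal.span {1 - ε})))
    have hρ : RingHom.ker ρ = M := by
      ext x
      rw [RingHom.mem_ker]
      exact Ideal.Quotient.eq_zero_iff_mem
    exact (ringKrullDim_eq_of_ringEquiv ((Ideal.quotEquivOfEq hρ.symm).trans
      (RingHom.quotientKerEquivOfSurjective (f := ρ)
        (Ideal.Quotient.mk_surjective.comp (θ.surjective.comp Ideal.Quotient.mk_surjective))))).symm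

end CMFlatLib
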