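import Groth.Agent.EquidimLib.Points
import Groth.Agent.CMFlatLib.FibreDim

/-! # Cohen-Macaulay morphisms are equidimensional -/

set_option autoImplicit false

universe u

open CategoryTheory AlgebraicGeometry TopologicalSpace

namespace CMFlatLib

/-- Generalizations lift along a flat stalk map. -/
theorem exists_specializes_of_flat_stalkMap {X Y : Scheme.{u}} (f : X ⟶ Y) (x : X) (hf : (f.stalkMap x).hom.Flat)
    {y' : Y} (hy : y' ⤳ f x) : ∃ x' : X, x' ⤳ x ∧ f x' = y' := by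
  obtain ⟨p, hp⟩ : y' ∈ Set.range (Y.fromSpecStalk (f x)) := by rw [Scheme.range_fromSpecStalk]; exact hy
  letI := (f.stalkMap x).hom.toAlgebra
  haveI : Module.Flat (Y.presheaf.stalk (f x)) (X.presheaf.stalk x) := hf
  haveI : IsLocalHom (algebraMap (Y.presheaf.stalk (f x)) (X.presheaf.stalk x)) :=
    inferInstanceAs (IsLocalHom (f.stalkMap x).hom)
  haveI : Module.FaithfullyFlat (Y.presheaf.stalk (f x)) (X.presheaf.stalk x) :=
    Module.FaithfullyFlat.of_flat_of_isLocalHom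
  obtain ⟨q, hq⟩ := PrimeSpectrum.comap_surjective_of_faithfullyFlat (A := Y.presheaf.stalk (f x))
    (B := X.presheaf.stalk x) p
  refine ⟨X.fromSpecStalk x q, ?_, ?_⟩
  · have : X.fromSpecStalk x q ∈ Set.range (X.fromSpecStalk x) := ⟨q, rfl⟩
    rwa [Scheme.range_fromSpecStalk] at this
  · rw [← hp, ← hq, ← Scheme.Hom.comp_apply, ← Scheme.SpecMap_stalkMap_fromSpecStalk, Scheme.Hom.comp_apply]
    rfl

theorem isEquidimAt_of_isCMAt {X Y : Scheme.{u}} [IsLocallyNoetherian Y] (f : X ⟶ Y)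
    [LocallyOfFiniteType f] (x : X) (hx : MoreMor.IsCMAt f x) : EGA43.IsEquidimAt f x := by
  haveI : IsLocallyNoetherian X := LocallyOfFiniteType.isLocallyNoetherian f
  haveI : LocallyOfFinitePresentation f := inferInstance
  obtain ⟨e, O, hO, hxO, hd⟩ := exists_open_fibreDimAt_eq f x hx
  refine EquidimLib.isEquidimAt_of_bounds f x e ⟨O ∩ {z | MoreMor.IsCMAt f z}, hO.inter (isOpen_isCMAt f)⟩
    ⟨hxO, hx⟩ (fun z hz => hd z hz.1 ▸ UOpenLib.fibreClosureDim_le_fibreDimAt f specializes_rfl) fun ζ hζ hmax => ?_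
  refine ⟨FibDimLib.closure_mem_irreducibleComponents_of_max fun y' hy' => ?_, ?_⟩
  · obtain ⟨ζ', hζ', rfl⟩ := exists_specializes_of_flat_stalkMap f ζ hζ.2.1 hy'
    exact congrArg f.base (FibDimLib.eq_of_specializes_of_closure_mem hmax hζ')
  · rw [← UOpenLib.fibreDimAt_eq_of_max f (EquidimLib.isFibreMax_of_max f hmax), hd ζ hζ.1]

end CMFlatLib
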