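import Groth.Agent.CMFlatLib.Open
import Groth.Agent.CMFlatLib.BaseChange
import Groth.Agent.FlatLib.Stage
import Groth.Agent.ConsLib.General
import Mathlib

/-! # Constructibility of the locus of Cohen-Macaulay points of fibres -/

set_option autoImplicit false
universe u

open TensorProduct CategoryTheory AlgebraicGeometry Topology

namespace CMFlatLib

/-- The primes at which the fibre ring is Cohen-Macaulay. -/
def fibSet (R B : Type u) [CommRing R] [CommRing B] [Algebra R B] : Set (PrimeSpectrum B) :=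
  {q | LocCoh.IsCohenMacaulayLocalRing (Localization.AtPrime q.asIdeal ⧸
    (q.asIdeal.comap (algebraMap R B)).map (algebraMap R (Localization.AtPrime q.asIdeal)))}

theorem fibSet_baseChange (R B R' : Type u) [CommRing R] [CommRing B] [Algebra R B] [CommRing R'] [Algebra R R']
    [Algebra.FiniteType R B] :
    fibSet R' (R' ⊗[R] B) = PrimeSpectrum.comap
      (Algebra.TensorProduct.includeRight : B →ₐ[R] R' ⊗[R] B).toRingHom ⁻¹' fibSet R B := by
  letI : Algebra B (R' ⊗[R] B) := Algebra.TensorProduct.rightAlgebra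
  ext c
  exact cm_fibre_baseChange_iff (R := R) (S := B) (R' := R') (S' := R' ⊗[R] B) c.asIdeal
    (c.asIdeal.comap (algebraMap B (R' ⊗[R] B))) (c.asIdeal.comap (algebraMap R' (R' ⊗[R] B)))
    ((c.asIdeal.comap (algebraMap B (R' ⊗[R] B))).comap (algebraMap R B)) rfl rfl (by
      rw [Ideal.comap_comap, Ideal.comap_comap, ← IsScalarTower.algebraMap_eq, ← IsScalarTower.algebraMap_eq])
    (Or.inr inferInstance)

theorem fibSet_congr {R B C : Type u} [CommRing R] [CommRing B] [Algebra R B] [CommRing C] [Algebra R C]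
    (e : B ≃ₐ[R] C) : fibSet R C = PrimeSpectrum.comap e.toRingEquiv.toRingHom ⁻¹' fibSet R B := by
  ext c
  let q := PrimeSpectrum.comap e.toRingEquiv.toRingHom c
  let ε : Localization.AtPrime q.asIdeal ≃+* Localization.AtPrime c.asIdeal :=
    IsLocalization.ringEquivOfRingEquiv _ _ e.toRingEquiv (M := q.asIdeal.primeCompl) (T := c.asIdeal.primeCompl)
      (by
        ext x
        constructor
        · rintro ⟨y, hy, rfl⟩; exact hy
        · intro hx
          exact ⟨e.symm x, fun h => hx (by simpa [q] using h), e.apply_symm_apply x⟩)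
  refine isCohenMacaulayLocalRing_congr (Ideal.quotientEquiv _ _ ε.symm ?_)
  rw [Ideal.map_map]
  have h1 : q.asIdeal.comap (algebraMap R B) = c.asIdeal.comap (algebraMap R C) := by
    show (c.asIdeal.comap e.toRingEquiv.toRingHom).comap (algebraMap R B) = _
    rw [Ideal.comap_comap]
    congr 1
    ext r
    exact e.commutes r
  rw [h1]
  congr 1
  ext r
  apply ε.injective
  show ε (algebraMap R _ r) = ε (ε.symm (algebraMap R _ r))
  rw [RingEquiv.apply_symm_apply, IsScalarTower.algebraMap_apply R B (Localization.AtPrime q.asIdeal),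
    IsLocalization.ringEquivOfRingEquiv_eq, IsScalarTower.algebraMap_apply R C (Localization.AtPrime c.asIdeal)]
  exact congrArg _ (e.commutes r)

theorem isLocallyConstructible_fibSet_noetherian (R B : Type u) [CommRing R] [CommRing B] [Algebra R B]
    [IsNoetherianRing R] [Algebra.FiniteType R B] : IsLocallyConstructible (fibSet R B) := by
  haveI : IsNoetherianRing B := Algebra.FiniteType.isNoetherianRing R B
  change IsLocallyConstructible (X := ↥(Spec (CommRingCat.of B))) _
  refine ConsLib.isLocallyConstructible_of_generic fun {Z} _ _ i _ => ?_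
  let q : PrimeSpectrum B := i (genericPoint Z)
  let p : Ideal R := q.asIdeal.comap (algebraMap R B)
  obtain ⟨r, hr, hfree⟩ := FlatLib.exists_free_away (R := R) (S := B) (M := B) p
  let R' := Localization.Away (Ideal.Quotient.mk p r)
  let C := R' ⊗[R] B
  let inc := (Algebra.TensorProduct.includeRight : B →ₐ[R] C).toRingHom
  haveI : Module.Flat R' C := Module.Flat.of_free
  haveI : Algebra.FinitePresentation R' C := by
    haveI : Algebra.FinitePresentation R B := Algebra.FinitePresentation.of_finiteType.mp inferInstance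
    infer_instance
  have hemb : IsEmbedding (PrimeSpectrum.comap inc) := by
    have h1 : IsPreimmersion (Spec.map (CommRingCat.ofHom (algebraMap R R'))) := by
      rw [IsScalarTower.algebraMap_eq R (R ⧸ p) R', CommRingCat.ofHom_comp, Spec.map_comp]
      haveI : IsClosedImmersion (Spec.map (CommRingCat.ofHom (algebraMap R (R ⧸ p)))) :=
        IsClosedImmersion.spec_of_surjective _ Ideal.Quotient.mk_surjective
      haveI : IsOpenImmersion (Spec.map (CommRingCat.ofHom (algebraMap (R ⧸ p) R'))) :=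
        IsOpenImmersion.of_isLocalization (Ideal.Quotient.mk p r)
      infer_instance
    have h2 : IsPreimmersion (Spec.map (CommRingCat.ofHom inc)) :=
      MorphismProperty.of_isPullback
        (isPullback_SpecMap_of_isPushout _ _ _ _ (CommRingCat.isPushout_tensorProduct R R' B)) h1
    exact h2.isEmbedding
  have hlift : ∀ P : PrimeSpectrum B, p ≤ P.asIdeal.comap (algebraMap R B) → algebraMap R B r ∉ P.asIdeal →
      ∃ c, PrimeSpectrum.comap inc c = P := by
    intro P hle hrP
    let K := P.asIdeal.ResidueField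
    let φ₁ : R ⧸ p →+* K := Ideal.Quotient.lift p (algebraMap R K) fun a ha => by
      rw [IsScalarTower.algebraMap_apply R B K]
      exact Ideal.algebraMap_residueField_eq_zero.2 (hle ha)
    have hu : IsUnit (φ₁ (Ideal.Quotient.mk p r)) := by
      rw [Ideal.Quotient.lift_mk, isUnit_iff_ne_zero, IsScalarTower.algebraMap_apply R B K]
      exact fun h => hrP (Ideal.algebraMap_residueField_eq_zero.1 h)
    let φ : R' →+* K := IsLocalization.Away.lift (Ideal.Quotient.mk p r) hu
    have hφ : ∀ a, φ (algebraMap R R' a) = algebraMap R K a := fun a => by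
      rw [IsScalarTower.algebraMap_apply R (R ⧸ p) R']
      exact IsLocalization.Away.lift_eq _ hu _
    let ψR : R' →ₐ[R] K := { φ with commutes' := hφ }
    let Ψ : C →ₐ[R] K := Algebra.TensorProduct.productMap ψR (IsScalarTower.toAlgHom R B K)
    refine ⟨PrimeSpectrum.comap Ψ.toRingHom ⊥, PrimeSpectrum.ext ?_⟩
    ext b
    show Ψ (1 ⊗ₜ b) ∈ (⊥ : Ideal K) ↔ b ∈ P.asIdeal
    rw [Algebra.TensorProduct.productMap_apply_tmul, map_one, one_mul, Ideal.mem_bot]
    exact Ideal.algebraMap_residueField_eq_zero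
  -- the open part of `Z` over the stratum
  let D : TopologicalSpace.Opens ↥(Spec (CommRingCat.of B)) := PrimeSpectrum.basicOpen (algebraMap R B r)
  let W : Set Z := i ⁻¹' (D : Set _)
  have hWo : IsOpen W := D.2.preimage i.continuous
  have hgW : genericPoint Z ∈ W := hr
  have hgen : ∀ z : Z, genericPoint Z ⤳ z := genericPoint_specializes
  have hW : ∀ z ∈ W, ∃ c, PrimeSpectrum.comap inc c = (i z : PrimeSpectrum B) := fun z hz =>
    hlift _ (Ideal.comap_mono ((PrimeSpectrum.le_iff_specializes q (i z)).2 ((hgen z).map i.continuous))) hz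
  have hO : IsOpen (cmSet R' C) := isOpen_cmSet
  have hfl : ∀ c : PrimeSpectrum C, c ∈ FlatLib.flatLocus R' C C := fun c => by
    show Module.Flat R' (LocalizedModule c.asIdeal.primeCompl C)
    exact Module.Flat.trans R' C _
  have hEc : ∀ c, c ∈ cmSet R' C ↔ PrimeSpectrum.comap inc c ∈ fibSet R B := fun c => by
    have h := Set.ext_iff.1 (fibSet_baseChange R B R') c
    exact ⟨fun hc => h.1 hc.2, fun hc => ⟨hfl c, h.2 hc⟩⟩
  obtain ⟨O', hO', hOO'⟩ := hemb.isInducing.isOpen_iff.1 hO
  have key : ∀ z ∈ W, ((i z : PrimeSpectrum B) ∈ fibSet R B ↔ (i z : PrimeSpectrum B) ∈ O') := fun z hz => by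
    obtain ⟨c, hc⟩ := hW z hz
    have h : PrimeSpectrum.comap inc c ∈ fibSet R B ↔ PrimeSpectrum.comap inc c ∈ O' :=
      (hEc c).symm.trans (Set.ext_iff.1 hOO' c).symm
    exact hc ▸ h
  by_cases hq : q ∈ fibSet R B
  · refine Or.inl ⟨genericPoint Z, mem_interior.2 ⟨W ∩ i ⁻¹' O', fun z hz => (key z hz.1).2 hz.2,
      hWo.inter (hO'.preimage i.continuous), hgW, (key _ hgW).1 hq⟩⟩
  · refine Or.inr ⟨genericPoint Z, mem_interior.2 ⟨W, fun z hz hzE => hq ?_, hWo, hgW⟩⟩
    exact (key _ hgW).2 (((hgen z).map i.continuous).mem_open hO' ((key z hz).1 hzE))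

theorem isLocallyConstructible_fibSet (R B : Type u) [CommRing R] [CommRing B] [Algebra R B]
    [Algebra.FinitePresentation R B] : IsLocallyConstructible (fibSet R B) := by
  let P := Algebra.Presentation.ofFinitePresentation R B
  let R₀ := P.Core
  haveI : IsNoetherianRing R₀ := Algebra.FiniteType.isNoetherianRing ℤ R₀
  let B₀ := P.ModelOfHasCoeffs R₀
  let e : R ⊗[R₀] B₀ ≃ₐ[R] B := P.tensorModelOfHasCoeffsEquiv R₀
  rw [@fibSet_congr R (R ⊗[R₀] B₀) B _ _ _ _ _ e, fibSet_baseChange R₀ B₀ R]
  have h := isLocallyConstructible_fibSet_noetherian R₀ B₀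
  let f := CommRingCat.ofHom (e.toRingEquiv.toRingHom.comp
    (Algebra.TensorProduct.includeRight : B₀ →ₐ[R₀] R ⊗[R₀] B₀).toRingHom)
  exact ConsLib.isLocallyConstructible_preimage (Spec.map f) h

/-- The Cohen-Macaulay points of the fibres form a locally constructible set. -/
theorem isLocallyConstructible_cm_fibre {X S : Scheme.{u}} (f : X ⟶ S) [LocallyOfFinitePresentation f] :
    IsLocallyConstructible {x : X |
      LocCoh.IsCohenMacaulayLocalRing ((f.fiber (f x)).presheaf.stalk (f.asFiber x))} := by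
  intro x
  obtain ⟨_, ⟨U, hU, rfl⟩, hxU, -⟩ :=
    S.isBasis_affineOpens.exists_subset_of_mem_open (Set.mem_univ (f x)) isOpen_univ
  obtain ⟨_, ⟨V, hV, rfl⟩, hxV, hVsub⟩ := X.isBasis_affineOpens.exists_subset_of_mem_open
    (show x ∈ (f ⁻¹ᵁ U : X.Opens) from hxU) (f ⁻¹ᵁ U).2
  have hVU : V ≤ f ⁻¹ᵁ U := fun z hz ↦ hVsub hz
  have hfp := f.finitePresentation_appLE hU hV hVU
  algebraize [(f.appLE U V hVU).hom]
  have key : ∀ P, hV.fromSpec P ∈ {x : X |
      LocCoh.IsCohenMacaulayLocalRing ((f.fiber (f x)).presheaf.stalk (f.asFiber x))} ↔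
      P ∈ fibSet Γ(S, U) Γ(X, V) := fun P => by
    have hmem : hV.fromSpec P ∈ V := by
      have h1 : hV.fromSpec P ∈ Set.range hV.fromSpec := ⟨P, rfl⟩
      rwa [hV.range_fromSpec] at h1
    have hPeq : hV.primeIdealOf ⟨hV.fromSpec P, hmem⟩ = P :=
      hV.fromSpec.isOpenEmbedding.injective (hV.fromSpec_primeIdealOf ⟨_, hmem⟩)
    obtain ⟨e⟩ := FlatLib.nonempty_fibreStalk_ringEquiv f hU hV hVU rfl (hV.fromSpec P) hmem
    refine (isCohenMacaulayLocalRing_congr e).trans ?_
    rw [hPeq]
    exact Iff.rfl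
  obtain ⟨A, hA, hAo, hc⟩ := (isLocallyConstructible_fibSet Γ(S, U) Γ(X, V)) (hV.primeIdealOf ⟨x, hxV⟩)
  have hemb := hV.fromSpec.isOpenEmbedding
  refine ⟨hV.fromSpec '' A, ?_, hemb.isOpenMap _ hAo, ?_⟩
  · exact (congrArg (nhds ·) (hV.fromSpec_primeIdealOf ⟨x, hxV⟩)) ▸ hemb.image_mem_nhds.2 hA
  · let ε : A ≃ₜ (hV.fromSpec '' A) :=
      (Equiv.Set.image _ A hemb.injective).toHomeomorphOfIsInducing
        (hemb.restrict (Set.mapsTo_image _ _) hAo).isInducing
    convert! hc.preimage_of_isOpenEmbedding ε.symm.isOpenEmbedding using 1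
    ext ⟨_, P, hP, rfl⟩
    have hε : ε.symm ⟨hV.fromSpec P, P, hP, rfl⟩ = ⟨P, hP⟩ := ε.symm_apply_eq.2 (Subtype.ext rfl)
    simp only [Set.mem_preimage, hε]
    exact key P

end CMFlatLib
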