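import Groth.Agent.GrpSchLib.Cartier
import Groth.Agent.CMFlatLib.BaseChangeScheme
import Groth.Agent.CMFlatLib.Dense
import Groth.Prelude.Def_CurvBase

/-! # Group schemes over a field are Cohen-Macaulay -/

set_option autoImplicit false

universe u

open CategoryTheory AlgebraicGeometry IsLocalRing Limits

namespace CMFlatLib

theorem exists_cm_stalk {k : Type u} [Field k] {X : Scheme.{u}} (f : X ⟶ Spec (CommRingCat.of k))
    [LocallyOfFiniteType f] [Nonempty X] : ∃ x : X, LocCoh.IsCohenMacaulayLocalRing (X.presheaf.stalk x) := by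
  obtain ⟨x⟩ := ‹Nonempty X›
  haveI : LocallyOfFinitePresentation f := inferInstance
  haveI : Flat f := inferInstance
  haveI : Nonempty (f.fiber (f x) : Scheme.{u}) := ⟨f.asFiber x⟩
  obtain ⟨z, hz⟩ := (dense_fiberι_preimage_isCMAt f (f x)).nonempty
  exact ⟨f.fiberι (f x) z, (isCMAt_field_iff f _).1 hz⟩

variable {K : Type u} [Field K]

theorem cm_stalk_of_isAlgClosed [IsAlgClosed K] (G : Over (Spec (CommRingCat.of K))) [GrpObj G]
    [LocallyOfFiniteType G.hom] (x : G.left) : LocCoh.IsCohenMacaulayLocalRing (G.left.presheaf.stalk x) := by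
  haveI := LocallyOfFiniteType.jacobsonSpace G.hom
  haveI : Flat G.hom := inferInstance
  haveI : LocallyOfFinitePresentation G.hom := inferInstance
  have hopen := isOpen_isCMAt G.hom
  by_contra hx
  have hx' : x ∈ {z : G.left | MoreMor.IsCMAt G.hom z}ᶜ := fun h => hx ((isCMAt_field_iff G.hom x).1 h)
  obtain ⟨a, ha, hac⟩ := nonempty_inter_closedPoints ⟨x, hx'⟩ hopen.isClosed_compl.isLocallyClosed
  haveI : Nonempty G.left := ⟨x⟩
  obtain ⟨y₀, hy₀⟩ := exists_cm_stalk G.hom
  obtain ⟨b, hb, hbc⟩ := nonempty_inter_closedPoints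
    (show {z : G.left | MoreMor.IsCMAt G.hom z}.Nonempty from ⟨y₀, (isCMAt_field_iff G.hom y₀).2 hy₀⟩)
    hopen.isLocallyClosed
  obtain ⟨α, hα⟩ := Groth.Agent.GrpSchLib.exists_translation G a hac
  obtain ⟨β, hβ⟩ := Groth.Agent.GrpSchLib.exists_translation G b hbc
  have hαβ : (α ≪≫ β.symm).hom.left a = b := by
    have : β.inv.left (β.hom.left b) = b := by
      rw [← Scheme.Hom.comp_apply, ← Over.comp_left, β.hom_inv_id]
      rfl
    simp [hα, ← hβ, this]
  haveI : IsIso (α ≪≫ β.symm).hom.left := (Over.forget _).map_isIso (α ≪≫ β.symm).hom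
  apply ha
  refine (isCMAt_field_iff G.hom a).2 ((isCohenMacaulayLocalRing_congr
    (asIso ((α ≪≫ β.symm).hom.left.stalkMap a)).commRingCatIsoToRingEquiv).1 ?_)
  rw [hαβ]
  exact (isCMAt_field_iff G.hom b).1 hb

theorem cm_stalk_group (G : Over (Spec (CommRingCat.of K))) [GrpObj G]
    [LocallyOfFiniteType G.hom] (x : G.left) : LocCoh.IsCohenMacaulayLocalRing (G.left.presheaf.stalk x) := by
  let Ω : Type u := AlgebraicClosure K
  let g : Spec (CommRingCat.of Ω) ⟶ Spec (CommRingCat.of K) := Spec.map (CommRingCat.ofHom <| algebraMap K Ω)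
  haveI : GrpObj (Over.mk G.hom) := ‹GrpObj G›
  letI : GrpObj (Over.mk (Limits.pullback.snd G.hom g)) := Over.grpObjMkPullbackSnd
  haveI : LocallyOfFiniteType (Over.mk (Limits.pullback.snd G.hom g)).hom :=
    inferInstanceAs (LocallyOfFiniteType (Limits.pullback.snd G.hom g))
  obtain ⟨z, rfl⟩ := (Limits.pullback.fst G.hom g).surjective x
  obtain ⟨-, h2, -⟩ := isCMAt_baseChange G.hom g (Limits.pullback.snd G.hom g) (Limits.pullback.fst G.hom g)
    (IsPullback.of_hasPullback _ _) z (Or.inr inferInstance)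
  rw [isCMAt_field_iff, isCMAt_field_iff] at h2
  exact h2 (Flat.stalkMap _ _) (cm_stalk_of_isAlgClosed (Over.mk (Limits.pullback.snd G.hom g)) z)

end CMFlatLib
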