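import Groth.Agent.GrpdLib.InvOpen
import Groth.Agent.CMFlatLib.BaseChangeScheme
import Groth.Agent.CMFlatLib.Dense

/-! # The Cohen-Macaulay locus of a groupoid scheme -/

set_option autoImplicit false

universe u

open CategoryTheory Limits AlgebraicGeometry

namespace CMFlatLib

theorem grpd_isCMAt_iff {X Y : Scheme.{u}} (f : X ⟶ Y) (x : X) : Grpd.IsCMAt f x ↔ MoreMor.IsCMAt f x := by
  rw [cm_fibre_stalk_iff]
  exact Iff.rfl

variable {S : Scheme.{u}} (G : Grpd.GroupoidScheme S) [Flat G.s] [LocallyOfFinitePresentation G.s]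

theorem isCMAt_unit_iff (r : G.R) : MoreMor.IsCMAt G.s (G.e (G.t r)) ↔ MoreMor.IsCMAt G.s r := by
  let q₁ := pullback.fst G.s G.s
  let q₂ := pullback.snd G.s G.s
  have hq : IsPullback q₁ q₂ G.s G.s := IsPullback.of_hasPullback _ _
  have hw : q₂ ≫ G.s = (q₁ ≫ G.i) ≫ G.t := by rw [Category.assoc, G.i_t, hq.w]
  let f := pullback.lift q₂ (q₁ ≫ G.i) hw ≫ G.c
  have hdiv : IsPullback q₁ f G.t G.s := GrpdLib.isPullback_div G q₁ q₂ hq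
  let δ : G.R ⟶ pullback G.s G.s := pullback.lift (𝟙 G.R) (𝟙 G.R) rfl
  have h1 : δ ≫ q₁ = 𝟙 G.R := pullback.lift_fst _ _ _
  have h2 : δ ≫ q₂ = 𝟙 G.R := pullback.lift_snd _ _ _
  have hf : δ ≫ f = G.t ≫ G.e := by
    have h3 : δ ≫ pullback.lift q₂ (q₁ ≫ G.i) hw =
        pullback.lift (𝟙 G.R) (𝟙 G.R ≫ G.i) (by rw [Category.assoc, G.i_t]) := by
      apply pullback.hom_ext
      · rw [Category.assoc, pullback.lift_fst, pullback.lift_fst, h2]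
      · rw [Category.assoc, pullback.lift_snd, pullback.lift_snd, ← Category.assoc, h1]
    show δ ≫ pullback.lift q₂ (q₁ ≫ G.i) hw ≫ G.c = _
    rw [← Category.assoc, h3, G.comp_i, Category.id_comp]
  obtain ⟨a1, a2, -⟩ := isCMAt_baseChange G.s G.s q₁ q₂ hq.flip (δ r) (Or.inr inferInstance)
  obtain ⟨b1, b2, -⟩ := isCMAt_baseChange G.s G.t q₁ f hdiv.flip (δ r) (Or.inr inferInstance)
  have e2 : q₂ (δ r) = r := by rw [← Scheme.Hom.comp_apply, h2]; rfl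
  have ef : f (δ r) = G.e (G.t r) := by rw [← Scheme.Hom.comp_apply, hf]; rfl
  have key : MoreMor.IsCMAt G.s (f (δ r)) ↔ MoreMor.IsCMAt G.s (q₂ (δ r)) :=
    ⟨fun h => a2 (Flat.stalkMap _ _) (b1 h), fun h => b2 (Flat.stalkMap _ _) (a1 h)⟩
  rw [e2, ef] at key
  exact key

theorem isCMAt_target_iff (r : G.R) : MoreMor.IsCMAt G.t r ↔ MoreMor.IsCMAt G.s (G.i r) := by
  haveI := GrpdLib.isIso_i G
  have hsq : IsPullback G.i G.t G.s (𝟙 G.U) := IsPullback.of_horiz_isIso ⟨by rw [Category.comp_id, G.i_s]⟩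
  obtain ⟨a1, a2, -⟩ := isCMAt_baseChange G.s (𝟙 G.U) G.t G.i hsq r (Or.inr inferInstance)
  exact ⟨a2 (Flat.stalkMap _ _), a1⟩

theorem exists_cmLocus :
    ∃ U' : G.U.Opens, (G.t ⁻¹ᵁ U' : Set G.R) = {r | Grpd.IsCMAt G.s r} ∧
      (G.s ⁻¹ᵁ U' : Set G.R) = {r | Grpd.IsCMAt G.t r} ∧
      ⇑G.t '' (G.s ⁻¹ᵁ U' : Set G.R) = Set.univ ∧ ⇑G.s '' (G.t ⁻¹ᵁ U' : Set G.R) = Set.univ := by
  let W : G.R.Opens := ⟨{r | MoreMor.IsCMAt G.s r}, isOpen_isCMAt G.s⟩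
  have key : ∀ r, G.t r ∈ G.e ⁻¹ᵁ W ↔ MoreMor.IsCMAt G.s r := isCMAt_unit_iff G
  have hi : ∀ r, G.t (G.i r) = G.s r := fun r => by rw [← Scheme.Hom.comp_apply, G.i_t]
  have hsurj : ∀ u : G.U, ∃ r, G.s r = u ∧ MoreMor.IsCMAt G.s r := by
    intro u
    have he : G.s (G.e u) = u := by rw [← Scheme.Hom.comp_apply, G.e_s]; rfl
    haveI : Nonempty (G.s.fiber (G.s (G.e u)) : Scheme.{u}) := ⟨G.s.asFiber (G.e u)⟩
    obtain ⟨z, hz⟩ := (dense_fiberι_preimage_isCMAt G.s (G.s (G.e u))).nonempty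
    refine ⟨G.s.fiberι _ z, ?_, hz⟩
    exact ((Set.ext_iff.mp (G.s.range_fiberι _) _).mp ⟨z, rfl⟩).trans he
  refine ⟨G.e ⁻¹ᵁ W, ?_, ?_, ?_, ?_⟩
  · ext r
    exact (key r).trans (grpd_isCMAt_iff _ _).symm
  · ext r
    show G.s r ∈ G.e ⁻¹ᵁ W ↔ _
    rw [← hi, key]
    exact (isCMAt_target_iff G r).symm.trans (grpd_isCMAt_iff _ _).symm
  · refine Set.eq_univ_of_forall fun u => ?_
    obtain ⟨r, hr, hcm⟩ := hsurj u
    refine ⟨G.i r, ?_, ?_⟩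
    · show G.s (G.i r) ∈ G.e ⁻¹ᵁ W
      rw [show G.s (G.i r) = G.t r by rw [← Scheme.Hom.comp_apply, G.i_s], key]
      exact hcm
    · rw [hi, hr]
  · refine Set.eq_univ_of_forall fun u => ?_
    obtain ⟨r, hr, hcm⟩ := hsurj u
    exact ⟨r, (key r).2 hcm, hr⟩

end CMFlatLib
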