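import Groth.Agent.CMFlatLib.BaseChangeScheme
import Mathlib

/-! # Closed Cohen-Macaulay points of Jacobson schemes -/

set_option autoImplicit false

universe u

open IsLocalRing CommAlgDim AlgebraicGeometry

namespace CMFlatLib

theorem exists_maximal_isCM {B : Type u} [CommRing B] [IsNoetherianRing B] [IsJacobsonRing B] :
    ∀ I : Ideal B, I ≠ ⊤ → ∃ (m : Ideal B) (_ : m.IsMaximal), I ≤ m ∧
      LocCoh.IsCohenMacaulayLocalRing (Localization.AtPrime m ⧸ I.map (algebraMap B (Localization.AtPrime m))) := by
  intro I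
  induction I using WellFoundedGT.induction with
  | ind I ih =>
    intro hI
    haveI : Nontrivial (B ⧸ I) := Ideal.Quotient.nontrivial_iff.2 hI
    have hlocal : ∀ (m : Ideal B) [m.IsPrime], I ≤ m → I.map (algebraMap B (Localization.AtPrime m)) ≠ ⊤ := by
      intro m _ hIm
      refine ne_top_of_le_ne_top (maximalIdeal.isMaximal (Localization.AtPrime m)).ne_top ?_
      rw [← Localization.AtPrime.map_eq_maximalIdeal]
      exact Ideal.map_mono hIm
    by_cases h : ∃ M : Ideal (B ⧸ I), M.IsMaximal ∧ M ∉ associatedPrimes (B ⧸ I) (B ⧸ I)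
    · obtain ⟨M, hM, hMass⟩ := h
      obtain ⟨fb, hfM, hf⟩ := exists_isSMulRegular_mem (M := B ⧸ I) (I := M)
        fun p hp hle => hMass ((hM.eq_of_le hp.isPrime.ne_top hle) ▸ hp)
      obtain ⟨f, rfl⟩ := Ideal.Quotient.mk_surjective fb
      have hlt : I < I ⊔ Ideal.span {f} := by
        refine lt_of_le_of_ne le_sup_left fun he => ?_
        have : f ∈ I := he ▸ Submodule.mem_sup_right (Ideal.mem_span_singleton_self f)
        rw [Ideal.Quotient.eq_zero_iff_mem.2 this] at hf
        exact one_ne_zero (hf ((zero_smul (B ⧸ I) (1 : B ⧸ I)).trans (zero_smul (B ⧸ I) (0 : B ⧸ I)).symm))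
      have hne : I ⊔ Ideal.span {f} ≠ ⊤ := by
        refine ne_top_of_le_ne_top (Ideal.comap_ne_top (Ideal.Quotient.mk I) hM.ne_top) (sup_le ?_ ?_)
        · intro x hx
          rw [Ideal.mem_comap, Ideal.Quotient.eq_zero_iff_mem.2 hx]
          exact M.zero_mem
        · exact (Ideal.span_singleton_le_iff_mem _).2 hfM
      obtain ⟨m, hm, hle, hcm⟩ := ih _ hlt hne
      have hIm : I ≤ m := le_sup_left.trans hle
      refine ⟨m, hm, hIm, ?_⟩
      let L := Localization.AtPrime m
      haveI : IsLocalRing (L ⧸ I.map (algebraMap B L)) := GorLib.isLocalRing_quotient (hlocal m hIm)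
      haveI : IsNoetherianRing L := IsLocalization.isNoetherianRing m.primeCompl _ inferInstance
      haveI : Module.Flat B L := IsLocalization.flat L m.primeCompl
      haveI : Module.Flat (B ⧸ I) (L ⧸ I.map (algebraMap B L)) := CatLib.flat_quotient I
      let y : L ⧸ I.map (algebraMap B L) := Ideal.Quotient.mk _ (algebraMap B L f)
      have hy : IsSMulRegular (L ⧸ I.map (algebraMap B L)) y := hf.of_flat (S := L ⧸ I.map (algebraMap B L))
      have hfm : algebraMap B L f ∈ maximalIdeal L := by
        rw [← Localization.AtPrime.map_eq_maximalIdeal]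
        exact Ideal.mem_map_of_mem _ (hle (Submodule.mem_sup_right (Ideal.mem_span_singleton_self f)))
      have hym : y ∈ maximalIdeal (L ⧸ I.map (algebraMap B L)) := fun hu => GorLib.not_isUnit_mk (hlocal m hIm) hfm hu
      haveI : IsLocalRing ((L ⧸ I.map (algebraMap B L)) ⧸ Ideal.span {y}) :=
        GorLib.isLocalRing_quotient (ne_top_of_le_ne_top (Ideal.IsMaximal.ne_top inferInstance)
          ((Ideal.span_singleton_le_iff_mem _).2 hym))
      rw [isCohenMacaulayLocalRing_iff_isCM, ← isCM_quotient_iff hy hym, ← isCohenMacaulayLocalRing_iff_isCM]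
      refine (isCohenMacaulayLocalRing_congr ?_).1 hcm
      refine (Ideal.quotEquivOfEq ?_).trans ((DoubleQuot.quotQuotEquivQuotSup (I.map (algebraMap B L))
        (Ideal.span {algebraMap B L f})).symm.trans (Ideal.quotEquivOfEq ?_))
      · rw [Ideal.map_sup, Ideal.map_span, Set.image_singleton]
      · rw [Ideal.map_span, Set.image_singleton]
    · push Not at h
      obtain ⟨m, hm, hIm⟩ := Ideal.exists_le_maximal I hI
      have hfin : {M : Ideal (B ⧸ I) | M.IsMaximal}.Finite :=
        (associatedPrimes.finite (B ⧸ I) (B ⧸ I)).subset h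
      have hmax : ∀ P : Ideal (B ⧸ I), P.IsPrime → P.IsMaximal := by
        intro P hP
        have hj : P.jacobson = P := IsJacobsonRing.out inferInstance hP.isRadical
        have hfin' : {J : Ideal (B ⧸ I) | P ≤ J ∧ J.IsMaximal}.Finite := hfin.subset fun J hJ => hJ.2
        have h1 : hfin'.toFinset.inf id ≤ P := by
          conv_rhs => rw [← hj]
          refine le_sInf fun J hJ => ?_
          exact Finset.inf_le (f := id) (hfin'.mem_toFinset.2 hJ)
        obtain ⟨J, hJ, hJP⟩ := (hP.inf_le').1 h1
        obtain ⟨hPJ, hJmax⟩ := hfin'.mem_toFinset.1 hJ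
        exact (le_antisymm hPJ hJP).symm ▸ hJmax
      refine ⟨m, hm, hIm, ?_⟩
      let L := Localization.AtPrime m
      haveI : IsLocalRing (L ⧸ I.map (algebraMap B L)) := GorLib.isLocalRing_quotient (hlocal m hIm)
      haveI : IsNoetherianRing L := IsLocalization.isNoetherianRing m.primeCompl _ inferInstance
      haveI : Ring.KrullDimLE 0 (L ⧸ I.map (algebraMap B L)) := by
        refine Ring.KrullDimLE.mk₀ fun Q hQ => ?_
        let q := Q.comap (Ideal.Quotient.mk (I.map (algebraMap B L)))
        let p := q.comap (algebraMap B L)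
        have hp : I ≤ p := fun x hx => by
          rw [Ideal.mem_comap, Ideal.mem_comap, Ideal.Quotient.eq_zero_iff_mem.2 (Ideal.mem_map_of_mem _ hx)]
          exact Q.zero_mem
        have hp2 : (p.map (Ideal.Quotient.mk I)).IsMaximal :=
          hmax _ (Ideal.map_isPrime_of_surjective Ideal.Quotient.mk_surjective (by rwa [Ideal.mk_ker]))
        have hpm : p = m := by
          have h3 : (p.map (Ideal.Quotient.mk I)).comap (Ideal.Quotient.mk I) = p := by
            rw [Ideal.comap_map_of_surjective' _ Ideal.Quotient.mk_surjective, Ideal.mk_ker, sup_of_le_left hp]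
          have hpmax : p.IsMaximal := h3 ▸ Ideal.comap_isMaximal_of_surjective _ Ideal.Quotient.mk_surjective
          refine hpmax.eq_of_le hm.ne_top fun x hx => ?_
          by_contra hxm
          exact (Ideal.IsPrime.comap (Ideal.Quotient.mk (I.map (algebraMap B L)))).ne_top
            (Ideal.eq_top_of_isUnit_mem q hx (IsLocalization.map_units L (⟨x, hxm⟩ : m.primeCompl)))
        have hq : q = maximalIdeal L := by
          rw [← IsLocalization.map_under m.primeCompl L q]
          show (q.comap (algebraMap B L)).map (algebraMap B L) = maximalIdeal L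
          rw [show q.comap (algebraMap B L) = m from hpm, Localization.AtPrime.map_eq_maximalIdeal]
        have hqmax : q.IsMaximal := hq ▸ maximalIdeal.isMaximal L
        exact (Ideal.map_comap_of_surjective _ Ideal.Quotient.mk_surjective Q) ▸
          (Ideal.IsMaximal.map_of_surjective_of_ker_le Ideal.Quotient.mk_surjective
            (Ideal.ker_le_comap _) : (q.map (Ideal.Quotient.mk (I.map (algebraMap B L)))).IsMaximal)
      rw [isCohenMacaulayLocalRing_iff_isCM]
      exact CatLib.isCM_of_hasSeqIn (hasSeqIn_zero _) (ringKrullDimZero_iff_ringKrullDim_eq_zero.1 inferInstance).le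

theorem exists_closed_cm_point {X : Scheme.{u}} [IsLocallyNoetherian X] [JacobsonSpace X] [Nonempty X]
    (hJ : ∀ U : X.affineOpens, IsJacobsonRing Γ(X, U.1)) :
    ∃ x : X, IsClosed ({x} : Set X) ∧ LocCoh.IsCohenMacaulayLocalRing (X.presheaf.stalk x) := by
  obtain ⟨z⟩ := ‹Nonempty X›
  obtain ⟨_, ⟨U, hU, rfl⟩, hzU, -⟩ := X.isBasis_affineOpens.exists_subset_of_mem_open (Set.mem_univ z) isOpen_univ
  haveI : IsNoetherianRing Γ(X, U) := IsLocallyNoetherian.component_noetherian ⟨U, hU⟩
  haveI := hJ ⟨U, hU⟩
  haveI : Nontrivial Γ(X, U) := (hU.primeIdealOf ⟨z, hzU⟩).nontrivial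
  obtain ⟨m, hm, -, hcm⟩ := exists_maximal_isCM (⊥ : Ideal Γ(X, U)) bot_ne_top
  let y : PrimeSpectrum Γ(X, U) := ⟨m, hm.isPrime⟩
  have hy : hU.fromSpec y ∈ U := hU.range_fromSpec.le ⟨y, rfl⟩
  refine ⟨hU.fromSpec y, ?_, ?_⟩
  · refine isClosed_singleton_of_isLocallyClosed_singleton ?_
    rw [← Set.image_singleton]
    exact (((PrimeSpectrum.isClosed_singleton_iff_isMaximal y).2 hm).isLocallyClosed).image
      hU.fromSpec.isOpenEmbedding.isInducing hU.fromSpec.isOpenEmbedding.isOpen_range.isLocallyClosed
  · letI := TopCat.Presheaf.algebra_section_stalk X.presheaf ⟨_, hy⟩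
    haveI : IsLocalization.AtPrime (X.presheaf.stalk (hU.fromSpec y)) m := hU.isLocalization_stalk' y hy
    exact (isCohenMacaulayLocalRing_congr ((Ideal.quotEquivOfEq (Ideal.map_bot)).trans
      ((RingEquiv.quotientBot _).trans
        (IsLocalization.algEquiv m.primeCompl (Localization.AtPrime m) (X.presheaf.stalk (hU.fromSpec y))).toRingEquiv))).1 hcm

end CMFlatLib
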